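/-
No simple group of four orders with self-centralising subgroups of order seven.
-/
import Cfsg.Agent.Lib.U33Recog.Values
import Cfsg.Agent.Lib.Blocks.ThreePrimes
import Cfsg.Agent.Lib.CharTheory.PowerMap
import Cfsg.Agent.Lib.CharTheory.Coherence

set_option autoImplicit false
set_option linter.style.haveILetI false
set_option linter.unusedSectionVars false
set_option maxHeartbeats 1000000

namespace CfsgM24Det

open Cfsg CfsgLib.CharTheory CfsgLib.Blocks CfsgLib.SmallOrders
open scoped ComplexConjugate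

universe u

variable {K : Type u} [Group K] [Fintype K]

/-- The signed degrees in the principal block. -/
theorem seven_degrees : ∀ m ∈ ([864, 6912, 192, 1536] : List ℕ),
    (cands 7 m (7 * m) 2 1).all (fun a => (cands 7 m (7 * m) 2 1).all fun b =>
      !degOk 7 m (7 * m) 2 3 [a, b] ||
        ([(-6, 8), (8, -6), (-6, -27), (-27, -6), (8, -27), (-27, 8)] : List (ℤ × ℤ)).contains (a, b)) = true ∧
    (¬ 27 ∣ 7 * m → (cands 7 m (7 * m) 2 1).all (fun a => !decide (a = -27)) = true) := by
  decide +kernel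

/-- A character of degree three with integral values has a small Sylow two-subgroup. -/
theorem two_group_bound [IsSimpleGroup K] {ψ : IrrCharacter K} (hψ : ψ ≠ oneIrr K)
    (hd : charDegree (ψ : K → ℂ) = 3) {P : Subgroup K}
    (hint : ∀ x ∈ P, ∃ v : ℤ, (ψ : K → ℂ) x = (v : ℂ)) : Nat.card P ∣ 720 := by
  classical
  haveI : Fintype P := Fintype.ofFinite _
  have hf : IsGeneralizedCharacter P (fun x : P => (ψ : K → ℂ) x) :=
    isGenChar_of_char (isCharacter_restrict (isCharacter_of_irr ψ.2) P)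
  have hconst : ∀ v : ℤ, IsGeneralizedCharacter P (fun _ : P => (v : ℂ)) := fun v => by
    have := isGenChar_intSmul v (isGenChar_of_char (isCharacter_one (G := P)))
    convert this using 1
    funext x; simp
  have hstep : ∀ v : ℤ, IsGeneralizedCharacter P (fun x : P => (ψ : K → ℂ) x - (v : ℂ)) :=
    fun v => isGenChar_sub hf (hconst v)
  have hprod : IsGeneralizedCharacter P (fun x : P => ((ψ : K → ℂ) x - ((-3 : ℤ) : ℂ)) *
      (((ψ : K → ℂ) x - ((-2 : ℤ) : ℂ)) * (((ψ : K → ℂ) x - ((-1 : ℤ) : ℂ)) *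
      (((ψ : K → ℂ) x - ((0 : ℤ) : ℂ)) * (((ψ : K → ℂ) x - ((1 : ℤ) : ℂ)) *
        ((ψ : K → ℂ) x - ((2 : ℤ) : ℂ))))))) :=
    isGenChar_mul (hstep _) (isGenChar_mul (hstep _) (isGenChar_mul (hstep _) (isGenChar_mul (hstep _)
      (isGenChar_mul (hstep _) (hstep _)))))
  obtain ⟨z, hz⟩ := classInner_genChar_int hprod (isGenChar_of_char (isCharacter_one (G := P)))
  rw [classInner, Finset.sum_eq_single (1 : P)] at hz
  · simp only [map_one, mul_one, Subgroup.coe_one, ← irr_charDegree_cast, hd] at hz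
    have hP : (Nat.card P : ℂ) ≠ 0 := Nat.cast_ne_zero.mpr Nat.card_pos.ne'
    have : ((720 : ℤ) : ℂ) = (((Nat.card P : ℤ) * z : ℤ) : ℂ) := by
      push_cast at hz ⊢
      field_simp at hz
      linear_combination hz
    exact Int.natCast_dvd_natCast.mp ⟨z, by exact_mod_cast this⟩
  · intro x _ hx
    obtain ⟨v, hv⟩ := hint x x.2
    have hle := norm_char_le (isCharacter_of_irr ψ.2) (x : K)
    rw [hv, ← irr_charDegree_cast, hd, Complex.norm_intCast, Complex.norm_natCast] at hle
    have hle' : |v| ≤ 3 := by exact_mod_cast hle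
    rw [abs_le] at hle'
    have hv3 : v ≠ 3 := fun e => hx (Subtype.ext (eq_one_of_apply_eq_apply_one hψ (y := (x : K))
      (by rw [hv, ← irr_charDegree_cast, hd, e]; norm_num)))
    simp only [map_one, mul_one, hv]
    obtain ⟨h1, h2⟩ := hle'
    interval_cases v <;> simp_all
  · intro h; exact absurd (Finset.mem_univ _) h

/-- A subgroup generated by commuting elements of coprime order. -/
theorem coprime_sum {t : K} (ht : orderOf t = 2) {Q : Subgroup K} (hQ : Nat.card Q = 27)
    (hcomm : ∀ x ∈ Q, Commute t x) :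
    ∃ H : Subgroup K, Nat.card H = 54 ∧ t ∈ H ∧ ∀ h ∈ H, h = 1 ∨ h = t ∨ 3 ∣ orderOf h := by
  classical
  let f : Q × Subgroup.zpowers t →* K := MonoidHom.noncommCoprod Q.subtype (Subgroup.zpowers t).subtype
    fun x y => by
      obtain ⟨i, hi⟩ := Subgroup.mem_zpowers_iff.mp y.2
      show Commute (x : K) (y : K)
      rw [← hi]
      exact ((hcomm x x.2).symm).zpow_right i
  have hval : ∀ q : Q × Subgroup.zpowers t, f q = (q.1 : K) * (q.2 : K) := fun q => rfl
  have hcop : ∀ x : Q, ∀ y : Subgroup.zpowers t, (orderOf (x : K)).Coprime (orderOf (y : K)) := fun x y => by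
    refine Nat.Coprime.coprime_dvd_left (Subgroup.orderOf_dvd_natCard _ x.2)
      (Nat.Coprime.coprime_dvd_right (Subgroup.orderOf_dvd_natCard _ y.2) ?_)
    rw [hQ, Nat.card_zpowers, ht]; norm_num
  have hinj : Function.Injective f := by
    rw [injective_iff_map_eq_one]
    rintro ⟨x, y⟩ h
    rw [hval] at h
    have e : (x : K) = (y : K)⁻¹ := eq_inv_of_mul_eq_one_left h
    have hx : (x : K) = 1 := by
      have h1 := hcop x y
      rw [e, orderOf_inv, Nat.coprime_self, orderOf_eq_one_iff] at h1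
      rw [e, h1, inv_one]
    have hy : (y : K) = 1 := by rw [hx, one_mul] at h; exact h
    exact Prod.ext (Subtype.ext hx) (Subtype.ext hy)
  refine ⟨f.range, ?_, ⟨(1, ⟨t, Subgroup.mem_zpowers t⟩), by rw [hval]; simp⟩, ?_⟩
  · rw [← Nat.card_congr (MonoidHom.ofInjective hinj).toEquiv, Nat.card_prod, hQ, Nat.card_zpowers, ht]
  · rintro _ ⟨⟨x, y⟩, rfl⟩
    rw [hval]
    by_cases hx : (x : K) = 1
    · obtain ⟨k, hk, hk'⟩ : ∃ k < 2, t ^ k = (y : K) := by
        have := y.2
        rw [← (isOfFinOrder_of_finite t).mem_powers_iff_mem_zpowers, Submonoid.mem_powers_iff] at this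
        obtain ⟨k, hk⟩ := this
        exact ⟨k % 2, Nat.mod_lt _ (by norm_num), by rw [← hk, ← ht, pow_mod_orderOf]⟩
      rw [hx, one_mul, ← hk']
      interval_cases k <;> simp
    · refine Or.inr (Or.inr ?_)
      have hc : Commute (x : K) (y : K) := by
        obtain ⟨i, hi⟩ := Subgroup.mem_zpowers_iff.mp y.2
        rw [← hi]; exact ((hcomm x x.2).symm).zpow_right i
      rw [hc.orderOf_mul_eq_mul_orderOf_of_coprime (hcop x y)]
      refine dvd_mul_of_dvd_left ?_ _
      obtain ⟨k, -, hk⟩ := (Nat.dvd_prime_pow Nat.prime_three).1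
        (show orderOf (x : K) ∣ 3 ^ 3 by have := Subgroup.orderOf_dvd_natCard _ x.2; rwa [hQ] at this)
      rw [hk]
      refine dvd_pow_self _ fun e => hx (orderOf_eq_one_iff.mp (by rw [hk, e, pow_zero]))

/-- A simple group of one of the four orders has no self-centralising subgroup of order seven. -/
theorem no_simple_seven [IsSimpleGroup K] {m : ℕ} (hm : m ∈ ([864, 6912, 192, 1536] : List ℕ))
    (hK : Nat.card K = 7 * m)
    (hC : ∀ y : K, orderOf y = 7 → Nat.card (Subgroup.centralizer ({y} : Set K)) = 7)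
    (hN : ∀ y : K, orderOf y = 7 → Nat.card (Subgroup.normalizer (Subgroup.zpowers y : Set K)) = 21)
    (h27 : 27 ∣ Nat.card K → ∃ (t : K) (Q : Subgroup K), orderOf t = 2 ∧ Nat.card Q = 27 ∧
      ∀ x ∈ Q, Commute t x) : False := by
  classical
  haveI hp : Fact (Nat.Prime 7) := ⟨by norm_num⟩
  have hm7 : ¬ 7 ∣ m ∧ 1 < m ∧ 32 ∣ m := by
    simp only [List.mem_cons, List.not_mem_nil, or_false] at hm
    rcases hm with rfl | rfl | rfl | rfl <;> norm_num
  obtain ⟨M, P, n, e, S, hM, hP, hnm, -, -, -, he2, hmul, -, -, hNe⟩ :=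
    exists_data (G := K) (p := 7) (m := m) (by norm_num) hK hm7.1 hm7.2.1
  obtain ⟨x, hx, hx1⟩ : ∃ x ∈ (P : Subgroup K), x ≠ 1 :=
    ((Subgroup.bot_or_exists_ne_one (P : Subgroup K)).resolve_left fun hb => by
      have : Nat.card (P : Subgroup K) = 7 := hP
      rw [hb, Subgroup.card_bot] at this
      omega)
  have hxo := orderOf_eq hP hx hx1
  have hPz := zpowers_eq hP hx hx1
  have hC7 : Nat.card (Subgroup.centralizer ((P : Subgroup K) : Set K)) = 7 := by
    rw [← hPz, Subgroup.zpowers_eq_closure, Subgroup.centralizer_closure]; exact hC x hxo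
  have hN7 := hN x hxo
  rw [hPz, hNe, hC7] at hN7
  obtain rfl : e = 3 := by omega
  have hval : (Nat.card K).factorization 7 = 1 := by
    rw [hK, Nat.factorization_mul (by norm_num) (by omega), Finsupp.add_apply, hp.out.factorization_self,
      Nat.factorization_eq_zero_of_not_dvd hm7.1]
  have hnp : ¬ (7 * m).Prime := Nat.not_prime_mul (by norm_num) (by omega)
  have hna := not_comm hK hnp
  obtain ⟨c₁, c₂, hne, hX⟩ := Finset.card_eq_two.1 S.cardX
  obtain ⟨ψ, hψ⟩ : S.Y.Nonempty := Finset.card_pos.1 (S.cardY ▸ S.cardY_pos)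
  set s : IrrCharacter K → ℤ := fun χ => S.δ χ * (charDegree (χ : K → ℂ) : ℤ) with hs
  have hneX : ∀ χ ∈ S.X, χ ≠ oneIrr K := fun χ hχ e => S.one_notX (e ▸ hχ)
  have hsq := S.sum_sq_degree_le
  have hcand : ∀ χ ∈ S.X, s χ ∈ cands 7 m (7 * m) 2 1 := by
    intro χ hχ
    have hn := natAbs_sign_mul (S.sign χ hχ) (charDegree (χ : K → ℂ))
    refine mem_cands (by omega) ?_ (by rw [hs, hn]; exact two_le_charDegree hna (hneX χ hχ))
      (S.degX χ hχ) ?_
    · rw [hs, hn]
      refine dvd_of_dvd_mul_prime hp.out (hK ▸ charDegree_dvd_card χ) fun hd => ?_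
      have := dvd_sub (dvd_mul_of_dvd_right (Int.natCast_dvd_natCast.2 hd) (S.δ χ)) (S.degX χ hχ)
      simp only [sub_sub_cancel] at this
      norm_num at this
    · rw [hs, hn, ← sq]
      have h9 : charDegree (χ : K → ℂ) ^ 2 ≤ ∑ φ ∈ S.X, charDegree (φ : K → ℂ) ^ 2 :=
        Finset.single_le_sum (f := fun φ : IrrCharacter K => charDegree (φ : K → ℂ) ^ 2)
          (fun _ _ => Nat.zero_le _) hχ
      omega
  have hrel := S.degree_relation hp.out hψ
  rw [hX, Finset.sum_pair hne] at hrel
  have hokk : degOk 7 m (7 * m) 2 3 [s c₁, s c₂] = true := by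
    have hn := natAbs_sign_mul S.signY (charDegree (ψ : K → ℂ))
    have hsum : 1 + [s c₁, s c₂].sum = S.ε * charDegree (ψ : K → ℂ) := by simp [hs, hrel]
    simp only [degOk, Bool.and_eq_true, decide_eq_true_eq, hsum, hn]
    refine ⟨⟨⟨?_, two_le_charDegree hna fun e => S.one_notY (e ▸ hψ)⟩,
      Int.emod_eq_zero_of_dvd (S.degY ψ hψ)⟩, ?_⟩
    · refine dvd_of_dvd_mul_prime hp.out (hK ▸ charDegree_dvd_card ψ) fun hd => ?_
      have := dvd_sub (dvd_mul_of_dvd_right (Int.natCast_dvd_natCast.2 hd) S.ε) (S.degY ψ hψ)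
      simp only [sub_sub_cancel] at this
      norm_num at this
    refine le_trans (le_of_eq ?_) (hK ▸ hsq)
    rw [Finset.sum_congr (s₁ := S.Y) rfl fun φ hφ => by rw [S.charDegree_eq hp.out hφ hψ],
      Finset.sum_const, S.cardY, smul_eq_mul, hX, Finset.sum_pair hne]
    simp [hs, natAbs_sign_mul (S.sign c₁ (by simp [hX])), natAbs_sign_mul (S.sign c₂ (by simp [hX])), sq]
  obtain ⟨hdeg, hno27⟩ := seven_degrees m hm
  have hres := List.all_eq_true.1 (List.all_eq_true.1 hdeg _ (hcand c₁ (by simp [hX]))) _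
    (hcand c₂ (by simp [hX]))
  rw [hokk] at hres
  simp only [Bool.not_true, Bool.false_or, List.contains_iff_mem, List.mem_cons, List.not_mem_nil, or_false,
    Prod.mk.injEq] at hres
  -- a character of degree twenty-seven has defect zero at three
  have no27 : ∀ χ ∈ S.X, s χ ≠ -27 := by
    intro χ hχ hχ27
    have hd : charDegree (χ : K → ℂ) = 27 := by
      rcases S.sign χ hχ with e | e <;> simp only [hs, e] at hχ27 <;> omega
    by_cases h : 27 ∣ 7 * m
    · obtain ⟨t, Q, ht, hQ, hcomm⟩ := h27 (hK ▸ h)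
      haveI : Fact (Nat.Prime 3) := ⟨Nat.prime_three⟩
      obtain ⟨M3, hM3⟩ := exists_pModular Nat.prime_three
      have hv3 : dv 3 (χ : K → ℂ) = (Nat.card K).factorization 3 := by
        rw [dv, hd, hK]
        simp only [List.mem_cons, List.not_mem_nil, or_false] at hm
        rcases hm with rfl | rfl | rfl | rfl <;>
          first
          | (exfalso; norm_num at h; done)
          | (rw [show (27 : ℕ) = 3 ^ 3 by norm_num, Nat.Prime.factorization_pow Nat.prime_three,
              Finsupp.single_eq_same]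
             first
             | (rw [show 7 * 864 = 3 ^ 3 * 224 by norm_num, Nat.factorization_mul (by norm_num) (by norm_num),
                  Finsupp.add_apply, Nat.Prime.factorization_pow Nat.prime_three, Finsupp.single_eq_same,
                  Nat.factorization_eq_zero_of_not_dvd (by norm_num)])
             | (rw [show 7 * 6912 = 3 ^ 3 * 1792 by norm_num, Nat.factorization_mul (by norm_num) (by norm_num),
                  Finsupp.add_apply, Nat.Prime.factorization_pow Nat.prime_three, Finsupp.single_eq_same,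
                  Nat.factorization_eq_zero_of_not_dvd (by norm_num)]))
      obtain ⟨H, hH, htH, hHv⟩ := coprime_sum ht hQ hcomm
      haveI : Fintype H := Fintype.ofFinite _
      obtain ⟨v, hv, hle, hpar, hne⟩ := exists_value (hneX χ hχ) ht
      have ht1 : (⟨t, htH⟩ : H) ≠ 1 := fun e => by
        have : t = 1 := congrArg Subtype.val e
        rw [this, orderOf_one] at ht; omega
      obtain ⟨k, hk⟩ := classInner_char_nat (isCharacter_restrict (isCharacter_of_irr χ.2) H)
        (isCharacter_one (G := H))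
      rw [classInner, hH] at hk
      have hsum : ∑ g : H, (χ : K → ℂ) g * conj (1 : ℂ) = 27 + (v : ℂ) := by
        rw [← Finset.sum_subset (Finset.subset_univ ({1, ⟨t, htH⟩} : Finset H)) ?_, Finset.sum_pair ht1.symm]
        · simp only [map_one, mul_one, Subgroup.coe_one, ← irr_charDegree_cast, hd, hv, Nat.cast_ofNat]
        · intro g _ hg
          simp only [Finset.mem_insert, Finset.mem_singleton, not_or] at hg
          rcases hHv g g.2 with e | e | e
          · exact absurd (Subtype.ext e) hg.1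
          · exact absurd (Subtype.ext e) hg.2
          · rw [ThreePrimes.vanish_of_defZero hM3 χ hv3 e, zero_mul]
      rw [hsum] at hk
      have hk' : 27 + v = 54 * (k : ℤ) := by
        apply Int.cast_injective (α := ℂ)
        push_cast at hk ⊢
        linear_combination (54 : ℂ) * hk
      rw [hd] at hle hpar hne
      have h4 := Order5616.four_dvd hna (χ := χ) (z := t) (v := v)
        (by rw [← sq, ← ht, pow_orderOf_eq_one]) hv
      rw [hd] at h4
      omega
    · have h' := List.all_eq_true.1 (hno27 h) _ (hcand χ hχ)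
      simp only [Bool.not_eq_true', decide_eq_false_iff_not] at h'
      exact h' hχ27
  obtain ⟨a, b, hab, hXab, ha, hb⟩ : ∃ a b, a ≠ b ∧ S.X = {a, b} ∧ s a = -6 ∧ s b = 8 := by
    rcases hres with ⟨h, h'⟩ | ⟨h, h'⟩ | ⟨h, h'⟩ | ⟨h, h'⟩ | ⟨h, h'⟩ | ⟨h, h'⟩
    · exact ⟨c₁, c₂, hne, hX, h, h'⟩
    · exact ⟨c₂, c₁, hne.symm, by rw [hX, Finset.pair_comm], h', h⟩
    · exact absurd h' (no27 c₂ (by simp [hX]))
    · exact absurd h (no27 c₁ (by simp [hX]))
    · exact absurd h' (no27 c₂ (by simp [hX]))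
    · exact absurd h (no27 c₁ (by simp [hX]))
  have haX : a ∈ S.X := by simp [hXab]
  have hbX : b ∈ S.X := by simp [hXab]
  have hda : S.δ a = -1 ∧ charDegree (a : K → ℂ) = 6 := by
    rcases S.sign a haX with e | e <;> simp only [hs, e] at ha <;> omega
  have hdb : S.δ b = 1 ∧ charDegree (b : K → ℂ) = 8 := by
    rcases S.sign b hbX with e | e <;> simp only [hs, e] at hb <;> omega
  have hr := S.degree_relation hp.out hψ
  rw [hXab, Finset.sum_pair hab, hda.1, hda.2, hdb.1, hdb.2] at hr
  have hψd : S.ε = 1 ∧ charDegree (ψ : K → ℂ) = 3 := by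
    rcases S.signY with e | e <;> rw [e] at hr <;> omega
  -- the two characters are rational
  have hfix : ∀ χ : IrrCharacter K, χ ∈ S.X → ¬ 7 ∣ charDegree (χ : K → ℂ) →
      (∀ φ : IrrCharacter K, φ ∈ S.X ∨ φ ∈ S.Y → charDegree (φ : K → ℂ) = charDegree (χ : K → ℂ) → φ = χ) →
      ∀ g : K, ∃ z : ℤ, (χ : K → ℂ) g = z := by
    intro χ hχ h7 huniq g
    refine rational_int_of_invariant (isCharacter_of_irr χ.2) g fun k hk => ?_
    have hd : charDegree (powIrr hk χ : K → ℂ) = charDegree (χ : K → ℂ) := by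
      have : ((charDegree (powIrr hk χ : K → ℂ) : ℕ) : ℂ) = ((charDegree (χ : K → ℂ) : ℕ) : ℂ) := by
        rw [irr_charDegree_cast, irr_charDegree_cast]
        show (χ : K → ℂ) (1 ^ k) = (χ : K → ℂ) 1
        rw [one_pow]
      exact_mod_cast this
    have hblock : powIrr hk χ ∈ principalBlock M K := by
      by_contra hout
      exact h7 (hd ▸ CfsgLib.U33Recog.seven_dvd hP fun y hy hy1 => vanish_outside hM hP hC7 hval hout hy hy1)
    rcases (S.block _).1 hblock with h | h
    · exfalso
      have h1 : charDegree (oneIrr K : K → ℂ) = 1 := by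
        have : ((charDegree (oneIrr K : K → ℂ) : ℕ) : ℂ) = ((1 : ℕ) : ℂ) := by
          rw [irr_charDegree_cast]; simp [oneIrr]
        exact_mod_cast this
      rw [h, h1] at hd
      have := two_le_charDegree hna (hneX χ hχ)
      omega
    · exact congrArg (fun φ : IrrCharacter K => (φ : K → ℂ) g) (huniq _ h hd)
  have huniq : ∀ φ : IrrCharacter K, φ ∈ S.X ∨ φ ∈ S.Y →
      φ = a ∨ φ = b ∨ charDegree (φ : K → ℂ) = 3 := by
    rintro φ (h | h)
    · rw [hXab, Finset.mem_insert, Finset.mem_singleton] at h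
      tauto
    · exact Or.inr (Or.inr ((S.charDegree_eq hp.out h hψ).trans hψd.2))
  have hra := hfix a haX (by rw [hda.2]; norm_num) fun φ hφ hd => by
    rcases huniq φ hφ with h | h | h
    · exact h
    · subst h; omega
    · omega
  have hrb := hfix b hbX (by rw [hdb.2]; norm_num) fun φ hφ hd => by
    rcases huniq φ hφ with h | h | h
    · subst h; omega
    · exact h
    · omega
  haveI : Fact (Nat.Prime 2) := ⟨Nat.prime_two⟩
  obtain ⟨R, hR⟩ := Sylow.exists_subgroup_card_pow_prime (G := K) 2 (n := 5)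
    (by rw [hK]; exact dvd_mul_of_dvd_right hm7.2.2 _)
  have := two_group_bound (ψ := ψ) (fun e => S.one_notY (e ▸ hψ)) hψd.2 (P := R) fun g hg => by
    obtain ⟨za, hza⟩ := hra g
    obtain ⟨zb, hzb⟩ := hrb g
    refine ⟨1 - za + zb, ?_⟩
    have h7 : ¬ 7 ∣ orderOf g := fun h => by
      have := h.trans (Subgroup.orderOf_dvd_natCard _ hg)
      rw [hR] at this
      norm_num at this
    have h := S.relY ψ hψ g h7
    rw [hXab, Finset.sum_pair hab, hda.1, hdb.1, hψd.1, hza, hzb] at h
    push_cast at h ⊢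
    linear_combination h
  rw [hR] at this
  norm_num at this

end CfsgM24Det
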