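/-
A two-group of class two and order sixty-four does not carry the simple group of order 168.
-/
import Mathlib

set_option autoImplicit false
set_option linter.style.haveILetI false
set_option linter.unusedSectionVars false

namespace CfsgM24Det

open Subgroup
open scoped Pointwise

variable {K : Type*} [Group K] [Finite K]

theorem no_class_two (hK : Nat.card K = 10752) (Q0 W : Subgroup K) [Q0.Normal] [W.Normal] (hle : W ≤ Q0)
    (hQ : Nat.card Q0 = 64) (hW : Nat.card W = 8)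
    (hcen : ∀ v ∈ Q0, (∀ u ∈ Q0, v * u = u * v) ↔ v ∈ W)
    {w : K} (hw : orderOf w = 7)
    (hfpf : ∀ v ∈ Q0, w * v = v * w → v = 1)
    {x : K} (hx : orderOf x = 3) (hfix : Nat.card ↥(Q0 ⊓ centralizer ({x} : Set K)) = 4)
    (hker : ∀ c : K, (∀ a ∈ W, c * a = a * c) → c ∈ Q0) : False := by
  classical
  have hWc : ∀ a ∈ W, ∀ u ∈ Q0, a * u = u * a := fun a ha => (hcen a (hle ha)).mpr ha
  have hWW : ∀ a ∈ W, ∀ b ∈ W, a * b = b * a := fun a ha b hb => hWc a ha b (hle hb)
  -- the element of order seven moves cosets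
  have hpowfpf : ∀ j : ℕ, ¬ 7 ∣ j → ∀ v ∈ Q0, w ^ j * v = v * w ^ j → v = 1 := by
    intro j hj v hv h
    obtain ⟨k, hk⟩ := exists_pow_eq_self_of_coprime (x := w) (n := j)
      (by rw [hw]; exact ((Nat.Prime.coprime_iff_not_dvd (by norm_num)).mpr hj).symm)
    refine hfpf v hv ?_
    rw [← hk]
    exact ((show Commute (w ^ j) v from h).pow_left k).eq
  have hmove : ∀ j : ℕ, ¬ 7 ∣ j → ∀ v ∈ Q0, v⁻¹ * (w ^ j * v * (w ^ j)⁻¹) ∈ W → v ∈ W := by
    intro j hj v hv hmem
    let ψ : W → W := fun c => ⟨(c : K)⁻¹ * (w ^ j * c * (w ^ j)⁻¹),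
      mul_mem (inv_mem c.2) ((inferInstance : W.Normal).conj_mem _ c.2 _)⟩
    have hψ : Function.Injective ψ := fun c d e => by
      have e' : (c : K)⁻¹ * (w ^ j * c * (w ^ j)⁻¹) = (d : K)⁻¹ * (w ^ j * d * (w ^ j)⁻¹) := congrArg Subtype.val e
      have h2 : w ^ j * ((c : K) * (d : K)⁻¹) * (w ^ j)⁻¹ = (c : K) * (d : K)⁻¹ := by
        calc w ^ j * ((c : K) * (d : K)⁻¹) * (w ^ j)⁻¹
            = (c : K) * ((c : K)⁻¹ * (w ^ j * c * (w ^ j)⁻¹)) * (w ^ j * d * (w ^ j)⁻¹)⁻¹ := by group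
          _ = (c : K) * ((d : K)⁻¹ * (w ^ j * d * (w ^ j)⁻¹)) * (w ^ j * d * (w ^ j)⁻¹)⁻¹ := by rw [e']
          _ = (c : K) * (d : K)⁻¹ := by group
      exact Subtype.ext (mul_inv_eq_one.mp (hpowfpf j hj _ (hle (mul_mem c.2 (inv_mem d.2)))
        (mul_inv_eq_iff_eq_mul.mp h2)))
    obtain ⟨c, hc⟩ := (Finite.surjective_of_injective hψ) ⟨_, hmem⟩
    have hc' : (c : K)⁻¹ * (w ^ j * c * (w ^ j)⁻¹) = v⁻¹ * (w ^ j * v * (w ^ j)⁻¹) := congrArg Subtype.val hc
    have hfx : w ^ j * (v * (c : K)⁻¹) * (w ^ j)⁻¹ = v * (c : K)⁻¹ := by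
      calc w ^ j * (v * (c : K)⁻¹) * (w ^ j)⁻¹
          = v * (v⁻¹ * (w ^ j * v * (w ^ j)⁻¹)) * (w ^ j * (c : K) * (w ^ j)⁻¹)⁻¹ := by group
        _ = v * ((c : K)⁻¹ * (w ^ j * c * (w ^ j)⁻¹)) * (w ^ j * (c : K) * (w ^ j)⁻¹)⁻¹ := by rw [hc']
        _ = v * (c : K)⁻¹ := by group
    have := hpowfpf j hj _ (mul_mem hv (inv_mem (hle c.2))) (mul_inv_eq_iff_eq_mul.mp hfx)
    rw [mul_inv_eq_one.mp this]
    exact c.2
  set f := QuotientGroup.mk' W
  have hfW : ∀ {a : K}, f a = 1 ↔ a ∈ W := fun {a} => QuotientGroup.eq_one_iff a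
  have hQbar : Nat.card (Q0.map f) = 8 := by
    have h2 : Nat.card ((Q0.map f).comap f) = Nat.card W * Nat.card (Q0.map f) :=
      QuotientGroup.card_preimage_mk W ((Q0.map f : Subgroup (K ⧸ W)) : Set (K ⧸ W))
    have h3 : (Q0.map f).comap f = Q0 := by rw [comap_map_eq, QuotientGroup.ker_mk', sup_eq_left.mpr hle]
    rw [h3, hQ, hW] at h2
    omega
  have hseven : Nat.card {e : Q0.map f // e ≠ 1} = 7 := by
    have h := Nat.card_congr (Equiv.optionSubtypeNe (1 : Q0.map f))
    rw [Finite.card_option, hQbar] at h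
    omega
  have htrans : ∀ v ∈ Q0, v ∉ W → ∀ e ∈ Q0, e ∉ W →
      ∃ j : Fin 7, (w ^ (j : ℕ) * v * (w ^ (j : ℕ))⁻¹)⁻¹ * e ∈ W := by
    intro v hv hvW e he heW
    let φ : Fin 7 → {q : Q0.map f // q ≠ 1} := fun j =>
      ⟨⟨f (w ^ (j : ℕ) * v * (w ^ (j : ℕ))⁻¹), mem_map_of_mem f ((inferInstance : Q0.Normal).conj_mem v hv _)⟩,
        fun h => hvW (by
          have h1 : w ^ (j : ℕ) * v * (w ^ (j : ℕ))⁻¹ ∈ W := hfW.mp (congrArg Subtype.val h)
          have := (inferInstance : W.Normal).conj_mem _ h1 (w ^ (j : ℕ))⁻¹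
          simpa [mul_assoc] using this)⟩
    have hφ : Function.Injective φ := by
      intro i j h
      have h' : f (w ^ (i : ℕ) * v * (w ^ (i : ℕ))⁻¹) = f (w ^ (j : ℕ) * v * (w ^ (j : ℕ))⁻¹) :=
        congrArg (fun q : {q : Q0.map f // q ≠ 1} => ((q.1 : Q0.map f) : K ⧸ W)) h
      have key : ∀ a b : ℕ, a ≤ b → f (w ^ a * v * (w ^ a)⁻¹) = f (w ^ b * v * (w ^ b)⁻¹) → 7 ∣ b - a := by
        intro a b hab h
        by_contra h7
        obtain ⟨d, rfl⟩ := Nat.le.dest hab
        rw [Nat.add_sub_cancel_left] at h7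
        refine hvW (hmove d h7 v hv (hfW.mp ?_))
        have h1 : f (w ^ a) * f v * (f (w ^ a))⁻¹ = f (w ^ a) * f (w ^ d * v * (w ^ d)⁻¹) * (f (w ^ a))⁻¹ := by
          rw [← map_inv, ← map_mul, ← map_mul, ← map_mul, ← map_mul, h, pow_add]
          congr 1; group
        rw [map_mul, map_inv, mul_left_cancel (mul_right_cancel h1), inv_mul_cancel]
      rcases le_total (i : ℕ) (j : ℕ) with h1 | h1
      · have := key _ _ h1 h'; apply Fin.ext; omega
      · have := key _ _ h1 h'.symm; apply Fin.ext; omega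
    have hbij : Function.Bijective φ :=
      hφ.bijective_of_nat_card_le (le_of_eq (by rw [hseven, Nat.card_fin]))
    obtain ⟨j, hj⟩ := hbij.2 ⟨⟨f e, mem_map_of_mem f he⟩, fun h => heW (hfW.mp (congrArg Subtype.val h :))⟩
    refine ⟨j, hfW.mp ?_⟩
    have hj' : f (w ^ (j : ℕ) * v * (w ^ (j : ℕ))⁻¹) = f e :=
      congrArg (fun q : {q : Q0.map f // q ≠ 1} => ((q.1 : Q0.map f) : K ⧸ W)) hj
    rw [map_mul, map_inv, hj', inv_mul_cancel]
  -- the factor is elementary
  have hsq : ∀ v ∈ Q0, v * v ∈ W := by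
    haveI : Fact (Nat.Prime 2) := ⟨Nat.prime_two⟩
    obtain ⟨c, hc⟩ := exists_prime_orderOf_dvd_card' (G := Q0.map f) 2 (by rw [hQbar]; norm_num)
    obtain ⟨v0, hv0, hv0c⟩ := c.2
    rw [← Subgroup.orderOf_coe] at hc
    have hv0W : v0 ∉ W := fun h => by
      rw [← hv0c, hfW.mpr h, orderOf_one] at hc
      omega
    have hv00 : v0 * v0 ∈ W := hfW.mp (by rw [map_mul, hv0c, ← pow_two, ← hc, pow_orderOf_eq_one])
    intro v hv
    by_cases hvW : v ∈ W
    · exact mul_mem hvW hvW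
    obtain ⟨j, hj⟩ := htrans v0 hv0 hv0W v hv hvW
    set g := w ^ (j : ℕ) * v0 * (w ^ (j : ℕ))⁻¹
    set c' := g⁻¹ * v
    have hvc : v = g * c' := by simp [c']
    have hg : g * g ∈ W := by
      rw [show g * g = w ^ (j : ℕ) * (v0 * v0) * (w ^ (j : ℕ))⁻¹ by simp only [g]; group]
      exact (inferInstance : W.Normal).conj_mem _ hv00 _
    rw [hvc, show g * c' * (g * c') = g * (c' * g) * c' by group,
      hWc c' hj g ((inferInstance : Q0.Normal).conj_mem v0 hv0 _), show g * (g * c') * c' = g * g * (c' * c') by group]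
    exact mul_mem hg (mul_mem hj hj)
  have hcomm : ∀ u ∈ Q0, ∀ v ∈ Q0, u * v * u⁻¹ * v⁻¹ ∈ W := fun u hu v hv => by
    have h1 := hsq _ (mul_mem hu hv)
    have h2 : v⁻¹ * (u * u)⁻¹ * v ∈ W := by
      have := (inferInstance : W.Normal).conj_mem _ (inv_mem (hsq u hu)) v⁻¹
      rwa [inv_inv] at this
    have e : u * v * u⁻¹ * v⁻¹ = u * v * (u * v) * (v⁻¹ * (u * u)⁻¹ * v * (v * v)⁻¹) := by group
    rw [e]
    exact mul_mem h1 (mul_mem h2 (inv_mem (hsq v hv)))
  -- the subgroup is elementary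
  have hW2 : ∀ a ∈ W, a * a = 1 := by
    haveI : Fact (Nat.Prime 2) := ⟨Nat.prime_two⟩
    obtain ⟨c, hc⟩ := exists_prime_orderOf_dvd_card' (G := W) 2 (by rw [hW]; norm_num)
    have hc1 : (c : K) ≠ 1 := fun e => by rw [← Subgroup.orderOf_coe, e, orderOf_one] at hc; omega
    have hcc : (c : K) * c = 1 := by rw [← pow_two, ← hc, ← Subgroup.orderOf_coe, pow_orderOf_eq_one]
    let φ : Fin 7 → {a : W // a ≠ 1} := fun j =>
      ⟨⟨w ^ (j : ℕ) * c * (w ^ (j : ℕ))⁻¹, (inferInstance : W.Normal).conj_mem _ c.2 _⟩,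
        fun h => hc1 (conj_eq_one_iff.mp (congrArg Subtype.val h :))⟩
    have hφ : Function.Injective φ := by
      intro i j h
      have h' : w ^ (i : ℕ) * c * (w ^ (i : ℕ))⁻¹ = w ^ (j : ℕ) * c * (w ^ (j : ℕ))⁻¹ :=
        congrArg (fun q : {a : W // a ≠ 1} => ((q.1 : W) : K)) h
      have key : ∀ a b : ℕ, a ≤ b → w ^ a * c * (w ^ a)⁻¹ = w ^ b * c * (w ^ b)⁻¹ → 7 ∣ b - a := by
        intro a b hab h
        by_contra h7
        obtain ⟨d, rfl⟩ := Nat.le.dest hab
        rw [Nat.add_sub_cancel_left] at h7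
        refine hc1 (hpowfpf d h7 _ (hle c.2) (mul_inv_eq_iff_eq_mul.mp ?_))
        refine (mul_left_cancel (mul_right_cancel (?_ : w ^ a * c * (w ^ a)⁻¹ =
          w ^ a * (w ^ d * c * (w ^ d)⁻¹) * (w ^ a)⁻¹))).symm
        rw [h, pow_add]; group
      rcases le_total (i : ℕ) (j : ℕ) with h1 | h1
      · have := key _ _ h1 h'; apply Fin.ext; omega
      · have := key _ _ h1 h'.symm; apply Fin.ext; omega
    have hW7 : Nat.card {a : W // a ≠ 1} = 7 := by
      have h := Nat.card_congr (Equiv.optionSubtypeNe (1 : W))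
      rw [Finite.card_option, hW] at h
      omega
    intro a ha
    by_cases h1 : a = 1
    · rw [h1, one_mul]
    obtain ⟨j, hj⟩ := (hφ.bijective_of_nat_card_le (le_of_eq (by rw [hW7, Nat.card_fin]))).2
      ⟨⟨a, ha⟩, fun e => h1 (congrArg Subtype.val e :)⟩
    have hj' : w ^ (j : ℕ) * c * (w ^ (j : ℕ))⁻¹ = a := congrArg (fun q : {a : W // a ≠ 1} => ((q.1 : W) : K)) hj
    rw [← hj', show w ^ (j : ℕ) * c * (w ^ (j : ℕ))⁻¹ * (w ^ (j : ℕ) * c * (w ^ (j : ℕ))⁻¹) =
      w ^ (j : ℕ) * ((c : K) * c) * (w ^ (j : ℕ))⁻¹ by group, hcc, mul_one, mul_inv_cancel]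
  -- centralisers of elements outside
  let Cv : K → Subgroup K := fun v => Q0 ⊓ centralizer ({v} : Set K)
  have hmemC : ∀ {v u : K}, u ∈ Cv v ↔ u ∈ Q0 ∧ u * v = v * u := fun {v u} =>
    and_congr Iff.rfl mem_centralizer_singleton_iff
  have hlt : ∀ v ∈ Q0, v ∉ W → Nat.card (Cv v) < 64 := by
    intro v hv hvW
    refine lt_of_le_of_ne (hQ ▸ Nat.le_of_dvd Nat.card_pos (card_dvd_of_le inf_le_left)) fun e => hvW ?_
    have heq : Cv v = Q0 := eq_of_le_of_card_ge inf_le_left (by rw [e, hQ])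
    exact (hcen v hv).mp fun u hu => (hmemC.mp (heq ▸ hu)).2.symm
  have hcd : ∀ H : Subgroup K, H ≤ Q0 → ∀ k, 2 ^ k < Nat.card H → 2 ^ (k + 1) ≤ Nat.card H := by
    intro H hH k hk
    obtain ⟨a, -, ha⟩ := (Nat.dvd_prime_pow Nat.prime_two).mp
      (show Nat.card H ∣ 2 ^ 6 by have := card_dvd_of_le hH; rwa [hQ] at this)
    rw [ha] at hk ⊢
    exact Nat.pow_le_pow_right (by norm_num) ((Nat.pow_lt_pow_iff_right (by norm_num)).mp hk)
  have hlt' : ∀ (H L : Subgroup K), H ≤ L → ∀ u ∈ L, u ∉ H → Nat.card H < Nat.card L := by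
    intro H L hHL u hu huH
    refine lt_of_le_of_ne (Nat.le_of_dvd Nat.card_pos (card_dvd_of_le hHL)) fun e => huH ?_
    rw [eq_of_le_of_card_ge hHL e.ge]; exact hu
  have hWv : ∀ v ∈ Q0, v ∉ W → W ⊔ zpowers v ≤ Cv v ∧ 16 ≤ Nat.card (W ⊔ zpowers v : Subgroup K) := by
    intro v hv hvW
    refine ⟨sup_le (fun a ha => hmemC.mpr ⟨hle ha, hWc a ha v hv⟩) (zpowers_le.mpr (hmemC.mpr ⟨hv, rfl⟩)), ?_⟩
    have := hlt' W (W ⊔ zpowers v) le_sup_left v (mem_sup_right (mem_zpowers v)) hvW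
    rw [hW] at this
    exact hcd _ (sup_le hle (zpowers_le.mpr hv)) 3 this
  have hcoset : ∀ v ∈ Q0, ∀ a ∈ W, Cv (v * a) = Cv v := by
    intro v hv a ha
    ext u
    rw [hmemC, hmemC]
    refine and_congr_right fun hu => ?_
    constructor
    · intro h
      have := (hWc a ha u hu)
      calc u * v = u * (v * a) * a⁻¹ := by group
        _ = v * (a * u) * a⁻¹ := by rw [h]; group
        _ = v * u := by rw [this]; group
    · intro h
      calc u * (v * a) = u * v * a := by group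
        _ = v * (u * a) := by rw [h]; group
        _ = v * a * u := by rw [← hWc a ha u hu]; group
  have hconj : ∀ v : K, ∀ g : K, Nat.card (Cv (g * v * g⁻¹)) = Nat.card (Cv v) := by
    intro v g
    refine (Nat.card_congr (Equiv.subtypeEquiv (MulAut.conj g).toEquiv fun u => ?_)).symm
    show u ∈ Cv v ↔ g * u * g⁻¹ ∈ Cv (g * v * g⁻¹)
    rw [hmemC, hmemC]
    refine and_congr ⟨fun h => (inferInstance : Q0.Normal).conj_mem u h g, fun h => ?_⟩ ⟨fun h => ?_, fun h => ?_⟩
    · have := (inferInstance : Q0.Normal).conj_mem _ h g⁻¹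
      simpa [mul_assoc] using this
    · rw [show g * u * g⁻¹ * (g * v * g⁻¹) = g * (u * v) * g⁻¹ by group, h]; group
    · have h2 := congrArg (fun a => g⁻¹ * a * g) h
      simpa [mul_assoc] using h2
  -- no centraliser of order thirty-two
  have h16 : ∀ v ∈ Q0, v ∉ W → Cv v = W ⊔ zpowers v := by
    intro v hv hvW
    by_contra hne
    obtain ⟨hsub, h16'⟩ := hWv v hv hvW
    have hgt : 16 < Nat.card (Cv v) := by
      refine lt_of_le_of_lt h16' (lt_of_le_of_ne (Nat.le_of_dvd Nat.card_pos (card_dvd_of_le hsub)) fun e => ?_)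
      exact hne (eq_of_le_of_card_ge hsub e.ge).symm
    have h32 : ∀ e ∈ Q0, e ∉ W → Nat.card (Cv e) = 32 := by
      intro e he heW
      obtain ⟨j, hj⟩ := htrans v hv hvW e he heW
      have hev : e = w ^ (j : ℕ) * v * (w ^ (j : ℕ))⁻¹ * ((w ^ (j : ℕ) * v * (w ^ (j : ℕ))⁻¹)⁻¹ * e) := by group
      rw [hev, hcoset _ ((inferInstance : Q0.Normal).conj_mem v hv _) _ hj, hconj]
      have h1 := hlt v hv hvW
      have h2 := hcd (Cv v) inf_le_left 4 hgt
      obtain ⟨a, -, ha⟩ := (Nat.dvd_prime_pow Nat.prime_two).mp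
        (show Nat.card (Cv v) ∣ 2 ^ 6 by
          have := card_dvd_of_le (inf_le_left : Cv v ≤ Q0); rwa [hQ] at this)
      rw [ha] at h1 h2 ⊢
      have ha6 : a < 6 := (Nat.pow_lt_pow_iff_right (by norm_num : 1 < 2)).mp (by norm_num; exact h1)
      interval_cases a <;> omega
    -- the centraliser is abelian and is that of each of its elements
    have habel : ∀ e ∈ Cv v, e ∉ W → Cv e = Cv v := by
      obtain ⟨u, hu, hu'⟩ : ∃ u ∈ Cv v, u ∉ W ⊔ zpowers v := by
        by_contra hc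
        push Not at hc
        exact hne (le_antisymm hc hsub)
      obtain ⟨huQ, huv⟩ := hmemC.mp hu
      have huW : u ∉ W := fun h => hu' (mem_sup_left h)
      have hvE : v ∈ Cv v := hmemC.mpr ⟨hv, rfl⟩
      have hgen : (W ⊔ zpowers v) ⊔ zpowers u = Cv v := by
        refine eq_of_le_of_card_ge (sup_le hsub (zpowers_le.mpr hu)) ?_
        rw [h32 v hv hvW]
        have := hlt' _ ((W ⊔ zpowers v) ⊔ zpowers u) le_sup_left u (mem_sup_right (mem_zpowers u)) hu'
        exact hcd _ (sup_le (sup_le hle (zpowers_le.mpr hv)) (zpowers_le.mpr huQ)) 4 (lt_of_le_of_lt h16' this)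
      have hCu : Cv v = Cv u := by
        refine eq_of_le_of_card_ge ?_ (by rw [h32 v hv hvW, h32 u huQ huW])
        rw [← hgen]
        exact sup_le (sup_le (fun a ha => hmemC.mpr ⟨hle ha, hWc a ha u huQ⟩)
          (zpowers_le.mpr (hmemC.mpr ⟨hv, huv.symm⟩))) (zpowers_le.mpr (hmemC.mpr ⟨huQ, rfl⟩))
      intro e he heW
      refine (eq_of_le_of_card_ge ?_ (by rw [h32 v hv hvW, h32 e (hmemC.mp he).1 heW])).symm
      obtain ⟨heQ, hev⟩ := hmemC.mp he
      rw [← hgen]
      refine sup_le (sup_le (fun a ha => hmemC.mpr ⟨hle ha, hWc a ha e heQ⟩)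
        (zpowers_le.mpr (hmemC.mpr ⟨hv, hev.symm⟩))) (zpowers_le.mpr (hmemC.mpr ⟨huQ, ?_⟩))
      exact ((hmemC.mp (hCu ▸ he)).2).symm
    -- a translate meets it outside
    set v' := w * v * w⁻¹
    have hv' : v' ∈ Q0 := (inferInstance : Q0.Normal).conj_mem v hv w
    have hv'W : v' ∉ W := fun h => hvW (by
      have := (inferInstance : W.Normal).conj_mem _ h w⁻¹
      simpa [v', mul_assoc] using this)
    let A := (Cv v).subgroupOf Q0
    let B := (Cv v').subgroupOf Q0
    have hA : A.index = 2 ∧ B.index = 2 := by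
      have e1 := A.card_mul_index
      have e2 := B.card_mul_index
      rw [Nat.card_congr (subgroupOfEquivOfLe (inf_le_left : Cv v ≤ Q0)).toEquiv, h32 v hv hvW, hQ] at e1
      rw [Nat.card_congr (subgroupOfEquivOfLe (inf_le_left : Cv v' ≤ Q0)).toEquiv, h32 v' hv' hv'W, hQ] at e2
      omega
    have hAB : 16 ≤ Nat.card ↥(A ⊓ B) := by
      have h1 := (A ⊓ B).card_mul_index
      have h2 := index_inf_le (H := A) (K := B)
      rw [hA.1, hA.2] at h2
      rw [hQ] at h1
      nlinarith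
    obtain ⟨e, ⟨heA, heB⟩, heW⟩ : ∃ e : Q0, e ∈ A ⊓ B ∧ (e : K) ∉ W := by
      by_contra hc
      push Not at hc
      have := Nat.card_le_card_of_injective (fun e : ↥(A ⊓ B) => (⟨((e : Q0) : K), hc e.1 e.2⟩ : W))
        fun a b h => Subtype.ext (Subtype.ext (congrArg Subtype.val h :))
      omega
    have hE1 : Cv (e : K) = Cv v := habel _ (mem_subgroupOf.mp heA) heW
    -- so the translate equals it
    have hE2 : Cv v' = Cv v := by
      have hve : v ∈ Cv (e : K) := hE1 ▸ hmemC.mpr ⟨hv, rfl⟩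
      have hev' : (e : K) ∈ Cv v' := mem_subgroupOf.mp heB
      have hv'e : v' ∈ Cv v := hE1 ▸ hmemC.mpr ⟨hv', (hmemC.mp hev').2.symm⟩
      exact habel v' hv'e hv'W
    have hall : ∀ j : ℕ, w ^ j * v * (w ^ j)⁻¹ ∈ Cv v := by
      intro j
      induction j with
      | zero => simpa using hmemC.mpr ⟨hv, rfl⟩
      | succ n ih =>
        have hmem : w * (w ^ n * v * (w ^ n)⁻¹) * w⁻¹ ∈ Cv v' := by
          obtain ⟨h1, h2⟩ := hmemC.mp ih
          refine hmemC.mpr ⟨(inferInstance : Q0.Normal).conj_mem _ h1 w, ?_⟩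
          rw [show w * (w ^ n * v * (w ^ n)⁻¹) * w⁻¹ * v' = w * (w ^ n * v * (w ^ n)⁻¹ * v) * w⁻¹ by
            simp only [v']; group, h2]
          simp only [v']; group
        rw [hE2] at hmem
        rw [show w ^ (n + 1) * v * (w ^ (n + 1))⁻¹ = w * (w ^ n * v * (w ^ n)⁻¹) * w⁻¹ by rw [pow_succ']; group]
        exact hmem
    have hQle : Q0 ≤ Cv v := by
      intro e he
      by_cases heW : e ∈ W
      · exact hsub (mem_sup_left heW)
      obtain ⟨j, hj⟩ := htrans v hv hvW e he heW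
      have := mul_mem (hall j) (hsub (mem_sup_left hj))
      rwa [mul_inv_cancel_left] at this
    have h1 := Nat.le_of_dvd Nat.card_pos (card_dvd_of_le hQle)
    have h2 := hlt v hv hvW
    omega
  -- a fixed element outside
  haveI : Fact (Nat.Prime 3) := ⟨Nat.prime_three⟩
  obtain ⟨v, ⟨hvQ, hvx⟩, hvW⟩ : ∃ v, v ∈ Q0 ⊓ centralizer ({x} : Set K) ∧ v ∉ W := by
    by_contra hc
    push Not at hc
    letI : MulAction (zpowers x) W :=
      { smul := fun b a => ⟨(b : K) * a * (b : K)⁻¹, (inferInstance : W.Normal).conj_mem a a.2 b⟩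
        one_smul := fun a => Subtype.ext (by show ((1 : zpowers x) : K) * a * ((1 : zpowers x) : K)⁻¹ = a; simp)
        mul_smul := fun b d a => Subtype.ext (by
          show ((b * d : zpowers x) : K) * a * ((b * d : zpowers x) : K)⁻¹ = b * (d * a * (d : K)⁻¹) * (b : K)⁻¹
          simp [mul_assoc]) }
    have h := (IsPGroup.of_card (p := 3) (n := 1)
      (show Nat.card (zpowers x) = 3 ^ 1 by rw [Nat.card_zpowers, hx, pow_one])).card_modEq_card_fixedPoints W
    have e : Nat.card (MulAction.fixedPoints (zpowers x) W) = 4 := by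
      rw [← hfix]
      refine Nat.card_congr
        { toFun := fun a => ⟨(a.1 : K), hle a.1.2, mem_centralizer_singleton_iff.mpr
            (mul_inv_eq_iff_eq_mul.mp (congrArg Subtype.val (a.2 ⟨x, mem_zpowers x⟩))).symm⟩
          invFun := fun a => ⟨⟨a, hc a a.2⟩, fun b => Subtype.ext (by
            obtain ⟨i, hi⟩ := mem_zpowers_iff.mp b.2
            show (b : K) * (a : K) * (b : K)⁻¹ = (a : K)
            rw [← hi, (Commute.zpow_right (show Commute (a : K) x from mem_centralizer_singleton_iff.mp a.2.2) i).symm.eq,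
              mul_inv_cancel_right])⟩
          left_inv := fun a => rfl
          right_inv := fun a => rfl }
    rw [e, hW, Nat.ModEq] at h
    omega
  have hvx' : x * v * x⁻¹ = v := by
    rw [← mem_centralizer_singleton_iff.mp hvx, mul_inv_cancel_right]
  have hCv := h16 v hvQ hvW
  set a := v * v with hadef
  have haW : a ∈ W := hsq v hvQ
  -- the square is non-trivial
  have ha1 : a ≠ 1 := by
    intro ha
    have hall : ∀ e ∈ Q0, e * e = 1 := by
      intro e he
      by_cases heW : e ∈ W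
      · exact hW2 e heW
      obtain ⟨j, hj⟩ := htrans v hvQ hvW e he heW
      set g := w ^ (j : ℕ) * v * (w ^ (j : ℕ))⁻¹
      set c := g⁻¹ * e
      have hec : e = g * c := by simp [c]
      rw [hec, show g * c * (g * c) = g * (c * g) * c by group, hWc c hj g ((inferInstance : Q0.Normal).conj_mem v hvQ _),
        show g * (g * c) * c = g * g * (c * c) by group, hW2 c hj, mul_one,
        show g * g = w ^ (j : ℕ) * (v * v) * (w ^ (j : ℕ))⁻¹ by simp only [g]; group, ← hadef, ha, mul_one,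
        mul_inv_cancel]
    refine hvW ((hcen v hvQ).mp fun u hu => ?_)
    have h1 := hall _ (mul_mem hvQ hu)
    calc v * u = (v * u)⁻¹ := eq_inv_of_mul_eq_one_left h1
      _ = u⁻¹ * v⁻¹ := mul_inv_rev _ _
      _ = u * v := by rw [inv_eq_of_mul_eq_one_right (hall u hu), inv_eq_of_mul_eq_one_right (hall v hvQ)]
  -- the image of commutation with the fixed element
  have hker2 : ∀ u ∈ Q0, ∀ u' ∈ Q0, v * u * v⁻¹ * u⁻¹ = v * u' * v⁻¹ * u'⁻¹ → u⁻¹ * u' ∈ Cv v := by
    intro u hu u' hu' h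
    refine hmemC.mpr ⟨mul_mem (inv_mem hu) hu', ?_⟩
    have h1 : u * v⁻¹ * u⁻¹ = u' * v⁻¹ * u'⁻¹ := by simpa [mul_assoc] using h
    calc u⁻¹ * u' * v = u⁻¹ * ((u' * v⁻¹ * u'⁻¹)⁻¹ * u') := by group
      _ = u⁻¹ * ((u * v⁻¹ * u⁻¹)⁻¹ * u') := by rw [h1]
      _ = v * (u⁻¹ * u') := by group
  have hCvmem : ∀ u ∈ Cv v, u ∈ W ∨ v⁻¹ * u ∈ W := by
    intro u hu
    rw [hCv, sup_comm, mem_sup_of_normal_right] at hu
    obtain ⟨p, hp, c, hc, rfl⟩ := hu
    obtain ⟨i, rfl⟩ := mem_zpowers_iff.mp hp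
    rcases Int.even_or_odd i with ⟨k, rfl⟩ | ⟨k, rfl⟩
    · left
      refine mul_mem ?_ hc
      rw [show k + k = 2 * k by ring, zpow_mul, zpow_two]
      exact zpow_mem haW k
    · right
      rw [← mul_assoc]
      refine mul_mem ?_ hc
      rw [zpow_add, zpow_one, zpow_mul, zpow_two, ← hadef,
        ((show Commute v a from (hWc a haW v hvQ).symm).zpow_right k).symm.eq,
        inv_mul_cancel_left]
      exact zpow_mem haW k
  have hnot : ∀ u ∈ Q0, v * u * v⁻¹ * u⁻¹ ≠ a := by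
    intro u hu he
    set u' := x * u * x⁻¹ with hu'
    have hu'Q : u' ∈ Q0 := (inferInstance : Q0.Normal).conj_mem u hu x
    have hax : x * a * x⁻¹ = a := by
      rw [hadef, show x * (v * v) * x⁻¹ = (x * v * x⁻¹) * (x * v * x⁻¹) by group, hvx']
    have he' : v * u' * v⁻¹ * u'⁻¹ = a := by
      calc v * u' * v⁻¹ * u'⁻¹ = (x * v * x⁻¹) * u' * (x * v * x⁻¹)⁻¹ * u'⁻¹ := by rw [hvx']
        _ = x * (v * u * v⁻¹ * u⁻¹) * x⁻¹ := by rw [hu']; group
        _ = a := by rw [he, hax]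
    have hmem := hker2 u hu u' hu'Q (he.trans he'.symm)
    have hxW : ∀ c ∈ W, x * c * x⁻¹ ∈ W := fun c hc => (inferInstance : W.Normal).conj_mem c hc x
    set d := u⁻¹ * u' with hd
    have hx3 : x * (x * u' * x⁻¹) * x⁻¹ = u := by
      have h3 : x * x * x = 1 := by rw [← pow_three', ← hx, pow_orderOf_eq_one]
      rw [hu', show x * (x * (x * u * x⁻¹) * x⁻¹) * x⁻¹ = (x * x * x) * u * (x * x * x)⁻¹ by group, h3]
      group
    have hprod : d * (x * d * x⁻¹) * (x * (x * d * x⁻¹) * x⁻¹) = 1 := by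
      rw [hd]
      calc u⁻¹ * u' * (x * (u⁻¹ * u') * x⁻¹) * (x * (x * (u⁻¹ * u') * x⁻¹) * x⁻¹)
          = u⁻¹ * u' * ((x * u * x⁻¹)⁻¹ * (x * u' * x⁻¹)) *
              ((x * (x * u * x⁻¹) * x⁻¹)⁻¹ * (x * (x * u' * x⁻¹) * x⁻¹)) := by group
        _ = 1 := by rw [hx3, ← hu']; group
    rcases hCvmem d hmem with hdW | hdW
    · -- a fixed element in the coset
      set c := x * d * x⁻¹ with hc
      have hcW : c ∈ W := hxW d hdW
      have hcQ : x * (u * c) * x⁻¹ = u * c := by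
        calc x * (u * c) * x⁻¹ = u' * (x * c * x⁻¹) := by rw [hu']; group
          _ = u * (d * (x * c * x⁻¹)) := by rw [hd]; group
          _ = u * c := by
            have e1 : x * c * x⁻¹ = (d * c)⁻¹ := by
              refine eq_inv_of_mul_eq_one_right ?_
              rw [hc] at hprod ⊢
              exact hprod
            rw [e1, mul_inv_rev, hWW d hdW (c⁻¹ * d⁻¹) (mul_mem (inv_mem hcW) (inv_mem hdW)), mul_assoc,
              inv_mul_cancel, mul_one, inv_eq_of_mul_eq_one_right (hW2 c hcW)]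
      have hF : u * c ∈ Q0 ⊓ centralizer ({x} : Set K) :=
        ⟨mul_mem hu (hle hcW), mem_centralizer_singleton_iff.mpr (mul_inv_eq_iff_eq_mul.mp hcQ).symm⟩
      -- fixed elements form two cosets
      have hFW : Nat.card ↥(W ⊓ centralizer ({x} : Set K)) * 2 ≤ 4 := by
        rw [← hfix, mul_comm, ← Fintype.card_bool, ← Nat.card_eq_fintype_card, ← Nat.card_prod]
        refine Nat.card_le_card_of_injective (fun p => (⟨(if p.1 then v else 1) * (p.2 : K), ?_⟩ :
          ↥(Q0 ⊓ centralizer ({x} : Set K)))) ?_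
        · refine mul_mem ?_ ⟨hle p.2.2.1, p.2.2.2⟩
          split
          · exact ⟨hvQ, hvx⟩
          · exact one_mem _
        · rintro ⟨b, p⟩ ⟨b', p'⟩ e
          have e' : (if b then v else 1) * (p : K) = (if b' then v else 1) * (p' : K) := congrArg Subtype.val e
          cases b <;> cases b' <;> simp at e'
          · exact Prod.ext rfl e'
          · exact absurd (show v ∈ W by
              have := mul_mem (show (p : K) ∈ W from p.2.1) (inv_mem (show (p' : K) ∈ W from p'.2.1)); rwa [e', mul_inv_cancel_right] at this) hvW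
          · exact absurd (show v ∈ W by
              have := mul_mem (show (p' : K) ∈ W from p'.2.1) (inv_mem (show (p : K) ∈ W from p.2.1)); rwa [← e', mul_inv_cancel_right] at this) hvW
          · exact Prod.ext rfl e'
      have hu2 : u * c ∈ W ∨ v⁻¹ * (u * c) ∈ W := by
        by_contra hcon
        push Not at hcon
        have h2 : 2 ≤ Nat.card ↥(W ⊓ centralizer ({x} : Set K)) := by
          refine Finite.one_lt_card_iff_nontrivial.mpr ⟨⟨a, haW, mem_centralizer_singleton_iff.mpr ?_⟩, 1,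
            fun e => ha1 (congrArg Subtype.val e :)⟩
          rw [hadef]; exact ((Commute.mul_left (mem_centralizer_singleton_iff.mp hvx)
            (mem_centralizer_singleton_iff.mp hvx)).eq)
        have : 5 ≤ Nat.card ↥(Q0 ⊓ centralizer ({x} : Set K)) := by
          have hinj := Nat.card_le_card_of_injective (fun p : Option (Bool × ↥(W ⊓ centralizer ({x} : Set K))) =>
            match p with
            | none => (⟨u * c, hF⟩ : ↥(Q0 ⊓ centralizer ({x} : Set K)))
            | some (b, q) => ⟨(if b then v else 1) * (q : K), mul_mem (by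
                split
                · exact ⟨hvQ, hvx⟩
                · exact one_mem _) ⟨hle q.2.1, q.2.2⟩⟩) ?_
          · rw [Finite.card_option, Nat.card_prod, Nat.card_eq_fintype_card (α := Bool), Fintype.card_bool] at hinj
            omega
          · rintro (_ | ⟨b, p⟩) (_ | ⟨b', p'⟩) e
            · rfl
            · have e' : u * c = (if b' then v else 1) * (p' : K) := congrArg Subtype.val e
              cases b' <;> simp at e'
              · exact absurd (e' ▸ p'.2.1) hcon.1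
              · exact absurd (by rw [e', inv_mul_cancel_left]; exact p'.2.1) hcon.2
            · have e' : (if b then v else 1) * (p : K) = u * c := congrArg Subtype.val e
              cases b <;> simp at e'
              · exact absurd (e' ▸ p.2.1) hcon.1
              · exact absurd (by rw [← e', inv_mul_cancel_left]; exact p.2.1) hcon.2
            · have e' : (if b then v else 1) * (p : K) = (if b' then v else 1) * (p' : K) := congrArg Subtype.val e
              cases b <;> cases b' <;> simp at e'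
              · rw [e']
              · exact absurd (show v ∈ W by
                  have := mul_mem (show (p : K) ∈ W from p.2.1) (inv_mem (show (p' : K) ∈ W from p'.2.1)); rwa [e', mul_inv_cancel_right] at this) hvW
              · exact absurd (show v ∈ W by
                  have := mul_mem (show (p' : K) ∈ W from p'.2.1) (inv_mem (show (p : K) ∈ W from p.2.1)); rwa [← e', mul_inv_cancel_right] at this) hvW
              · rw [e']
        omega
      have hcomm1 : v * u * v⁻¹ * u⁻¹ = 1 := by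
        have huC : u ∈ Cv v := by
          have hcC : c⁻¹ ∈ Cv v := (hWv v hvQ hvW).1 (mem_sup_left (inv_mem hcW))
          rcases hu2 with h | h
          · have := mul_mem ((hWv v hvQ hvW).1 (mem_sup_left h)) hcC
            rwa [mul_inv_cancel_right] at this
          · have h' := mul_mem ((hWv v hvQ hvW).1 (mem_sup_right (mem_zpowers v))) ((hWv v hvQ hvW).1 (mem_sup_left h))
            rw [mul_inv_cancel_left] at h'
            have := mul_mem h' hcC
            rwa [mul_inv_cancel_right] at this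
        rw [← (hmemC.mp huC).2, mul_inv_cancel_right, mul_inv_cancel]
      exact ha1 (he.symm.trans hcomm1)
    · set e := v⁻¹ * d with hedef
      have hde : d = v * e := by rw [hedef, mul_inv_cancel_left]
      refine hvW ?_
      have h1 : x * d * x⁻¹ = v * (x * e * x⁻¹) := by
        rw [hde, show x * (v * e) * x⁻¹ = (x * v * x⁻¹) * (x * e * x⁻¹) by group, hvx']
      have h2 : x * (x * d * x⁻¹) * x⁻¹ = v * (x * (x * e * x⁻¹) * x⁻¹) := by
        rw [h1, show x * (v * (x * e * x⁻¹)) * x⁻¹ = (x * v * x⁻¹) * (x * (x * e * x⁻¹) * x⁻¹) by group, hvx']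
      rw [h2, h1, hde] at hprod
      have hew : ∀ c ∈ W, ∀ r : K, v * c * r = c * (v * r) := fun c hc r => by
        rw [(hWc c hc v hvQ).symm, mul_assoc]
      have hexp : v * e * (v * (x * e * x⁻¹)) * (v * (x * (x * e * x⁻¹) * x⁻¹)) =
          v * a * (e * (x * e * x⁻¹) * (x * (x * e * x⁻¹) * x⁻¹)) := by
        have c1 := hWc e hdW v hvQ
        have c2 := hWc _ (hxW e hdW) v hvQ
        calc v * e * (v * (x * e * x⁻¹)) * (v * (x * (x * e * x⁻¹) * x⁻¹))
            = v * (e * v) * ((x * e * x⁻¹) * v) * (x * (x * e * x⁻¹) * x⁻¹) := by group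
          _ = v * (v * e) * (v * (x * e * x⁻¹)) * (x * (x * e * x⁻¹) * x⁻¹) := by rw [c1, c2]
          _ = v * v * (e * v) * ((x * e * x⁻¹) * (x * (x * e * x⁻¹) * x⁻¹)) := by group
          _ = v * v * (v * e) * ((x * e * x⁻¹) * (x * (x * e * x⁻¹) * x⁻¹)) := by rw [c1]
          _ = v * a * (e * (x * e * x⁻¹) * (x * (x * e * x⁻¹) * x⁻¹)) := by rw [hadef]; group
      rw [hexp] at hprod
      have hr : a * (e * (x * e * x⁻¹) * (x * (x * e * x⁻¹) * x⁻¹)) ∈ W :=
        mul_mem haW (mul_mem (mul_mem hdW (hxW e hdW)) (hxW _ (hxW e hdW)))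
      rw [mul_assoc v] at hprod
      rw [eq_inv_of_mul_eq_one_left hprod]
      exact inv_mem hr
  -- the group spanned by the commutators
  let ψ : Q0 → W := fun u => ⟨v * u * v⁻¹ * (u : K)⁻¹, hcomm v hvQ u u.2⟩
  have hψmul : ∀ u u' : Q0, ψ (u * u') = ψ u * ψ u' := fun u u' => Subtype.ext (by
    show v * ((u : K) * u') * v⁻¹ * ((u : K) * u')⁻¹ = v * u * v⁻¹ * (u : K)⁻¹ * (v * u' * v⁻¹ * (u' : K)⁻¹)
    have hc := hWc _ (hcomm v hvQ u' u'.2) (u : K) u.2
    calc v * ((u : K) * u') * v⁻¹ * ((u : K) * u')⁻¹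
        = (v * u * v⁻¹) * (v * u' * v⁻¹ * (u' : K)⁻¹) * (u : K)⁻¹ := by group
      _ = (v * u * v⁻¹) * ((v * u' * v⁻¹ * (u' : K)⁻¹ * (u : K)) * (u : K)⁻¹ * (u : K)⁻¹) := by group
      _ = (v * u * v⁻¹) * (((u : K) * (v * u' * v⁻¹ * (u' : K)⁻¹)) * (u : K)⁻¹ * (u : K)⁻¹) := by rw [hc]
      _ = (v * u * v⁻¹) * (((u : K) * (v * u' * v⁻¹ * (u' : K)⁻¹) * (u : K)⁻¹) * (u : K)⁻¹) := by group
      _ = (v * u * v⁻¹) * ((v * u' * v⁻¹ * (u' : K)⁻¹) * (u : K)⁻¹) := by
          rw [← hc, mul_inv_cancel_right]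
      _ = (v * u * v⁻¹) * ((u : K)⁻¹ * (v * u' * v⁻¹ * (u' : K)⁻¹)) := by
          rw [hWc _ (hcomm v hvQ u' u'.2) (u : K)⁻¹ (inv_mem u.2)]
      _ = v * u * v⁻¹ * (u : K)⁻¹ * (v * u' * v⁻¹ * (u' : K)⁻¹) := by group)
  let Ψ : Q0 →* W := MonoidHom.mk' ψ hψmul
  have hmemC' : ∀ u : Q0, u ∈ Ψ.ker ↔ (u : K) ∈ Cv v := fun u => by
    rw [MonoidHom.mem_ker, hmemC]
    refine ⟨fun h => ⟨u.2, ?_⟩, fun h => Subtype.ext ?_⟩
    · have h1 : v * u * v⁻¹ * (u : K)⁻¹ = 1 := congrArg Subtype.val h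
      exact (mul_inv_eq_iff_eq_mul.mp (mul_inv_eq_one.mp h1)).symm
    · show v * u * v⁻¹ * (u : K)⁻¹ = 1
      rw [← h.2, mul_inv_cancel_right, mul_inv_cancel]
  have hCv16 : Nat.card (Cv v) = 16 := by
    refine le_antisymm ?_ (hCv ▸ (hWv v hvQ hvW).2)
    have h1 : Cv v ≤ Q0 := inf_le_left
    have : ∀ u : Cv v, (u : K) ∈ W ∨ v⁻¹ * (u : K) ∈ W := fun u => hCvmem u u.2
    have := Nat.card_le_card_of_injective (fun u : Cv v => if h : (u : K) ∈ W then (true, (⟨u, h⟩ : W))
      else (false, (⟨v⁻¹ * (u : K), (this u).resolve_left h⟩ : W))) (fun u u' e => by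
        simp only at e
        split at e <;> split at e <;> simp at e
        · exact e
        · exact e)
    rw [Nat.card_prod, Nat.card_eq_fintype_card (α := Bool), Fintype.card_bool, hW] at this
    omega
  have hker16 : Nat.card Ψ.ker = 16 := by
    rw [← hCv16]
    exact Nat.card_congr
      { toFun := fun u => ⟨(u : Q0), (hmemC' u).mp u.2⟩
        invFun := fun u => ⟨⟨u, (hmemC.mp u.2).1⟩, (hmemC' _).mpr u.2⟩
        left_inv := fun u => rfl
        right_inv := fun u => rfl }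
  have hrange : Nat.card Ψ.range = 4 := by
    have h := card_mul_index Ψ.ker
    rw [index_ker, hker16, hQ] at h
    omega
  have hdec : ∀ b : W, b ∈ Ψ.range ∨ (⟨a, haW⟩ : W)⁻¹ * b ∈ Ψ.range := by
    intro b
    have hidx : Ψ.range.index = 2 := by
      have h := Ψ.range.card_mul_index
      rw [hrange, hW] at h
      omega
    have haR : (⟨a, haW⟩ : W) ∉ Ψ.range := by
      rintro ⟨u, hu⟩
      exact hnot u u.2 (congrArg Subtype.val hu)
    by_cases hb : b ∈ Ψ.range
    · exact Or.inl hb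
    · exact Or.inr ((mul_mem_iff_of_index_two hidx).mpr (iff_of_false (fun h => haR (by simpa using inv_mem h)) hb))
  -- the stabiliser of the coset
  set S := (centralizer ({f v} : Set (K ⧸ W))).comap f
  have hS : 1536 ≤ Nat.card S := by
    have hidx : S.index = (centralizer ({f v} : Set (K ⧸ W))).index :=
      index_comap_of_surjective _ (QuotientGroup.mk'_surjective W)
    have hle7 : (centralizer ({f v} : Set (K ⧸ W))).index ≤ 7 := by
      rw [← hseven, index_eq_card]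
      refine Nat.card_le_card_of_injective (fun q => (⟨⟨(Quotient.out q) * f v * (Quotient.out q)⁻¹, ?_⟩, ?_⟩ :
        {e : Q0.map f // e ≠ 1})) ?_
      · obtain ⟨g, hg⟩ := QuotientGroup.mk'_surjective W (Quotient.out q)
        rw [← hg, ← map_inv, ← map_mul, ← map_mul]
        exact mem_map_of_mem f ((inferInstance : Q0.Normal).conj_mem v hvQ g)
      · intro e
        exact hvW (hfW.mp (conj_eq_one_iff.mp (congrArg Subtype.val e :)))
      · intro q q' e
        have e' : Quotient.out q * f v * (Quotient.out q)⁻¹ = Quotient.out q' * f v * (Quotient.out q')⁻¹ :=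
          congrArg (fun r : {e : Q0.map f // e ≠ 1} => ((r.1 : Q0.map f) : K ⧸ W)) e
        rw [← Quotient.out_eq q, ← Quotient.out_eq q']
        refine Quotient.sound ?_
        show (QuotientGroup.leftRel _).r _ _
        rw [QuotientGroup.leftRel_apply, mem_centralizer_singleton_iff]
        calc (Quotient.out q)⁻¹ * Quotient.out q' * f v
            = (Quotient.out q)⁻¹ * ((Quotient.out q' * f v * (Quotient.out q')⁻¹) * Quotient.out q') := by group
          _ = (Quotient.out q)⁻¹ * ((Quotient.out q * f v * (Quotient.out q)⁻¹) * Quotient.out q') := by rw [e']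
          _ = f v * ((Quotient.out q)⁻¹ * Quotient.out q') := by group
    have h1 := S.card_mul_index
    rw [hidx, hK] at h1
    have := Nat.mul_le_mul_left (Nat.card S) hle7
    omega
  have hSa : ∀ c ∈ S, c * a * c⁻¹ = a ∧ ∃ c' ∈ W, c * v * c⁻¹ = v * c' := by
    intro c hc
    have h1 : v⁻¹ * (c * v * c⁻¹) ∈ W := by
      rw [← hfW, map_mul, map_inv, map_mul, map_mul, map_inv,
        mem_centralizer_singleton_iff.mp (mem_comap.mp hc), mul_inv_cancel_right, inv_mul_cancel]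
    set c' := v⁻¹ * (c * v * c⁻¹)
    have hv2 : c * v * c⁻¹ = v * c' := by simp only [c']; group
    refine ⟨?_, c', h1, hv2⟩
    rw [hadef, show c * (v * v) * c⁻¹ = (c * v * c⁻¹) * (c * v * c⁻¹) by group, hv2,
      show v * c' * (v * c') = v * (c' * v) * c' by group, hWc c' h1 v hvQ,
      show v * (v * c') * c' = v * v * (c' * c') by group, hW2 c' h1, mul_one]
  have hpres : ∀ c ∈ S, ∀ b : W, b ∈ Ψ.range →
      (⟨c * (b : K) * c⁻¹, (inferInstance : W.Normal).conj_mem _ b.2 c⟩ : W) ∈ Ψ.range := by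
    intro c hc b hb
    obtain ⟨u, rfl⟩ := hb
    obtain ⟨-, c', hc', hcv⟩ := hSa c hc
    refine ⟨⟨c * u * c⁻¹, (inferInstance : Q0.Normal).conj_mem _ u.2 c⟩, Subtype.ext ?_⟩
    show v * (c * u * c⁻¹) * v⁻¹ * (c * (u : K) * c⁻¹)⁻¹ = c * (v * u * v⁻¹ * (u : K)⁻¹) * c⁻¹
    have hr : c * (v * u * v⁻¹ * (u : K)⁻¹) * c⁻¹ =
        (c * v * c⁻¹) * (c * u * c⁻¹) * (c * v * c⁻¹)⁻¹ * (c * (u : K) * c⁻¹)⁻¹ := by group
    rw [hr, hcv, show v * c' * (c * (u : K) * c⁻¹) * (v * c')⁻¹ = v * (c' * (c * (u : K) * c⁻¹)) * c'⁻¹ * v⁻¹ by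
      group, hWc c' hc' (c * (u : K) * c⁻¹) ((inferInstance : Q0.Normal).conj_mem _ u.2 c)]
    group
  letI : MulAction S {b : Ψ.range // b ≠ 1} :=
    { smul := fun c b => ⟨⟨_, hpres c c.2 _ b.1.2⟩, fun e => b.2 (Subtype.ext (Subtype.ext
        (conj_eq_one_iff.mp (congrArg (fun q : Ψ.range => ((q : W) : K)) e :))))⟩
      one_smul := fun b => Subtype.ext (Subtype.ext (Subtype.ext (by
        show ((1 : S) : K) * ((b.1 : W) : K) * ((1 : S) : K)⁻¹ = ((b.1 : W) : K); simp)))
      mul_smul := fun c d b => Subtype.ext (Subtype.ext (Subtype.ext (by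
        show ((c : K) * d) * ((b.1 : W) : K) * ((c : K) * d)⁻¹ = c * (d * ((b.1 : W) : K) * (d : K)⁻¹) * (c : K)⁻¹
        group))) }
  set φ := MulAction.toPermHom S {b : Ψ.range // b ≠ 1}
  have h3 : Nat.card {b : Ψ.range // b ≠ 1} = 3 := by
    have h := Nat.card_congr (Equiv.optionSubtypeNe (1 : Ψ.range))
    rw [Finite.card_option, hrange] at h
    omega
  have hrng : Nat.card φ.range ≤ 6 := by
    have h := Nat.le_of_dvd Nat.card_pos (card_subgroup_dvd_card φ.range)
    rwa [Nat.card_perm, h3, show Nat.factorial 3 = 6 from rfl] at h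
  have hkerQ : Nat.card φ.ker ≤ 64 := by
    rw [← hQ]
    refine Nat.card_le_card_of_injective (fun c => (⟨((c : S) : K), hker _ fun b hb => ?_⟩ : Q0))
      fun c d e => Subtype.ext (Subtype.ext (congrArg Subtype.val e :))
    have hR : ∀ r : W, r ∈ Ψ.range → ((c : S) : K) * (r : K) * ((c : S) : K)⁻¹ = r := by
      intro r hr
      by_cases hr1 : r = 1
      · rw [hr1]; simp
      · have hk : φ (c : S) ⟨⟨r, hr⟩, fun e => hr1 (congrArg Subtype.val e)⟩ =
            ⟨⟨r, hr⟩, fun e => hr1 (congrArg Subtype.val e)⟩ := by rw [c.2]; rfl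
        exact congrArg (fun q : {b : Ψ.range // b ≠ 1} => ((q.1 : W) : K)) hk
    rcases hdec ⟨b, hb⟩ with h | h
    · exact mul_inv_eq_iff_eq_mul.mp (hR _ h)
    · have h1 : ((c : S) : K) * (a⁻¹ * b) * ((c : S) : K)⁻¹ = a⁻¹ * b := hR _ h
      have h2 := (hSa _ (c : S).2).1
      refine mul_inv_eq_iff_eq_mul.mp ?_
      calc ((c : S) : K) * b * ((c : S) : K)⁻¹
          = (((c : S) : K) * a * ((c : S) : K)⁻¹) * (((c : S) : K) * (a⁻¹ * b) * ((c : S) : K)⁻¹) := by group
        _ = b := by rw [h2, h1, mul_inv_cancel_left]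
  have hfin := φ.ker.card_mul_index
  rw [index_ker] at hfin
  have := Nat.mul_le_mul hkerQ hrng
  omega

end CfsgM24Det
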