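/-
Counting elements of a given order through a power of prime order or of order two.
-/
import Cfsg.Agent.Lib.SameOrderCounts.Search

set_option autoImplicit false
set_option linter.unusedSectionVars false

namespace CfsgM24Det

open Subgroup CfsgLib.SameOrderCounts

variable {G : Type*} [Group G] [Finite G]

/-- The conjugation equivalence on the elements commuting with a conjugate. -/
def commEquiv (k t : G) (P : G → Prop) (hP : ∀ g, P g ↔ P (k * g * k⁻¹)) :
    {g : G // P g ∧ Commute g t} ≃ {g : G // P g ∧ Commute g (k * t * k⁻¹)} :=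
  Equiv.subtypeEquiv (MulAut.conj k).toEquiv fun g => by
    show _ ↔ P (k * g * k⁻¹) ∧ Commute (k * g * k⁻¹) (k * t * k⁻¹)
    refine and_congr (hP g) ⟨fun h => ?_, fun h => ?_⟩
    · exact h.map (MulAut.conj k).toMonoidHom
    · have h' := h.map (MulAut.conj k⁻¹).toMonoidHom
      simpa [mul_assoc] using h'

/-- Orbit-stabiliser for conjugation. -/
theorem card_class_mul (t : G) :
    Nat.card {g : G // IsConj t g} * Nat.card (centralizer ({t} : Set G)) = Nat.card G := by
  classical
  let f : G ⧸ centralizer ({t} : Set G) → {g : G // IsConj t g} :=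
    fun q => Quotient.liftOn' q (fun a => ⟨a * t * a⁻¹, isConj_iff.mpr ⟨a, rfl⟩⟩) fun a b hab => by
      rw [QuotientGroup.leftRel_apply, mem_centralizer_singleton_iff] at hab
      refine Subtype.ext ?_
      show a * t * a⁻¹ = b * t * b⁻¹
      calc a * t * a⁻¹ = a * (t * (a⁻¹ * b)) * b⁻¹ := by group
        _ = a * ((a⁻¹ * b) * t) * b⁻¹ := by rw [← hab]
        _ = b * t * b⁻¹ := by group
  have hf : Function.Bijective f := by
    refine ⟨fun q r => ?_, fun g => ?_⟩
    · refine Quotient.inductionOn₂' q r fun a b e => ?_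
      have e' : a * t * a⁻¹ = b * t * b⁻¹ := congrArg Subtype.val e
      refine Quotient.sound' ?_
      rw [QuotientGroup.leftRel_apply, mem_centralizer_singleton_iff]
      calc a⁻¹ * b * t = a⁻¹ * (b * t * b⁻¹) * b := by group
        _ = a⁻¹ * (a * t * a⁻¹) * b := by rw [e']
        _ = t * (a⁻¹ * b) := by group
    · obtain ⟨c, hc⟩ := isConj_iff.mp g.2
      exact ⟨Quotient.mk'' c, Subtype.ext hc⟩
  rw [← Nat.card_eq_of_bijective f hf, ← card_eq_card_quotient_mul_card_subgroup]

theorem card_class (t : G) {N c : ℕ} (hN : Nat.card G = N) (hc : Nat.card (centralizer ({t} : Set G)) = c) :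
    Nat.card {g : G // IsConj t g} = N / c := by
  rw [← hN, ← hc, ← card_class_mul t, Nat.mul_div_cancel _ Nat.card_pos]

/-- The elements of a given order with a given power conjugate to `t`. -/
theorem card_pow_class (t : G) (n e : ℕ) :
    Nat.card {g : G // orderOf g = n ∧ IsConj t (g ^ e)} =
      Nat.card {g : G // IsConj t g} * Nat.card {g : G // orderOf g = n ∧ g ^ e = t} := by
  classical
  haveI := Fintype.ofFinite {g : G // IsConj t g}
  let E : {g : G // orderOf g = n ∧ IsConj t (g ^ e)} ≃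
      Σ u : {g : G // IsConj t g}, {g : G // orderOf g = n ∧ g ^ e = u.1} :=
    { toFun := fun g => ⟨⟨g.1 ^ e, g.2.2⟩, ⟨g.1, g.2.1, rfl⟩⟩
      invFun := fun s => ⟨s.2.1, s.2.2.1, s.2.2.2.symm ▸ s.1.2⟩
      left_inv := fun g => rfl
      right_inv := fun ⟨⟨u, hu⟩, g, hn, he⟩ => by
        have he' : g ^ e = u := he
        subst he'; rfl }
  rw [Nat.card_congr E, Nat.card_sigma]
  trans ∑ _u : {g : G // IsConj t g}, Nat.card {g : G // orderOf g = n ∧ g ^ e = t}
  · refine Finset.sum_congr rfl fun u _ => ?_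
    obtain ⟨k, hk⟩ := isConj_iff.mp u.2
    refine (Nat.card_congr (Equiv.subtypeEquiv (MulAut.conj k).toEquiv fun g => ?_)).symm
    show _ ↔ orderOf (MulAut.conj k g) = n ∧ (MulAut.conj k g) ^ e = u.1
    rw [MulEquiv.orderOf_eq, ← map_pow, ← hk]
    exact and_congr Iff.rfl ⟨fun h => by rw [h]; rfl,
      fun h => (MulAut.conj k).injective (h.trans rfl)⟩
  · rw [Finset.sum_const, Finset.card_univ, smul_eq_mul, Nat.card_eq_fintype_card (α := {g : G // IsConj t g})]

/-- A listed lower bound for the elements of one order with a given power. -/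
theorem mul_card_le_pow_class (t : G) (n e : ℕ) (L : Finset G)
    (hL : ∀ g ∈ L, orderOf g = n ∧ g ^ e = t) :
    Nat.card {g : G // IsConj t g} * L.card ≤ Nat.card {g : G // orderOf g = n ∧ IsConj t (g ^ e)} := by
  rw [card_pow_class]
  refine Nat.mul_le_mul_left _ ?_
  rw [← Nat.card_eq_finsetCard]
  exact Nat.card_le_card_of_injective (fun g : L => (⟨g.1, hL g.1 g.2⟩ : {g : G // orderOf g = n ∧ g ^ e = t}))
    fun a b h => Subtype.ext (congrArg (fun x : {g : G // orderOf g = n ∧ g ^ e = t} => x.1) h)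

/-- Two disjoint families of elements of one order. -/
theorem add_le_cnt (n : ℕ) (P P' : G → Prop) (h : ∀ g, orderOf g = n → P g → ¬ P' g) :
    Nat.card {g : G // orderOf g = n ∧ P g} + Nat.card {g : G // orderOf g = n ∧ P' g} ≤ cnt G n := by
  rw [← Nat.card_sum]
  refine Nat.card_le_card_of_injective (Sum.elim (fun g => ⟨g.1, g.2.1⟩) fun g => ⟨g.1, g.2.1⟩) ?_
  rintro (⟨a, ha⟩ | ⟨a, ha⟩) (⟨b, hb⟩ | ⟨b, hb⟩) e
  all_goals
    have e' : a = b := congrArg Subtype.val e
    subst e'
  · rfl
  · exact absurd hb.2 (h a ha.1 ha.2)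
  · exact absurd ha.2 (h a hb.1 hb.2)
  · rfl

section Prime

variable {p : ℕ} [hp : Fact p.Prime]

/-- Any two elements generating Sylow subgroups of prime order differ by conjugation and a power. -/
theorem exists_conj_pow (hP : ∀ P : Sylow p G, Nat.card (P : Subgroup G) = p) {b b' : G}
    (hb : orderOf b = p) (hb' : orderOf b' = p) : ∃ (k : G) (r : ℕ), r.Coprime p ∧ b' = k * b ^ r * k⁻¹ := by
  have hz : ∀ c : G, orderOf c = p → ∃ P : Sylow p G, zpowers c = (P : Subgroup G) := fun c hc => by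
    obtain ⟨P, hQ⟩ := (IsPGroup.of_card (n := 1)
      (show Nat.card (zpowers c) = p ^ 1 by rw [Nat.card_zpowers, hc, pow_one])).exists_le_sylow
    exact ⟨P, eq_of_le_of_card_ge hQ (by rw [hP, Nat.card_zpowers, hc])⟩
  obtain ⟨P, hP1⟩ := hz b hb
  obtain ⟨P', hP2⟩ := hz b' hb'
  obtain ⟨k, hk⟩ := MulAction.exists_smul_eq G P P'
  have hmem : b' ∈ ((k • P : Sylow p G) : Subgroup G) := by rw [hk, ← hP2]; exact mem_zpowers b'
  rw [Sylow.coe_subgroup_smul, ← hP1] at hmem
  obtain ⟨c, hc, hce⟩ := hmem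
  obtain ⟨r, hr⟩ := (mem_powers_iff_mem_zpowers (x := b) (y := c)).mpr hc
  replace hr : b ^ r = c := hr
  subst hr
  have hce' : k * b ^ r * k⁻¹ = b' := hce
  refine ⟨k, r, ?_, hce'.symm⟩
  refine (hp.out.coprime_iff_not_dvd.mpr fun hd => ?_).symm
  have h1 : b ^ r = 1 := orderOf_dvd_iff_pow_eq_one.mp (hb ▸ hd)
  have h2 : b' = 1 := by rw [← hce', h1, mul_one, mul_inv_cancel]
  rw [h2, orderOf_one] at hb'
  exact hp.out.one_lt.ne hb'

theorem card_commute_eq (hP : ∀ P : Sylow p G, Nat.card (P : Subgroup G) = p) {b b' : G}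
    (hb : orderOf b = p) (hb' : orderOf b' = p) (j : ℕ) :
    Nat.card {h : G // orderOf h = j ∧ Commute h b'} = Nat.card {h : G // orderOf h = j ∧ Commute h b} := by
  obtain ⟨k, r, hr, rfl⟩ := exists_conj_pow hP hb hb'
  rw [← Nat.card_congr (commEquiv k (b ^ r) (fun h => orderOf h = j) fun g => by
    show orderOf g = j ↔ orderOf (MulAut.conj k g) = j
    rw [MulEquiv.orderOf_eq])]
  refine Nat.card_congr (Equiv.subtypeEquivRight fun h => and_congr Iff.rfl ⟨fun hc => ?_, fun hc => hc.pow_right r⟩)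
  obtain ⟨s, hs⟩ := exists_pow_eq_self_of_coprime (x := b) (n := r) (by rw [hb]; exact hr)
  rw [← hs]
  exact hc.pow_right s

/-- Elements of order `p * j` are counted through their `p`-parts. -/
theorem cnt_mul_prime (hP : ∀ P : Sylow p G, Nat.card (P : Subgroup G) = p) {b : G} (hb : orderOf b = p)
    {j : ℕ} (hj : p.Coprime j) :
    cnt G (p * j) = cnt G p * Nat.card {h : G // orderOf h = j ∧ Commute h b} := by
  classical
  haveI := Fintype.ofFinite {g : G // orderOf g = p}
  have key : ∀ {x y : G}, orderOf x = p → orderOf y = j → Commute x y → orderOf (x * y) = p * j :=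
    fun hx hy hc => by rw [hc.orderOf_mul_eq_mul_orderOf_of_coprime (by rw [hx, hy]; exact hj), hx, hy]
  let f : (Σ x : {g : G // orderOf g = p}, {h : G // orderOf h = j ∧ Commute h x.1}) →
      {g : G // orderOf g = p * j} := fun s => ⟨s.1.1 * s.2.1, key s.1.2 s.2.2.1 s.2.2.2.symm⟩
  have hf : Function.Bijective f := by
    constructor
    · rintro ⟨⟨x, hx⟩, h, hh, hc⟩ ⟨⟨x', hx'⟩, h', hh', hc'⟩ e
      have e' : x * h = x' * h' := congrArg Subtype.val e
      have h1 : x ^ j = x' ^ j := by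
        have := congrArg (· ^ j) e'
        change (x * h) ^ j = (x' * h') ^ j at this
        rwa [(hc.symm).mul_pow, (hc'.symm).mul_pow, orderOf_dvd_iff_pow_eq_one.mp hh.dvd,
          orderOf_dvd_iff_pow_eq_one.mp hh'.dvd, mul_one, mul_one] at this
      obtain ⟨s, hs⟩ := exists_pow_eq_self_of_coprime (x := x) (n := j) (by rw [hx]; exact hj.symm)
      have hxx : x = x' := by
        have h2 : j * s ≡ 1 [MOD p] := by
          rw [← hx, ← pow_eq_pow_iff_modEq, pow_one, pow_mul]; exact hs
        calc x = (x ^ j) ^ s := hs.symm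
          _ = x' ^ (j * s) := by rw [h1, pow_mul]
          _ = x' ^ 1 := pow_eq_pow_iff_modEq.mpr (hx'.symm ▸ h2)
          _ = x' := pow_one x'
      subst hxx
      obtain rfl := mul_left_cancel e'
      rfl
    · rintro ⟨g, hg⟩
      obtain ⟨u, hu1, hu0⟩ := Nat.chineseRemainder hj 1 0
      obtain ⟨v, hv0, hv1⟩ := Nat.chineseRemainder hj 0 1
      have hj0 : j ≠ 0 := by
        rintro rfl
        exact hp.out.one_lt.ne' (Nat.coprime_zero_right _ |>.mp hj)
      have hsum : g ^ (u + v) = g := by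
        conv_rhs => rw [← pow_one g]
        rw [pow_eq_pow_iff_modEq, hg, ← (Nat.modEq_and_modEq_iff_modEq_mul hj)]
        exact ⟨by simpa using hu1.add hv0, by simpa using hu0.add hv1⟩
      have hou : orderOf (g ^ u) = p := by
        rw [orderOf_pow, hg, Nat.gcd_comm, Nat.Coprime.gcd_mul _ hj]
        have h1 : Nat.gcd u p = 1 := by rw [hu1.gcd_eq]; simp
        have h2 : Nat.gcd u j = j := Nat.gcd_eq_right (Nat.modEq_zero_iff_dvd.mp hu0)
        rw [h1, h2, one_mul, Nat.mul_div_cancel _ (Nat.pos_of_ne_zero hj0)]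
      have hov : orderOf (g ^ v) = j := by
        rw [orderOf_pow, hg, Nat.gcd_comm, Nat.Coprime.gcd_mul _ hj]
        have h1 : Nat.gcd v j = 1 := by rw [hv1.gcd_eq]; simp
        have h2 : Nat.gcd v p = p := Nat.gcd_eq_right (Nat.modEq_zero_iff_dvd.mp hv0)
        rw [h1, h2, mul_one, Nat.mul_div_cancel_left _ hp.out.pos]
      refine ⟨⟨⟨g ^ u, hou⟩, g ^ v, hov, Commute.pow_pow_self g v u⟩, Subtype.ext ?_⟩
      show g ^ u * g ^ v = g
      rw [← pow_add, hsum]
  rw [cnt, ← Nat.card_eq_of_bijective f hf, Nat.card_sigma]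
  trans ∑ _x : {g : G // orderOf g = p}, Nat.card {h : G // orderOf h = j ∧ Commute h b}
  · exact Finset.sum_congr rfl fun x _ => card_commute_eq hP hb x.2 j
  · rw [Finset.sum_const, Finset.card_univ, smul_eq_mul, cnt, Nat.card_eq_fintype_card (α := {g : G // orderOf g = p})]

end Prime

end CfsgM24Det
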