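/-
Local structure of a group with the order and the element counts of the Mathieu group of degree twenty-four.
-/
import Cfsg.Agent.Lib.M24Det.Counts
import Cfsg.Agent.Lib.M11Det.Basic
import Cfsg.Agent.Lib.SolutionCount

set_option autoImplicit false
set_option linter.style.haveILetI false
set_option linter.unusedSectionVars false

namespace CfsgM24Det

open Subgroup CfsgLib.SameOrderCounts
open scoped Pointwise

/-- The fifteen values. -/
def vals : Finset ℕ :=
  {1, 43263, 712448, 5100480, 4080384, 20401920, 11658240, 15301440, 12241152, 22256640, 40803840, 34974720,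
    32643072, 23316480, 21288960}

/-- The hypotheses. -/
structure Ctx (G : Type*) [Group G] : Prop where
  card : Nat.card G = 244823040
  values : ∀ c : ℕ, (0 < c ∧ ∃ n : ℕ, c = Nat.card {g : G // orderOf g = n}) ↔ c ∈ vals

theorem sum_cnt_le {G : Type*} [Group G] [Finite G] (T : Finset ℕ) : ∑ n ∈ T, cnt G n ≤ Nat.card G := by
  classical
  haveI := Fintype.ofFinite G
  rw [← Finset.sum_coe_sort T (fun n => cnt G n)]
  simp only [cnt]
  rw [← Nat.card_sigma]
  refine Nat.card_le_card_of_injective (fun s : Σ n : T, {g : G // orderOf g = (n : ℕ)} => s.2.1) ?_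
  rintro ⟨⟨n, hn⟩, a, ha⟩ ⟨⟨m, hm⟩, b, hb⟩ e
  have e' : a = b := e
  subst e'
  have : n = m := ha.symm.trans hb
  subst this
  rfl

theorem sum_cnt_eq {G : Type*} [Group G] [Finite G] (T : Finset ℕ) (hT : ∀ g : G, orderOf g ∈ T) :
    ∑ n ∈ T, cnt G n = Nat.card G := by
  classical
  haveI := Fintype.ofFinite G
  rw [← Finset.sum_coe_sort T (fun n => cnt G n)]
  simp only [cnt]
  rw [← Nat.card_sigma]
  exact Nat.card_congr (Equiv.sigmaSubtypeFiberEquiv orderOf (fun n => n ∈ T) hT)

variable {G : Type*} [Group G] [Finite G]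

theorem Ctx.mem (hc : Ctx G) {n : ℕ} (h : cnt G n ≠ 0) : cnt G n ∈ vals :=
  (hc.values _).mp ⟨Nat.pos_of_ne_zero h, n, rfl⟩

theorem Ctx.attain (hc : Ctx G) {v : ℕ} (hv : v ∈ vals) : ∃ n, cnt G n = v :=
  ((hc.values v).mpr hv).2.imp fun _ h => h.symm

/-- The order taken to its number of elements is injective. -/
theorem Ctx.inj (hc : Ctx G) {a b : ℕ} (h0 : cnt G a ≠ 0) (h : cnt G a = cnt G b) : a = b := by
  classical
  choose σ hσ using fun v : vals => hc.attain v.2
  have hinj : Function.Injective σ := fun u w e => Subtype.ext (by rw [← hσ u, ← hσ w, e])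
  let T : Finset ℕ := Finset.univ.image σ
  have hT : ∑ n ∈ T, cnt G n = 244823040 := by
    rw [Finset.sum_image fun u _ w _ e => hinj e, Finset.sum_congr rfl (fun u _ => hσ u),
      Finset.sum_coe_sort vals (fun v => v)]
    decide +kernel
  have hout : ∀ n, cnt G n ≠ 0 → n ∈ T := fun n hn => by
    by_contra hnT
    have := sum_cnt_le (G := G) (insert n T)
    rw [Finset.sum_insert hnT, hT, hc.card] at this
    omega
  obtain ⟨u, -, rfl⟩ := Finset.mem_image.mp (hout a h0)
  obtain ⟨w, -, rfl⟩ := Finset.mem_image.mp (hout b (h ▸ h0))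
  rw [hσ, hσ] at h
  exact congrArg σ (Subtype.ext h)

theorem cnt_two_eq (hc : Ctx G) : cnt G 2 = 43263 := by
  haveI : Fact (Nat.Prime 2) := ⟨Nat.prime_two⟩
  obtain ⟨g, hg⟩ := exists_prime_orderOf_dvd_card' (G := G) 2 (by rw [hc.card]; norm_num)
  have h0 : cnt G 2 ≠ 0 := cnt_ne_zero.mpr ⟨g, hg⟩
  have h1 : cnt G 2 ≠ 1 := fun e => absurd (hc.inj h0 (e.trans cnt_one.symm)) (by norm_num)
  have h2 := CfsgLib.frobenius_solutions (G := G) 2
  rw [hc.card, ← sum_cnt_divisors (by norm_num), Nat.prime_two.sum_divisors, cnt_one] at h2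
  have h3 := hc.mem h0
  simp only [vals, Finset.mem_insert, Finset.mem_singleton] at h3
  norm_num at h2
  omega

theorem cnt_prime_facts (hc : Ctx G) {p : ℕ} (hp : p.Prime) (hd : p ∣ Nat.card G) :
    cnt G p ∈ vals ∧ (p - 1) ∣ cnt G p ∧ p ∣ 1 + cnt G p := by
  haveI : Fact p.Prime := ⟨hp⟩
  obtain ⟨g, hg⟩ := exists_prime_orderOf_dvd_card' (G := G) p hd
  refine ⟨hc.mem (cnt_ne_zero.mpr ⟨g, hg⟩), Nat.totient_prime hp ▸ totient_dvd_cnt p, ?_⟩
  have h2 := CfsgLib.frobenius_solutions (G := G) p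
  rw [Nat.gcd_eq_left hd, ← sum_cnt_divisors hp.ne_zero, hp.sum_divisors, cnt_one, add_comm] at h2
  exact h2

theorem cnt_three_eq (hc : Ctx G) : cnt G 3 = 712448 := by
  obtain ⟨h, h1, h2⟩ := cnt_prime_facts hc (p := 3) (by norm_num) (by rw [hc.card]; norm_num)
  simp only [vals, Finset.mem_insert, Finset.mem_singleton] at h
  omega

/-- The counts of the elements of large prime order. -/
theorem cnt_large_eq (hc : Ctx G) :
    cnt G 5 = 4080384 ∧ cnt G 7 = 11658240 ∧ cnt G 11 = 22256640 ∧ cnt G 23 = 21288960 := by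
  obtain ⟨a, a1, a2⟩ := cnt_prime_facts hc (p := 5) (by norm_num) (by rw [hc.card]; norm_num)
  obtain ⟨b, b1, b2⟩ := cnt_prime_facts hc (p := 7) (by norm_num) (by rw [hc.card]; norm_num)
  obtain ⟨c, c1, c2⟩ := cnt_prime_facts hc (p := 11) (by norm_num) (by rw [hc.card]; norm_num)
  obtain ⟨d, d1, d2⟩ := cnt_prime_facts hc (p := 23) (by norm_num) (by rw [hc.card]; norm_num)
  simp only [vals, Finset.mem_insert, Finset.mem_singleton] at a b c d
  exact ⟨by omega, by omega, by omega, by omega⟩

theorem sylow_card (hc : Ctx G) (p : ℕ) [hp : Fact p.Prime] (hp5 : p = 5 ∨ p = 7 ∨ p = 11 ∨ p = 23)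
    (P : Sylow p G) : Nat.card (P : Subgroup G) = p := by
  rw [P.card_eq_multiplicity, hc.card]
  have e : (244823040 : ℕ) = p * (244823040 / p) := by rcases hp5 with rfl | rfl | rfl | rfl <;> norm_num
  have hnd : ¬ p ∣ 244823040 / p := by rcases hp5 with rfl | rfl | rfl | rfl <;> norm_num
  rw [e, Nat.factorization_mul hp.out.ne_zero (by rintro h; exact hnd (h ▸ dvd_zero p)), Finsupp.add_apply,
    hp.out.factorization_self, Nat.factorization_eq_zero_of_not_dvd hnd, pow_one]

/-- Elements of one order in a centraliser. -/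
def centOrd (x : G) (j : ℕ) :
    {g : ↥(centralizer ({x} : Set G)) // orderOf g = j} ≃ {h : G // orderOf h = j ∧ Commute h x} where
  toFun g := ⟨g.1.1, (Subgroup.orderOf_coe g.1).trans g.2, mem_centralizer_singleton_iff.mp g.1.2⟩
  invFun h := ⟨⟨h.1, mem_centralizer_singleton_iff.mpr h.2.2.eq⟩, (Subgroup.orderOf_coe _).symm.trans h.2.1⟩
  left_inv _ := rfl
  right_inv _ := rfl

theorem cnt_cent (x : G) (j : ℕ) :
    cnt ↥(centralizer ({x} : Set G)) j = Nat.card {h : G // orderOf h = j ∧ Commute h x} :=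
  Nat.card_congr (centOrd x j)

theorem cnt_mul_cent (hc : Ctx G) (p : ℕ) [hp : Fact p.Prime] (hp5 : p = 5 ∨ p = 7 ∨ p = 11 ∨ p = 23)
    {x : G} (hx : orderOf x = p) {j : ℕ} (hj : p.Coprime j) :
    cnt G (p * j) = cnt G p * cnt ↥(centralizer ({x} : Set G)) j := by
  rw [cnt_cent, cnt_mul_prime (sylow_card hc p hp5) hx hj]

/-- Elements of one order are fixed or moved in orbits of length `p`. -/
theorem cnt_modEq {p : ℕ} [hp : Fact p.Prime] {x : G} (hx : orderOf x = p) (n : ℕ) :
    cnt G n ≡ cnt ↥(centralizer ({x} : Set G)) n [MOD p] := by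
  letI : MulAction (zpowers x) {g : G // orderOf g = n} :=
    { smul := fun z g => ⟨MulAut.conj (z : G) g.1, by rw [MulEquiv.orderOf_eq]; exact g.2⟩
      one_smul := fun g => Subtype.ext (by show MulAut.conj (1 : G) g.1 = g.1; simp)
      mul_smul := fun s t g => Subtype.ext (by
        show MulAut.conj ((s : G) * t) g.1 = MulAut.conj (s : G) (MulAut.conj (t : G) g.1); simp [map_mul]) }
  have hP : IsPGroup p (zpowers x) := IsPGroup.of_card (n := 1) (by rw [Nat.card_zpowers, hx, pow_one])
  have h := hP.card_modEq_card_fixedPoints {g : G // orderOf g = n}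
  rw [cnt_cent]
  refine h.trans ?_
  rw [Nat.card_congr (show MulAction.fixedPoints (zpowers x) {g : G // orderOf g = n} ≃
    {h : G // orderOf h = n ∧ Commute h x} from
    { toFun := fun g => ⟨g.1.1, g.1.2, by
        have := congrArg Subtype.val (g.2 ⟨x, mem_zpowers x⟩)
        exact (mul_inv_eq_iff_eq_mul.mp this).symm⟩
      invFun := fun h => ⟨⟨h.1, h.2.1⟩, fun z => Subtype.ext (by
        obtain ⟨i, hi⟩ := mem_zpowers_iff.mp z.2
        show (z : G) * h.1 * (z : G)⁻¹ = h.1
        rw [← hi, (h.2.2.zpow_right i).symm.eq, mul_inv_cancel_right])⟩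
      left_inv := fun g => rfl
      right_inv := fun h => rfl })]

/-- The order of a centraliser of an element of large prime order. -/
theorem card_cent_of_support (hc : Ctx G) (p : ℕ) [hp : Fact p.Prime] (hp5 : p = 5 ∨ p = 7 ∨ p = 11 ∨ p = 23)
    {x : G} (hx : orderOf x = p) (J : Finset ℕ) (hJ : ∀ j ∈ J, p.Coprime j)
    (hsupp : ∀ j, p.Coprime j → cnt ↥(centralizer ({x} : Set G)) j ≠ 0 → j ∈ J) :
    Nat.card ↥(centralizer ({x} : Set G)) = p * ∑ j ∈ J, cnt ↥(centralizer ({x} : Set G)) j := by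
  classical
  set C := centralizer ({x} : Set G)
  have hxC : x ∈ C := mem_centralizer_singleton_iff.mpr rfl
  have hb : orderOf (⟨x, hxC⟩ : C) = p := (Subgroup.orderOf_coe _).symm.trans hx
  have hPC : ∀ P : Sylow p C, Nat.card (P : Subgroup C) = p := by
    intro P
    obtain ⟨Q, hQ⟩ := (IsPGroup.map P.2 C.subtype).exists_le_sylow
    refine le_antisymm ?_ ?_
    · rw [← card_map_of_injective C.subtype_injective (K := (P : Subgroup C))]
      exact (Nat.le_of_dvd Nat.card_pos (card_dvd_of_le hQ)).trans_eq (sylow_card hc p hp5 Q)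
    · refine Nat.le_of_dvd Nat.card_pos (P.dvd_card_of_dvd_card ?_)
      rw [← hb]; exact orderOf_dvd_natCard _
  have hp1 : cnt C p = p - 1 := by
    have hcen : ∀ c : C, c * ⟨x, hxC⟩ * c⁻¹ = ⟨x, hxC⟩ := fun c => Subtype.ext (by
      show (c : G) * x * (c : G)⁻¹ = x
      rw [mem_centralizer_singleton_iff.mp c.2, mul_inv_cancel_right])
    have hall : ∀ P : Sylow p C, zpowers (⟨x, hxC⟩ : C) = (P : Subgroup C) := by
      intro P
      obtain ⟨Q, hQ⟩ := (IsPGroup.of_card (p := p) (n := 1)
        (show Nat.card (zpowers (⟨x, hxC⟩ : C)) = p ^ 1 by rw [Nat.card_zpowers, hb, pow_one])).exists_le_sylow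
      obtain ⟨c, hcc⟩ := MulAction.exists_smul_eq C Q P
      refine eq_of_le_of_card_ge (zpowers_le.mpr ?_) (by rw [hPC, Nat.card_zpowers, hb])
      rw [← hcc, Sylow.coe_subgroup_smul, ← hcen c]
      exact Subgroup.smul_mem_pointwise_smul _ (MulAut.conj c) _ (hQ (mem_zpowers _))
    have hss : Subsingleton (Sylow p C) := ⟨fun P Q => Sylow.ext ((hall P).symm.trans (hall Q))⟩
    rw [cnt, CfsgM11Det.count_prime hPC, Nat.card_of_subsingleton (default : Sylow p C), one_mul]
  have hall : ∀ j, p.Coprime j → cnt C (p * j) = (p - 1) * cnt C j := fun j hj => by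
    rw [cnt_mul_prime hPC hb hj, hp1]
    congr 1
    exact Nat.card_congr (Equiv.subtypeEquivRight fun h => ⟨fun hh => hh.1, fun hh =>
      ⟨hh, Subtype.ext (mem_centralizer_singleton_iff.mp h.2)⟩⟩)
  have hT : ∀ g : C, orderOf g ∈ J ∪ J.image (p * ·) := by
    intro g
    have h0 : cnt C (orderOf g) ≠ 0 := cnt_ne_zero.mpr ⟨g, rfl⟩
    by_cases hd : p ∣ orderOf g
    · obtain ⟨j, hj⟩ := hd
      have hcop : p.Coprime j := by
        rw [hp.out.coprime_iff_not_dvd]
        intro hpj
        have h2 : p * p ∣ Nat.card G := by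
          refine (Nat.mul_dvd_mul_left p hpj).trans ?_
          rw [← hj, ← Subgroup.orderOf_coe]; exact orderOf_dvd_natCard _
        rw [hc.card] at h2
        rcases hp5 with rfl | rfl | rfl | rfl <;> norm_num at h2
      rw [hj, hall j hcop] at h0
      exact Finset.mem_union_right _ (Finset.mem_image.mpr ⟨j, hsupp j hcop (right_ne_zero_of_mul h0), hj.symm⟩)
    · exact Finset.mem_union_left _ (hsupp _ (hp.out.coprime_iff_not_dvd.mpr hd) h0)
  rw [← sum_cnt_eq _ hT, Finset.sum_union ?_, Finset.sum_image fun a _ b _ e => Nat.eq_of_mul_eq_mul_left hp.out.pos e,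
    Finset.sum_congr rfl (fun j hj => hall j (hJ j hj)), ← Finset.mul_sum]
  · set S := ∑ j ∈ J, cnt C j
    have := hp.out.one_lt
    obtain ⟨q, rfl⟩ : ∃ q, p = q + 1 := ⟨p - 1, by omega⟩
    rw [Nat.add_sub_cancel]; ring
  · rw [Finset.disjoint_right]
    intro n hn hnJ
    obtain ⟨j, -, rfl⟩ := Finset.mem_image.mp hn
    exact (hp.out.coprime_iff_not_dvd.mp (hJ _ hnJ)) (dvd_mul_right p j)

theorem cent_eleven (hc : Ctx G) {x : G} (hx : orderOf x = 11) :
    Nat.card ↥(centralizer ({x} : Set G)) = 11 := by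
  haveI : Fact (Nat.Prime 11) := ⟨by norm_num⟩
  rw [card_cent_of_support hc 11 (by omega) hx {1} (by simp) (fun j hj h0 => ?_), Finset.sum_singleton, cnt_one]
  have e := cnt_mul_cent hc 11 (by omega) hx hj
  have h5 := (cnt_large_eq hc).2.2.1
  rw [h5] at e
  have hne : cnt G (11 * j) ≠ 0 := by rw [e]; exact mul_ne_zero (by norm_num) h0
  have hv := hc.mem hne
  simp only [vals, Finset.mem_insert, Finset.mem_singleton] at hv
  have : 11 * j = 11 := hc.inj hne (by omega)
  simp only [Finset.mem_singleton]; omega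

theorem cent_twentythree (hc : Ctx G) {x : G} (hx : orderOf x = 23) :
    Nat.card ↥(centralizer ({x} : Set G)) = 23 := by
  haveI : Fact (Nat.Prime 23) := ⟨by norm_num⟩
  rw [card_cent_of_support hc 23 (by omega) hx {1} (by simp) (fun j hj h0 => ?_), Finset.sum_singleton, cnt_one]
  have e := cnt_mul_cent hc 23 (by omega) hx hj
  have h5 := (cnt_large_eq hc).2.2.2
  rw [h5] at e
  have hne : cnt G (23 * j) ≠ 0 := by rw [e]; exact mul_ne_zero (by norm_num) h0
  have hv := hc.mem hne
  simp only [vals, Finset.mem_insert, Finset.mem_singleton] at hv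
  have : 23 * j = 23 := hc.inj hne (by omega)
  simp only [Finset.mem_singleton]; omega

/-- The centraliser of an element of order seven. -/
theorem cent_seven (hc : Ctx G) {x : G} (hx : orderOf x = 7) :
    Nat.card ↥(centralizer ({x} : Set G)) = 42 ∧ cnt ↥(centralizer ({x} : Set G)) 2 = 3 ∧
      cnt ↥(centralizer ({x} : Set G)) 3 = 2 ∧
      ∀ j, Nat.Coprime 7 j → cnt ↥(centralizer ({x} : Set G)) j ≠ 0 → j ∈ ({1, 2, 3} : Finset ℕ) := by
  haveI : Fact (Nat.Prime 7) := ⟨by norm_num⟩
  set C := centralizer ({x} : Set G)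
  have h7 := (cnt_large_eq hc).2.1
  have hk : ∀ j, Nat.Coprime 7 j → cnt C j ≠ 0 →
      cnt G (7 * j) = 11658240 * cnt C j ∧ cnt C j ≤ 3 ∧ (cnt C j = 1 → j = 1) := by
    intro j hj h0
    have e : cnt G (7 * j) = cnt G 7 * cnt C j := cnt_mul_cent hc 7 (by omega) hx hj
    rw [h7] at e
    have hne : cnt G (7 * j) ≠ 0 := by rw [e]; exact mul_ne_zero (by norm_num) h0
    have hv := hc.mem hne
    simp only [vals, Finset.mem_insert, Finset.mem_singleton] at hv
    refine ⟨e, by omega, fun h1 => ?_⟩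
    have : 7 * j = 7 := hc.inj hne (by omega)
    omega
  have m2 : cnt G 2 % 7 = cnt C 2 % 7 := cnt_modEq hx 2
  have m3 : cnt G 3 % 7 = cnt C 3 % 7 := cnt_modEq hx 3
  rw [cnt_two_eq hc] at m2
  rw [cnt_three_eq hc] at m3
  have k2 : cnt C 2 = 3 := by
    have := hk 2 (by norm_num)
    omega
  have k3 : cnt C 3 = 2 := by
    have := hk 3 (by norm_num)
    omega
  have hsupp : ∀ j, Nat.Coprime 7 j → cnt C j ≠ 0 → j ∈ ({1, 2, 3} : Finset ℕ) := by
    intro j hj h0
    obtain ⟨e, hle, h1⟩ := hk j hj h0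
    simp only [Finset.mem_insert, Finset.mem_singleton]
    have hne : cnt G (7 * j) ≠ 0 := by rw [e]; exact mul_ne_zero (by norm_num) h0
    have h2 := (hk 2 (by norm_num) (by omega)).1
    have h3 := (hk 3 (by norm_num) (by omega)).1
    rcases (show cnt C j = 1 ∨ cnt C j = cnt C 3 ∨ cnt C j = cnt C 2 by omega) with h | h | h
    · exact Or.inl (h1 h)
    · have : 7 * j = 7 * 3 := hc.inj hne (by rw [e, h3, h])
      omega
    · have : 7 * j = 7 * 2 := hc.inj hne (by rw [e, h2, h])
      omega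
  refine ⟨?_, k2, k3, hsupp⟩
  rw [card_cent_of_support hc 7 (by omega) hx {1, 2, 3} (by decide) hsupp, Finset.sum_insert (by decide),
    Finset.sum_insert (by decide), Finset.sum_singleton, cnt_one, k2, k3] <;> norm_num

/-- The centraliser of an element of order five. -/
theorem cent_five (hc : Ctx G) {x : G} (hx : orderOf x = 5) :
    Nat.card ↥(centralizer ({x} : Set G)) = 60 ∧ cnt ↥(centralizer ({x} : Set G)) 2 = 3 ∧
      cnt ↥(centralizer ({x} : Set G)) 3 = 8 ∧
      ∀ j, Nat.Coprime 5 j → cnt ↥(centralizer ({x} : Set G)) j ≠ 0 → j ∈ ({1, 2, 3} : Finset ℕ) := by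
  classical
  haveI : Fact (Nat.Prime 5) := ⟨by norm_num⟩
  set C := centralizer ({x} : Set G)
  have h5 := (cnt_large_eq hc).1
  have he : ∀ j, Nat.Coprime 5 j → cnt G (5 * j) = 4080384 * cnt C j := fun j hj => by
    have e := cnt_mul_cent hc 5 (by omega) hx hj; rwa [h5] at e
  have hk : ∀ j, Nat.Coprime 5 j → cnt C j ≠ 0 →
      (cnt C j = 1 ∧ j = 1) ∨ cnt C j = 3 ∨ cnt C j = 5 ∨ cnt C j = 8 ∨ cnt C j = 10 := by
    intro j hj h0
    have e := he j hj
    have hne : cnt G (5 * j) ≠ 0 := by rw [e]; exact mul_ne_zero (by norm_num) h0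
    have hv := hc.mem hne
    simp only [vals, Finset.mem_insert, Finset.mem_singleton] at hv
    rcases (show cnt C j = 1 ∨ (cnt C j = 3 ∨ cnt C j = 5 ∨ cnt C j = 8 ∨ cnt C j = 10) by omega) with h | h
    · have : 5 * j = 5 := hc.inj hne (by omega)
      exact Or.inl ⟨h, by omega⟩
    · exact Or.inr h
  have heq : ∀ i j, Nat.Coprime 5 i → Nat.Coprime 5 j → cnt C i ≠ 0 → cnt C i = cnt C j → i = j :=
    fun i j hi hj h0 e => by
      have : 5 * i = 5 * j := hc.inj (by rw [he i hi]; exact mul_ne_zero (by norm_num) h0)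
        (by rw [he i hi, he j hj, e])
      omega
  have m2 : cnt G 2 % 5 = cnt C 2 % 5 := cnt_modEq hx 2
  have m3 : cnt G 3 % 5 = cnt C 3 % 5 := cnt_modEq hx 3
  rw [cnt_two_eq hc] at m2
  rw [cnt_three_eq hc] at m3
  have k3 : cnt C 3 = 8 := by
    have h1 := hk 3 (by norm_num) (by omega)
    have h2 : 2 ∣ cnt C 3 := by
      have := totient_dvd_cnt (G := C) 3
      rwa [Nat.totient_prime Nat.prime_three] at this
    omega
  have k2 : cnt C 2 = 3 := by
    have h1 := hk 2 (by norm_num) (by omega)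
    have h2 : cnt C 2 ≠ 8 := fun e => absurd (heq 2 3 (by norm_num) (by norm_num) (by omega) (by omega)) (by norm_num)
    omega
  have hsupp : ∀ j, Nat.Coprime 5 j → cnt C j ≠ 0 → j ∈ ({1, 2, 3} : Finset ℕ) := by
    intro j hj h0
    simp only [Finset.mem_insert, Finset.mem_singleton]
    by_contra hnot
    simp only [not_or] at hnot
    have hj10 : cnt C j = 10 := by
      rcases hk j hj h0 with h | h | h | h | h
      · exact absurd h.2 hnot.1
      · exact absurd (heq j 2 hj (by norm_num) h0 (by omega)) hnot.2.1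
      · exfalso
        have h2 : Even (Nat.totient j) := Nat.totient_even (by
          rcases Nat.eq_zero_or_pos j with rfl | hpos
          · simp at hj
          · omega)
        have h3 := (even_iff_two_dvd.mp h2).trans (totient_dvd_cnt (G := C) j)
        omega
      · exact absurd (heq j 3 hj (by norm_num) h0 (by omega)) hnot.2.2
      · exact h
    have hall : ∀ i, Nat.Coprime 5 i → cnt C i ≠ 0 → i ∈ ({1, 2, 3, j} : Finset ℕ) := by
      intro i hi hi0
      simp only [Finset.mem_insert, Finset.mem_singleton]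
      rcases hk i hi hi0 with h | h | h | h | h
      · exact Or.inl h.2
      · exact Or.inr (Or.inl (heq i 2 hi (by norm_num) hi0 (by omega)))
      · exfalso
        rcases eq_or_ne i 1 with rfl | hi1
        · rw [cnt_one] at h; omega
        rcases eq_or_ne i 2 with rfl | hi2
        · omega
        have h2 : Even (Nat.totient i) := Nat.totient_even (by
          rcases Nat.eq_zero_or_pos i with rfl | hpos
          · simp at hi
          · omega)
        have h3 := (even_iff_two_dvd.mp h2).trans (totient_dvd_cnt (G := C) i)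
        omega
      · exact Or.inr (Or.inr (Or.inl (heq i 3 hi (by norm_num) hi0 (by omega))))
      · exact Or.inr (Or.inr (Or.inr (heq i j hi hj hi0 (by omega))))
    have hcard := card_cent_of_support hc 5 (by omega) hx {1, 2, 3, j}
      (by
        intro i hi
        simp only [Finset.mem_insert, Finset.mem_singleton] at hi
        rcases hi with rfl | rfl | rfl | rfl
        · norm_num
        · norm_num
        · norm_num
        · exact hj) hall
    have hnotmem : (1 : ℕ) ∉ ({2, 3, j} : Finset ℕ) ∧ (2 : ℕ) ∉ ({3, j} : Finset ℕ) ∧ (3 : ℕ) ∉ ({j} : Finset ℕ) := by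
      simp only [Finset.mem_insert, Finset.mem_singleton]; omega
    rw [Finset.sum_insert hnotmem.1, Finset.sum_insert hnotmem.2.1, Finset.sum_insert hnotmem.2.2,
      Finset.sum_singleton, cnt_one, k2, k3, hj10] at hcard
    haveI : Fact (Nat.Prime 11) := ⟨by norm_num⟩
    obtain ⟨g, hg⟩ := exists_prime_orderOf_dvd_card' (G := C) 11 (by rw [hcard]; norm_num)
    have hg' : orderOf (g : G) = 11 := (Subgroup.orderOf_coe g).trans hg
    have h11 := cent_eleven hc hg'
    have : orderOf x ∣ 11 := by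
      rw [← h11]
      exact orderOf_dvd_natCard _ (mem_centralizer_singleton_iff.mpr (mem_centralizer_singleton_iff.mp g.2).symm)
    rw [hx] at this
    norm_num at this
  refine ⟨?_, k2, k3, hsupp⟩
  rw [card_cent_of_support hc 5 (by omega) hx {1, 2, 3} (by decide) hsupp, Finset.sum_insert (by decide),
    Finset.sum_insert (by decide), Finset.sum_singleton, cnt_one, k2, k3] <;> norm_num

theorem subset_mod : ∀ S ∈ ({5100480, 20401920, 15301440, 40803840} : Finset ℕ).powerset,
    (43264 + ∑ v ∈ S, v) % 1024 = 0 → ∑ v ∈ S, v = 20401920 := by decide +kernel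

/-- The number of elements of two-power order. -/
theorem two_elements (hc : Ctx G) : Nat.card {g : G // g ^ 1024 = 1} = 20445184 := by
  classical
  haveI : Fact (Nat.Prime 7) := ⟨by norm_num⟩
  haveI : Fact (Nat.Prime 5) := ⟨by norm_num⟩
  obtain ⟨h5, h7, h11, h23⟩ := cnt_large_eq hc
  obtain ⟨x7, hx7⟩ := exists_prime_orderOf_dvd_card' (G := G) 7 (by rw [hc.card]; norm_num)
  obtain ⟨x5, hx5⟩ := exists_prime_orderOf_dvd_card' (G := G) 5 (by rw [hc.card]; norm_num)
  obtain ⟨-, a2, a3, -⟩ := cent_seven hc hx7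
  obtain ⟨-, b2, b3, -⟩ := cent_five hc hx5
  have c14 := cnt_mul_cent hc 7 (by omega) hx7 (show Nat.Coprime 7 2 by norm_num)
  have c21 := cnt_mul_cent hc 7 (by omega) hx7 (show Nat.Coprime 7 3 by norm_num)
  have c10 := cnt_mul_cent hc 5 (by omega) hx5 (show Nat.Coprime 5 2 by norm_num)
  have c15 := cnt_mul_cent hc 5 (by omega) hx5 (show Nat.Coprime 5 3 by norm_num)
  rw [h7, a2] at c14
  rw [h7, a3] at c21
  rw [h5, b2] at c10
  rw [h5, b3] at c15
  norm_num at c14 c21 c10 c15
  have hR : ∀ e ∈ ({4, 8, 16, 32, 64, 128, 256, 512, 1024} : Finset ℕ), cnt G e ≠ 0 →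
      cnt G e ∈ ({5100480, 20401920, 15301440, 40803840} : Finset ℕ) := by
    intro e he h0
    have hne : ∀ n v, cnt G n = v → n ∉ ({4, 8, 16, 32, 64, 128, 256, 512, 1024} : Finset ℕ) → cnt G e ≠ v :=
      fun n v hn hmem heq => hmem ((hc.inj h0 (heq.trans hn.symm)) ▸ he)
    have := hne 1 _ cnt_one (by decide); have := hne 2 _ (cnt_two_eq hc) (by decide)
    have := hne 3 _ (cnt_three_eq hc) (by decide); have := hne 5 _ h5 (by decide)
    have := hne 7 _ h7 (by decide); have := hne 11 _ h11 (by decide); have := hne 23 _ h23 (by decide)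
    have := hne 14 _ c14 (by decide); have := hne 21 _ c21 (by decide)
    have := hne 10 _ c10 (by decide); have := hne 15 _ c15 (by decide)
    have hv := hc.mem h0
    simp only [vals, Finset.mem_insert, Finset.mem_singleton] at hv ⊢
    omega
  have hfrob := CfsgLib.frobenius_solutions (G := G) 1024
  rw [hc.card, show Nat.gcd 1024 244823040 = 1024 by norm_num, ← sum_cnt_divisors (by norm_num)] at hfrob
  rw [← sum_cnt_divisors (by norm_num)]
  set T : Finset ℕ := {4, 8, 16, 32, 64, 128, 256, 512, 1024} with hT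
  have hdiv : Nat.divisors 1024 = insert 1 (insert 2 T) := by rw [hT]; decide +kernel
  rw [hdiv, Finset.sum_insert (by rw [hT]; decide), Finset.sum_insert (by rw [hT]; decide), cnt_one,
    cnt_two_eq hc] at hfrob ⊢
  have hsum : ∑ e ∈ T, cnt G e = ∑ v ∈ (T.filter fun e => cnt G e ≠ 0).image (cnt G), v := by
    rw [Finset.sum_image fun a ha b _ e => hc.inj (Finset.mem_filter.mp ha).2 e, Finset.sum_filter_ne_zero]
  have := subset_mod ((T.filter fun e => cnt G e ≠ 0).image (cnt G)) (Finset.mem_powerset.mpr fun v hv => by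
      obtain ⟨e, he, rfl⟩ := Finset.mem_image.mp hv
      exact hR e (Finset.mem_filter.mp he).1 (Finset.mem_filter.mp he).2)
    (by rw [← hsum]; omega)
  omega

end CfsgM24Det
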