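/-
Groups with self-centralising subgroups of order seven and normalisers of order twenty-one.
-/
import Mathlib
import Mathlib.GroupTheory.Transfer
import Mathlib.GroupTheory.QuotientGroup.Basic

set_option autoImplicit false
set_option linter.style.haveILetI false
set_option linter.unusedSectionVars false

namespace CfsgM24Det

open Subgroup
open scoped Pointwise

/-- Order `7 m` with `m` a product of a small power of two and one of three, self-centralising elements
of order seven and normalisers of order twenty-one. -/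
structure Seven (K : Type*) [Group K] (m : ℕ) : Prop where
  card : Nat.card K = 7 * m
  smooth : ∃ a b : ℕ, m = 2 ^ a * 3 ^ b ∧ b ≤ 3
  cent : ∀ y : K, orderOf y = 7 → Nat.card (centralizer ({y} : Set K)) = 7
  norm : ∀ y : K, orderOf y = 7 → Nat.card (normalizer (zpowers y : Set K)) = 21

variable {K : Type*} [Group K] [Finite K] {m : ℕ}

theorem Seven.not_dvd (h : Seven K m) : ¬ 7 ∣ m := by
  obtain ⟨a, b, rfl, -⟩ := h.smooth
  intro hd
  rcases (Nat.Prime.dvd_mul (by norm_num)).mp hd with e | e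
  · exact absurd ((Nat.prime_dvd_prime_iff_eq (by norm_num) Nat.prime_two).mp
      ((Nat.Prime.dvd_of_dvd_pow (by norm_num)) e)) (by norm_num)
  · exact absurd ((Nat.prime_dvd_prime_iff_eq (by norm_num) Nat.prime_three).mp
      ((Nat.Prime.dvd_of_dvd_pow (by norm_num)) e)) (by norm_num)

theorem Seven.sylow_card (h : Seven K m) [Fact (Nat.Prime 7)] (P : Sylow 7 K) :
    Nat.card (P : Subgroup K) = 7 := by
  rw [P.card_eq_multiplicity, h.card, Nat.factorization_mul (by norm_num)
    (fun e => h.not_dvd (by rw [e]; exact dvd_zero 7)), Finsupp.add_apply, Nat.Prime.factorization_self (by norm_num),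
    Nat.factorization_eq_zero_of_not_dvd h.not_dvd, pow_one]

theorem Seven.exists_seven (h : Seven K m) : ∃ y : K, orderOf y = 7 :=
  haveI : Fact (Nat.Prime 7) := ⟨by norm_num⟩
  exists_prime_orderOf_dvd_card' 7 (h.card ▸ dvd_mul_right 7 m)

/-- A subgroup normalised by an element of order seven and of order prime to seven. -/
theorem Seven.card_mod (h : Seven K m) {y : K} (hy : orderOf y = 7) {L : Subgroup K}
    (hn : y ∈ normalizer (L : Set K)) (h7 : ¬ 7 ∣ Nat.card L) : Nat.card L % 7 = 1 := by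
  haveI : Fact (Nat.Prime 7) := ⟨by norm_num⟩
  have hle : zpowers y ≤ normalizer (L : Set K) := zpowers_le.mpr hn
  letI : MulAction (zpowers y) L :=
    { smul := fun v a => ⟨(v : K) * a * (v : K)⁻¹, (mem_normalizer_iff.mp (hle v.2) a).mp a.2⟩
      one_smul := fun a => Subtype.ext (by show ((1 : zpowers y) : K) * a * ((1 : zpowers y) : K)⁻¹ = a; simp)
      mul_smul := fun v w a => Subtype.ext (by
        show ((v * w : zpowers y) : K) * a * ((v * w : zpowers y) : K)⁻¹ = v * (w * a * (w : K)⁻¹) * (v : K)⁻¹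
        simp [mul_assoc]) }
  have hmod := (IsPGroup.of_card (p := 7) (n := 1)
    (show Nat.card (zpowers y) = 7 ^ 1 by rw [Nat.card_zpowers, hy, pow_one])).card_modEq_card_fixedPoints L
  have hfix : MulAction.fixedPoints (zpowers y) L = {1} := by
    ext a
    refine ⟨fun ha => ?_, fun ha v => ?_⟩
    · have e : y * (a : K) * y⁻¹ = a := congrArg Subtype.val (ha ⟨y, mem_zpowers y⟩)
      have hd := orderOf_dvd_natCard (centralizer ({y} : Set K))
        (mem_centralizer_singleton_iff.mpr (mul_inv_eq_iff_eq_mul.mp e).symm)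
      rw [h.cent y hy, Nat.dvd_prime (by norm_num)] at hd
      rcases hd with e1 | e1
      · exact Set.mem_singleton_iff.mpr (Subtype.ext (orderOf_eq_one_iff.mp e1))
      · exact absurd (e1 ▸ orderOf_dvd_natCard L a.2) h7
    · rw [Set.mem_singleton_iff] at ha
      subst ha
      exact Subtype.ext (by show (v : K) * 1 * (v : K)⁻¹ = 1; simp)
  rw [hfix, Nat.card_coe_set_eq, Set.ncard_singleton] at hmod
  exact hmod

/-- A normal subgroup of order prime to seven is a two-group of order `1`, `8`, `64`, `512`, ... -/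
theorem Seven.normal_small (h : Seven K m) (N : Subgroup K) [N.Normal] (h7 : ¬ 7 ∣ Nat.card N) :
    ∃ a, Nat.card N = 2 ^ a ∧ 2 ^ a % 7 = 1 := by
  haveI : Fact (Nat.Prime 7) := ⟨by norm_num⟩
  haveI : Fact (Nat.Prime 3) := ⟨Nat.prime_three⟩
  obtain ⟨a, b, hm, hb⟩ := h.smooth
  have hdvd : Nat.card N ∣ 2 ^ a * 3 ^ b := by
    have hd := card_subgroup_dvd_card N
    rw [h.card, ← hm] at *
    exact ((Nat.Prime.coprime_iff_not_dvd (by norm_num)).mpr h7).symm.dvd_of_dvd_mul_left hd
  obtain ⟨P⟩ : Nonempty (Sylow 3 N) := inferInstance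
  have hsup := Sylow.normalizer_sup_eq_top P
  set L := (P : Subgroup N).map N.subtype with hL
  have hmul : Nat.card K ∣ Nat.card (normalizer (L : Set K)) * Nat.card N := by
    have hidx : N.index = N.relIndex (normalizer (L : Set K)) := by
      rw [← relIndex_sup_right, show normalizer (L : Set K) ⊔ N = ⊤ from hsup, relIndex_top_right]
    rw [← N.card_mul_index, hidx, mul_comm]
    exact Nat.mul_dvd_mul_right (index_dvd_card _) _
  have h7L : 7 ∣ Nat.card (normalizer (L : Set K)) := by
    have := (dvd_trans (h.card ▸ dvd_mul_right 7 m) hmul)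
    exact ((Nat.Prime.dvd_mul (by norm_num)).mp this).resolve_right h7
  obtain ⟨y, hy⟩ := exists_prime_orderOf_dvd_card' (G := normalizer (L : Set K)) 7 h7L
  have hcL : Nat.card L = Nat.card (P : Subgroup N) := card_map_of_injective N.subtype_injective
  have hmod := h.card_mod ((Subgroup.orderOf_coe y).trans hy) y.2
    (fun e => h7 (e.trans (hcL ▸ card_subgroup_dvd_card (P : Subgroup N))))
  rw [hcL] at hmod
  obtain ⟨k, hk⟩ := IsPGroup.iff_card.mp P.isPGroup'
  have hk3 : k ≤ 3 := by
    have h1 : 3 ^ k ∣ 2 ^ a * 3 ^ b := (hk ▸ card_subgroup_dvd_card (P : Subgroup N)).trans hdvd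
    have h2 := (Nat.Coprime.pow k a (by norm_num : Nat.Coprime 3 2)).dvd_of_dvd_mul_left h1
    exact ((Nat.pow_dvd_pow_iff_le_right (by norm_num)).mp h2).trans hb
  rw [hk] at hmod
  have hk0 : k = 0 := by interval_cases k <;> simp_all
  have h3 : ¬ 3 ∣ Nat.card N := fun e => by
    have := P.dvd_card_of_dvd_card e
    rw [hk, hk0] at this
    norm_num at this
  obtain ⟨c, -, hc⟩ := (Nat.dvd_prime_pow Nat.prime_two).mp
    ((Nat.Coprime.pow_right b ((Nat.Prime.coprime_iff_not_dvd Nat.prime_three).mpr h3).symm).dvd_of_dvd_mul_right hdvd)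
  refine ⟨c, hc, ?_⟩
  obtain ⟨y0, hy0⟩ := h.exists_seven
  rw [← hc]
  exact h.card_mod hy0 (by rw [normalizer_eq_top]; trivial) h7

/-- A normal subgroup of order divisible by seven has index one, or index three with a normal
complement of order seven. -/
theorem Seven.normal_big (h : Seven K m) (N : Subgroup K) [N.Normal] (h7 : 7 ∣ Nat.card N) :
    N = ⊤ ∨ ∃ (T : Subgroup K) (a : ℕ), T.Normal ∧ Nat.card T = 2 ^ a ∧ m = 3 * 2 ^ a := by
  haveI : Fact (Nat.Prime 7) := ⟨by norm_num⟩
  obtain ⟨y, hy⟩ := exists_prime_orderOf_dvd_card' (G := N) 7 h7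
  have hyK : orderOf (y : K) = 7 := (Subgroup.orderOf_coe y).trans hy
  obtain ⟨P, hP⟩ := (IsPGroup.of_card (p := 7) (n := 1)
    (show Nat.card (zpowers (y : K)) = 7 ^ 1 by rw [Nat.card_zpowers, hyK, pow_one])).exists_le_sylow
  have hPy : zpowers (y : K) = (P : Subgroup K) :=
    eq_of_le_of_card_ge hP (by rw [h.sylow_card, Nat.card_zpowers, hyK])
  have hPN : (P : Subgroup K) ≤ N := by rw [← hPy]; exact zpowers_le.mpr y.2
  have hN21 : Nat.card (normalizer ((P : Subgroup K) : Set K)) = 21 := by rw [← hPy]; exact h.norm _ hyK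
  rcases eq_or_ne N ⊤ with e | hne
  · exact Or.inl e
  refine Or.inr ?_
  set NP := normalizer ((P : Subgroup K) : Set K)
  have hinf7 : 7 ∣ Nat.card (NP ⊓ N : Subgroup K) := by
    rw [← h.sylow_card P]
    exact card_dvd_of_le (le_inf le_normalizer hPN)
  have hinfd : Nat.card (NP ⊓ N : Subgroup K) ∣ 21 := hN21 ▸ card_dvd_of_le inf_le_left
  have hsup := Sylow.normalizer_sup_eq_top' P hPN
  have hinf : Nat.card (NP ⊓ N : Subgroup K) = 7 := by
    have hmem : Nat.card (NP ⊓ N : Subgroup K) ∈ Nat.divisors 21 := Nat.mem_divisors.mpr ⟨hinfd, by norm_num⟩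
    rw [show Nat.divisors 21 = {1, 3, 7, 21} by decide] at hmem
    simp only [Finset.mem_insert, Finset.mem_singleton] at hmem
    rcases hmem with e | e | e | e
    · omega
    · omega
    · exact e
    · exfalso
      have hle : NP ≤ N := by
        have : NP ⊓ N = NP := eq_of_le_of_card_ge inf_le_left (by rw [e, hN21])
        exact this ▸ inf_le_right
      exact hne (by rw [← hsup]; exact (sup_eq_right.mpr hle).symm)
  have hidx : Nat.card N * 3 = 7 * m := by
    have h1 : NP.relIndex N * Nat.card (NP ⊓ N : Subgroup K) = Nat.card N := by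
      rw [relIndex, ← index_mul_card (NP.subgroupOf N)]
      congr 1
      exact Nat.card_congr (by
        rw [← inf_subgroupOf_right]
        exact (subgroupOfEquivOfLe inf_le_right).toEquiv.symm)
    have h2 : N.relIndex NP * Nat.card (NP ⊓ N : Subgroup K) = Nat.card NP := by
      rw [relIndex, ← index_mul_card (N.subgroupOf NP)]
      congr 1
      exact Nat.card_congr (by
        rw [inf_comm, ← inf_subgroupOf_right]
        exact (subgroupOfEquivOfLe inf_le_right).toEquiv.symm)
    have h3 : N.relIndex NP = N.index := by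
      rw [← relIndex_sup_right, show NP ⊔ N = ⊤ from hsup, relIndex_top_right]
    rw [hinf, hN21] at h2
    rw [← h.card, ← N.card_mul_index, ← h3]
    congr 1; omega
  -- a normal complement
  let P' : Sylow 7 N := P.subtype hPN
  have hP'7 : Nat.card (P' : Subgroup N) = 7 := by
    show Nat.card ((P : Subgroup K).subgroupOf N) = 7
    rw [Nat.card_congr (subgroupOfEquivOfLe hPN).toEquiv]; exact h.sylow_card P
  have hle : normalizer (P' : Set N) ≤ centralizer (P' : Set N) := by
    intro g hg
    have hgK : (g : K) ∈ NP ⊓ N := by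
      refine ⟨mem_normalizer_iff.mpr fun z => ?_, g.2⟩
      constructor
      · intro hz
        exact mem_subgroupOf.mp ((mem_normalizer_iff.mp hg ⟨z, hPN hz⟩).mp (mem_subgroupOf.mpr hz))
      · intro hz
        have hzN : z ∈ N := by
          have := hPN hz
          have h' := N.mul_mem (N.mul_mem (N.inv_mem g.2) this) g.2
          simpa [mul_assoc] using h'
        exact mem_subgroupOf.mp ((mem_normalizer_iff.mp hg ⟨z, hzN⟩).mpr (mem_subgroupOf.mpr hz))
    have hPinf : (P : Subgroup K) = NP ⊓ N :=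
      eq_of_le_of_card_ge (le_inf le_normalizer hPN) (by rw [hinf, h.sylow_card])
    rw [← hPinf] at hgK
    haveI : IsCyclic (P : Subgroup K) := isCyclic_of_prime_card (h.sylow_card P)
    letI : CommGroup (P : Subgroup K) := IsCyclic.commGroup
    rw [mem_centralizer_iff]
    intro z hz
    exact Subtype.ext (congrArg (fun w : (P : Subgroup K) => (w : K)) (mul_comm (⟨(z : K), mem_subgroupOf.mp hz⟩ : (P : Subgroup K)) ⟨g, hgK⟩))
  have hT0 := MonoidHom.ker_transferSylow_isComplement' P' hle
  set T0 := (MonoidHom.transferSylow P' hle).ker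
  have hT0c : Nat.card T0 * 7 = Nat.card N := by rw [← hP'7]; exact hT0.card_mul
  have hnd := h.not_dvd
  have hT0m : Nat.card T0 * 3 = m := by omega
  have h7T : ¬ 7 ∣ Nat.card T0 := fun e => hnd (hT0m ▸ e.mul_right 3)
  have hN' : (T0.map N.subtype).Normal := by
    refine ⟨fun x hx g => ?_⟩
    obtain ⟨t, ht, rfl⟩ := hx
    refine ⟨⟨g * (t : K) * g⁻¹, (inferInstance : N.Normal).conj_mem _ t.2 g⟩, ?_, rfl⟩
    show _ ∈ T0
    have hord : orderOf (⟨g * (t : K) * g⁻¹, (inferInstance : N.Normal).conj_mem _ t.2 g⟩ : N) = orderOf t := by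
      rw [← Subgroup.orderOf_coe, ← Subgroup.orderOf_coe t]
      exact (MulAut.conj g).orderOf_eq (t : K)
    rw [MonoidHom.mem_ker]
    refine orderOf_eq_one_iff.mp (Nat.eq_one_of_dvd_coprimes ?_
      (orderOf_map_dvd _ _) (orderOf_dvd_natCard _))
    rw [hord, hP'7]
    refine Nat.Coprime.coprime_dvd_left (orderOf_dvd_natCard T0 ht) ?_
    exact ((Nat.Prime.coprime_iff_not_dvd (by norm_num)).mpr h7T).symm
  have hcT : Nat.card (T0.map N.subtype) = Nat.card T0 := card_map_of_injective N.subtype_injective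
  obtain ⟨a, ha, -⟩ := h.normal_small (T0.map N.subtype) (hcT ▸ h7T)
  exact ⟨_, a, hN', ha, by rw [← ha, hcT]; omega⟩

/-- The quotient by a normal subgroup of order prime to seven. -/
theorem Seven.quotient (h : Seven K m) (Q : Subgroup K) [Q.Normal] {m' : ℕ} (h7 : ¬ 7 ∣ Nat.card Q)
    (hm : Nat.card Q * m' = m) : Seven (K ⧸ Q) m' := by
  haveI : Fact (Nat.Prime 7) := ⟨by norm_num⟩
  obtain ⟨a, b, hab, hb⟩ := h.smooth
  have hQpos : 0 < Nat.card Q := Nat.card_pos
  have hcard : Nat.card (K ⧸ Q) = 7 * m' := by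
    have h0 := card_eq_card_quotient_mul_card_subgroup Q
    rw [h.card, ← hm, mul_comm (Nat.card (K ⧸ Q))] at h0
    exact Nat.eq_of_mul_eq_mul_left hQpos (by rw [← h0]; ring)
  have hsmooth : ∃ a b : ℕ, m' = 2 ^ a * 3 ^ b ∧ b ≤ 3 := by
    obtain ⟨c, hc, -⟩ := h.normal_small Q h7
    have hd : 2 ^ c ∣ 2 ^ a * 3 ^ b := ⟨m', by rw [← hab, ← hm, hc]⟩
    have hca : c ≤ a :=
      (Nat.pow_dvd_pow_iff_le_right (by norm_num)).mp
        ((Nat.Coprime.pow c b (by norm_num : Nat.Coprime 2 3)).dvd_of_dvd_mul_right hd)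
    refine ⟨a - c, b, ?_, hb⟩
    refine Nat.eq_of_mul_eq_mul_left hQpos ?_
    rw [hm, hab, hc, ← mul_assoc, ← pow_add, Nat.add_sub_cancel' hca]
  set f := QuotientGroup.mk' Q
  -- lifting
  have hlift : ∀ w : K ⧸ Q, orderOf w = 7 → ∃ y : K, orderOf y = 7 ∧ zpowers (f y) = zpowers w := by
    intro w hw
    obtain ⟨x, rfl⟩ := QuotientGroup.mk'_surjective Q w
    have hd : 7 ∣ orderOf x := hw ▸ orderOf_map_dvd f x
    have hy := orderOf_pow_orderOf_div (orderOf_pos x).ne' hd
    refine ⟨x ^ (orderOf x / 7), hy, eq_of_le_of_card_ge (zpowers_le.mpr ?_) ?_⟩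
    · rw [map_pow]; exact npow_mem_zpowers _ _
    · rw [Nat.card_zpowers, Nat.card_zpowers, hw]
      rcases (Nat.dvd_prime (by norm_num)).mp (hy ▸ orderOf_map_dvd f (x ^ (orderOf x / 7))) with e | e
      · exfalso
        have hq := (QuotientGroup.eq_one_iff _).mp (orderOf_eq_one_iff.mp e)
        exact h7 (hy ▸ orderOf_dvd_natCard Q hq)
      · rw [e]
  have hnorm : ∀ w : K ⧸ Q, orderOf w = 7 → Nat.card (normalizer (zpowers w : Set (K ⧸ Q))) = 21 ∧
      Nat.card (centralizer ({w} : Set (K ⧸ Q))) = 7 := by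
    intro w hw
    obtain ⟨y, hy, hyw⟩ := hlift w hw
    have hf_inj : ∀ g ∈ normalizer (zpowers y : Set K), f g = 1 → g = 1 := by
      intro g hg hg1
      have hgQ : g ∈ Q := (QuotientGroup.eq_one_iff _).mp hg1
      have hd1 := orderOf_dvd_natCard _ hg
      rw [h.norm y hy] at hd1
      have hd2 := orderOf_dvd_natCard Q hgQ
      obtain ⟨c, hc, -⟩ := h.normal_small Q h7
      rw [hc] at hd2
      exact orderOf_eq_one_iff.mp (Nat.eq_one_of_dvd_coprimes
        (Nat.Coprime.pow_right c (by norm_num : Nat.Coprime 21 2)) hd1 hd2)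
    have himg : (normalizer (zpowers y : Set K)).map f = normalizer (zpowers w : Set (K ⧸ Q)) := by
      apply le_antisymm
      · rw [← hyw, ← MonoidHom.map_zpowers]; exact le_normalizer_map f
      · intro v hv
        obtain ⟨c, rfl⟩ := QuotientGroup.mk'_surjective Q v
        let L := (zpowers w).comap f
        have hy1 : zpowers y ≤ L := zpowers_le.mpr (mem_comap.mpr (hyw ▸ mem_zpowers (f y)))
        have hy2 : zpowers (c * y * c⁻¹) ≤ L := zpowers_le.mpr (mem_comap.mpr (by
          rw [map_mul, map_mul, map_inv]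
          exact (mem_normalizer_iff.mp hv (f y)).mp (hyw ▸ mem_zpowers (f y))))
        have hsyl : ∀ z : K, orderOf z = 7 → ∃ P : Sylow 7 K, zpowers z = (P : Subgroup K) := fun z hz => by
          obtain ⟨P, hP⟩ := (IsPGroup.of_card (p := 7) (n := 1)
            (show Nat.card (zpowers z) = 7 ^ 1 by rw [Nat.card_zpowers, hz, pow_one])).exists_le_sylow
          exact ⟨P, eq_of_le_of_card_ge hP (by rw [h.sylow_card, Nat.card_zpowers, hz])⟩
        obtain ⟨P1, hP1⟩ := hsyl y hy
        obtain ⟨P2, hP2⟩ := hsyl (c * y * c⁻¹) (((MulAut.conj c).orderOf_eq y).trans hy)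
        have h1 : (P1 : Subgroup K) ≤ L := hP1 ▸ hy1
        have h2 : (P2 : Subgroup K) ≤ L := hP2 ▸ hy2
        obtain ⟨l, hl⟩ := MulAction.exists_smul_eq L (P2.subtype h2) (P1.subtype h1)
        have hmem : ((l : K) * (c * y * c⁻¹) * (l : K)⁻¹) ∈ zpowers y := by
          have hc2 : (⟨c * y * c⁻¹, hy2 (mem_zpowers _)⟩ : L) ∈ ((P2.subtype h2 : Sylow 7 L) : Subgroup L) := by
            show c * y * c⁻¹ ∈ (P2 : Subgroup K)
            rw [← hP2]; exact mem_zpowers _
          have := Subgroup.smul_mem_pointwise_smul _ (MulAut.conj l) _ hc2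
          rw [← Sylow.coe_subgroup_smul, hl] at this
          rw [hP1]
          exact this
        have hlc : (l : K) * c ∈ normalizer (zpowers y : Set K) := by
          have hmap : (zpowers y).map (MulAut.conj ((l : K) * c)).toMonoidHom = zpowers y := by
            rw [MonoidHom.map_zpowers]
            refine eq_of_le_of_card_ge (zpowers_le.mpr ?_) (le_of_eq ?_)
            · show (l : K) * c * y * ((l : K) * c)⁻¹ ∈ _
              simpa [mul_assoc] using hmem
            · rw [Nat.card_zpowers, Nat.card_zpowers]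
              exact ((MulAut.conj _).orderOf_eq y).symm
          rw [mem_normalizer_iff]
          intro z
          conv_rhs => rw [← hmap, ← MulAut.conj_apply]
          exact (Subgroup.mem_map_iff_mem (MulAut.conj ((l : K) * c)).injective).symm
        have hfl : f (l : K) ∈ (normalizer (zpowers y : Set K)).map f := by
          have := mem_comap.mp l.2
          rw [← hyw, ← MonoidHom.map_zpowers] at this
          exact map_mono le_normalizer this
        have := mul_mem (inv_mem hfl) (mem_map_of_mem f hlc)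
        rwa [map_mul, inv_mul_cancel_left] at this
    have hN : Nat.card (normalizer (zpowers w : Set (K ⧸ Q))) = 21 := by
      rw [← himg, ← h.norm y hy]
      refine (Nat.card_eq_of_bijective (fun g : ↥(normalizer (zpowers y : Set K)) => (⟨f g.1, mem_map_of_mem f g.2⟩ :
        ↥((normalizer (zpowers y : Set K)).map f))) ⟨fun g g' e => ?_, ?_⟩).symm
      swap
      · rintro ⟨v, g, hg, rfl⟩; exact ⟨⟨g, hg⟩, rfl⟩
      have := hf_inj _ (mul_mem g.2 (inv_mem g'.2)) (by
        rw [map_mul, map_inv, mul_inv_eq_one]; exact congrArg Subtype.val e)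
      exact Subtype.ext (mul_inv_eq_one.mp this)
    refine ⟨hN, ?_⟩
    have hle : centralizer ({w} : Set (K ⧸ Q)) ≤ normalizer (zpowers w : Set (K ⧸ Q)) := by
      rw [show centralizer ({w} : Set (K ⧸ Q)) = centralizer (zpowers w : Set (K ⧸ Q)) by
        rw [zpowers_eq_closure, centralizer_closure]]
      exact centralizer_le_normalizer _
    have hd := card_dvd_of_le hle
    rw [hN] at hd
    have h7d : 7 ∣ Nat.card (centralizer ({w} : Set (K ⧸ Q))) :=
      hw ▸ orderOf_dvd_natCard _ (mem_centralizer_singleton_iff.mpr rfl)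
    have hne : Nat.card (centralizer ({w} : Set (K ⧸ Q))) ≠ 21 := by
      intro e
      haveI : Fact (Nat.Prime 3) := ⟨Nat.prime_three⟩
      obtain ⟨g, hg⟩ := exists_prime_orderOf_dvd_card' (G := normalizer (zpowers y : Set K)) 3
        (by rw [h.norm y hy]; norm_num)
      have heq := eq_of_le_of_card_ge hle (by rw [e, hN])
      have hgc : f (g : K) ∈ centralizer ({w} : Set (K ⧸ Q)) := by
        rw [heq, ← himg]; exact mem_map_of_mem f g.2
      have hcy : f ((g : K) * y * (g : K)⁻¹) = f y := by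
        have hy' : f y ∈ zpowers w := hyw ▸ mem_zpowers (f y)
        obtain ⟨i, hi⟩ := mem_zpowers_iff.mp hy'
        rw [map_mul, map_mul, map_inv, ← hi,
          (Commute.zpow_right (show Commute (f (g : K)) w from mem_centralizer_singleton_iff.mp hgc) i).eq,
          mul_inv_cancel_right]
      have hyN : (g : K) * y * (g : K)⁻¹ * y⁻¹ ∈ normalizer (zpowers y : Set K) :=
        mul_mem (le_normalizer ((mem_normalizer_iff.mp g.2 y).mp (mem_zpowers y)))
          (inv_mem (le_normalizer (mem_zpowers y)))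
      have h1 := hf_inj _ hyN (by rw [map_mul, map_inv, hcy, mul_inv_cancel])
      have hgy : (g : K) * y = y * (g : K) := by
        rw [mul_inv_eq_one] at h1
        exact mul_inv_eq_iff_eq_mul.mp h1
      have hd3 := orderOf_dvd_natCard _ (mem_centralizer_singleton_iff.mpr hgy :
        (g : K) ∈ centralizer ({y} : Set K))
      rw [h.cent y hy, Subgroup.orderOf_coe, hg] at hd3
      norm_num at hd3
    have hmem : Nat.card (centralizer ({w} : Set (K ⧸ Q))) ∈ Nat.divisors 21 := Nat.mem_divisors.mpr ⟨hd, by norm_num⟩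
    rw [show Nat.divisors 21 = {1, 3, 7, 21} by decide] at hmem
    simp only [Finset.mem_insert, Finset.mem_singleton] at hmem
    omega
  exact ⟨hcard, hsmooth, fun y hy => (hnorm y hy).2, fun y hy => (hnorm y hy).1⟩

/-- A maximal normal subgroup of order prime to seven has simple quotient, unless there is a normal
subgroup of index twenty-one. -/
theorem Seven.layer (h : Seven K m) :
    (∃ (Q : Subgroup K) (_ : Q.Normal) (a m' : ℕ), Nat.card Q = 2 ^ a ∧ 2 ^ a % 7 = 1 ∧
      2 ^ a * m' = m ∧ Seven (K ⧸ Q) m' ∧ IsSimpleGroup (K ⧸ Q)) ∨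
    ∃ (T : Subgroup K) (a : ℕ), T.Normal ∧ Nat.card T = 2 ^ a ∧ m = 3 * 2 ^ a := by
  classical
  by_cases hbig : ∃ N : Subgroup K, N.Normal ∧ 7 ∣ Nat.card N ∧ N ≠ ⊤
  · obtain ⟨N, hN, h7, hne⟩ := hbig
    exact Or.inr ((h.normal_big N h7).resolve_left hne)
  left
  push Not at hbig
  let S : Set (Subgroup K) := {N | N.Normal ∧ ¬ 7 ∣ Nat.card N}
  obtain ⟨Q, ⟨hQn, hQ7⟩, hmax⟩ := (Set.toFinite S).exists_maximal
    ⟨⊥, inferInstance, by rw [card_bot]; norm_num⟩
  haveI := hQn
  obtain ⟨a, ha, ha7⟩ := h.normal_small Q hQ7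
  obtain ⟨m', hm'⟩ : Nat.card Q ∣ m :=
    ((Nat.Prime.coprime_iff_not_dvd (by norm_num)).mpr hQ7).symm.dvd_of_dvd_mul_left
      (h.card ▸ card_subgroup_dvd_card Q)
  have hq := h.quotient Q hQ7 hm'.symm
  refine ⟨Q, hQn, a, m', ha, ha7, ha ▸ hm'.symm, hq, ?_⟩
  haveI : Nontrivial (K ⧸ Q) := Finite.one_lt_card_iff_nontrivial.mp (by
    obtain ⟨y, hy⟩ := hq.exists_seven
    have := Nat.le_of_dvd Nat.card_pos (hy ▸ orderOf_dvd_natCard y)
    omega)
  refine ⟨fun V hV => ?_⟩
  haveI := hV
  have hle : Q ≤ V.comap (QuotientGroup.mk' Q) := fun x hx => by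
    rw [mem_comap]
    rw [show QuotientGroup.mk' Q x = 1 from (QuotientGroup.eq_one_iff _).mpr hx]
    exact one_mem V
  by_cases h7 : 7 ∣ Nat.card (V.comap (QuotientGroup.mk' Q))
  · exact Or.inr (comap_injective (QuotientGroup.mk'_surjective Q)
      ((hbig _ inferInstance h7).trans (comap_top _).symm))
  · have heq : V.comap (QuotientGroup.mk' Q) = Q :=
      le_antisymm (hmax ⟨inferInstance, h7⟩ hle) hle
    refine Or.inl (comap_injective (QuotientGroup.mk'_surjective Q) ?_)
    rw [heq, MonoidHom.comap_bot, QuotientGroup.ker_mk']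

end CfsgM24Det
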