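/-
The centraliser of an involution commuting with an element of order seven.
-/
import Cfsg.Agent.Lib.M24Det.Local
import Cfsg.Agent.Lib.M24Det.Seven
import Cfsg.Agent.Lib.M24Det.Block
import Cfsg.Agent.S0496

set_option autoImplicit false
set_option linter.style.haveILetI false
set_option linter.unusedSectionVars false

namespace CfsgM24Det

open Subgroup CfsgLib.SameOrderCounts
open scoped Pointwise

/-- Elements of a centraliser inside a subgroup. -/
def centInf {G : Type*} [Group G] (H : Subgroup G) (x : H) :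
    ↥(centralizer ({x} : Set H)) ≃ ↥(H ⊓ centralizer ({(x : G)} : Set G)) where
  toFun g := ⟨(g : H), (g : H).2, mem_centralizer_singleton_iff.mpr
    (congrArg Subtype.val (mem_centralizer_singleton_iff.mp g.2))⟩
  invFun g := ⟨⟨g, g.2.1⟩, mem_centralizer_singleton_iff.mpr (Subtype.ext (mem_centralizer_singleton_iff.mp g.2.2))⟩
  left_inv _ := rfl
  right_inv _ := rfl

/-- Elements normalising a cyclic subgroup inside a subgroup. -/
def normInf {G : Type*} [Group G] (H : Subgroup G) (x : H) :
    ↥(normalizer (zpowers x : Set H)) ≃ ↥(H ⊓ normalizer (zpowers (x : G) : Set G)) where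
  toFun g := ⟨(g : H), (g : H).2, mem_normalizer_iff.mpr fun z => by
    have key : ∀ w : H, (w : G) ∈ zpowers (x : G) ↔ w ∈ zpowers x := fun w => by
      rw [show zpowers (x : G) = (zpowers x).map H.subtype from (MonoidHom.map_zpowers H.subtype x).symm]
      exact mem_map_iff_mem H.subtype_injective
    constructor
    · intro hz
      have hzH : z ∈ H := zpowers_le.mpr x.2 hz
      exact (key ((g : H) * ⟨z, hzH⟩ * (g : H)⁻¹)).mpr ((mem_normalizer_iff.mp g.2 _).mp ((key ⟨z, hzH⟩).mp hz))
    · intro hz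
      have hzH : z ∈ H := by
        have h1 := zpowers_le.mpr x.2 hz
        simpa [mul_assoc] using H.mul_mem (H.mul_mem (H.inv_mem (g : H).2) h1) (g : H).2
      exact (key ⟨z, hzH⟩).mpr ((mem_normalizer_iff.mp g.2 _).mpr
        ((key ((g : H) * ⟨z, hzH⟩ * (g : H)⁻¹)).mp hz))⟩
  invFun g := ⟨⟨g, g.2.1⟩, mem_normalizer_iff.mpr fun w => by
    have key : ∀ w : H, (w : G) ∈ zpowers (x : G) ↔ w ∈ zpowers x := fun w => by
      rw [show zpowers (x : G) = (zpowers x).map H.subtype from (MonoidHom.map_zpowers H.subtype x).symm]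
      exact mem_map_iff_mem H.subtype_injective
    rw [← key w, ← key]
    exact mem_normalizer_iff.mp g.2.2 (w : G)⟩
  left_inv _ := rfl
  right_inv _ := rfl

variable {G : Type*} [Group G] [Finite G]

/-- Three involutions in a centraliser, moved transitively. -/
theorem inv_cent {x : G} {c : ℕ}
    (hcC : Nat.card (centralizer ({x} : Set G)) = c) (h3 : 3 ∣ c)
    (h2 : cnt ↥(centralizer ({x} : Set G)) 2 = 3) (h6 : cnt ↥(centralizer ({x} : Set G)) 6 = 0)
    {s : G} (hs : orderOf s = 2) (hsx : Commute s x) :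
    Nat.card ↥(centralizer ({x} : Set G) ⊓ centralizer ({s} : Set G)) * 3 = c ∧
      Nat.card ↥(normalizer (zpowers x : Set G) ⊓ centralizer ({s} : Set G)) * 3 =
        Nat.card (normalizer (zpowers x : Set G)) := by
  classical
  haveI : Fact (Nat.Prime 3) := ⟨Nat.prime_three⟩
  set C := centralizer ({x} : Set G)
  set N := normalizer (zpowers x : Set G)
  have hsC : s ∈ C := mem_centralizer_singleton_iff.mpr hsx.eq
  have hCN : C ≤ N := by
    show centralizer ({x} : Set G) ≤ _
    rw [show centralizer ({x} : Set G) = centralizer (zpowers x : Set G) by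
      rw [zpowers_eq_closure, centralizer_closure]]
    exact centralizer_le_normalizer _
  have hsC' : orderOf (⟨s, hsC⟩ : C) = 2 := (Subgroup.orderOf_coe _).symm.trans hs
  have hC1 := card_class_mul (⟨s, hsC⟩ : C)
  rw [Nat.card_congr (centInf C ⟨s, hsC⟩), hcC] at hC1
  have hclC : Nat.card {g : C // IsConj ⟨s, hsC⟩ g} ≤ 3 := by
    rw [← h2]
    refine Nat.card_le_card_of_injective (fun g => ⟨g.1, ?_⟩) fun a b e => Subtype.ext (congrArg Subtype.val e :)
    obtain ⟨k, hk⟩ := isConj_iff.mp g.2
    rw [← hk, ← MulAut.conj_apply, MulEquiv.orderOf_eq, hsC']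
  have h3' : ¬ 3 ∣ Nat.card ↥(C ⊓ centralizer ({s} : Set G)) := by
    intro hd
    obtain ⟨w, hw⟩ := exists_prime_orderOf_dvd_card' (G := ↥(C ⊓ centralizer ({s} : Set G))) 3 hd
    rw [← Subgroup.orderOf_coe] at hw
    have hcomm : Commute (w : G) s := mem_centralizer_singleton_iff.mp w.2.2
    have h0 : cnt C 6 ≠ 0 := cnt_ne_zero.mpr ⟨⟨(w : G) * s, mul_mem w.2.1 hsC⟩, by
      rw [← Subgroup.orderOf_coe]
      show orderOf ((w : G) * s) = 6
      rw [hcomm.orderOf_mul_eq_mul_orderOf_of_coprime (by rw [hw, hs]; norm_num), hw, hs]⟩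
    exact h0 h6
  have hcls : Nat.card {g : C // IsConj ⟨s, hsC⟩ g} = 3 := by
    have h3d : 3 ∣ Nat.card {g : C // IsConj ⟨s, hsC⟩ g} :=
      ((Nat.Prime.dvd_mul Nat.prime_three).mp (hC1 ▸ h3)).resolve_right h3'
    haveI : Nonempty {g : C // IsConj ⟨s, hsC⟩ g} := ⟨⟨_, IsConj.refl _⟩⟩
    have := Nat.le_of_dvd Nat.card_pos h3d
    omega
  refine ⟨by rw [← hC1, hcls, mul_comm], ?_⟩
  have hN1 := card_class_mul (⟨s, hCN hsC⟩ : N)
  rw [Nat.card_congr (centInf N ⟨s, hCN hsC⟩)] at hN1
  have hclN : Nat.card {g : N // IsConj ⟨s, hCN hsC⟩ g} = 3 := by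
    refine le_antisymm ?_ ?_
    · rw [← h2]
      refine Nat.card_le_card_of_injective (fun g => ⟨⟨(g.1 : G), ?_⟩, ?_⟩) fun a b e => ?_
      · obtain ⟨k, hk⟩ := isConj_iff.mp g.2
        rw [← hk]
        show (k : G) * s * (k : G)⁻¹ ∈ C
        rw [show C = centralizer ({x} : Set G) from rfl, mem_centralizer_singleton_iff]
        have hk' := mem_normalizer_iff'.mp k.2
        obtain ⟨i, hi⟩ := mem_zpowers_iff.mp ((mem_normalizer_iff.mp (inv_mem k.2) x).mp (mem_zpowers x))
        have hcx : Commute s ((k : G)⁻¹ * x * ((k : G)⁻¹)⁻¹) := hi ▸ hsx.zpow_right i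
        have := hcx.map (MulAut.conj (k : G)).toMonoidHom
        simpa [mul_assoc] using this.eq
      · obtain ⟨k, hk⟩ := isConj_iff.mp g.2
        rw [← Subgroup.orderOf_coe]
        show orderOf ((g.1 : G)) = 2
        rw [← hk]
        show orderOf (MulAut.conj (k : G) s) = 2
        rw [MulEquiv.orderOf_eq, hs]
      · exact Subtype.ext (Subtype.ext (congrArg (fun w : {w : C // orderOf w = 2} => ((w : C) : G)) e :))
    · rw [← hcls]
      refine Nat.card_le_card_of_injective (fun g => ⟨⟨(g.1 : G), hCN g.1.2⟩, ?_⟩) fun a b e =>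
        Subtype.ext (Subtype.ext (congrArg (fun w : {w : N // IsConj ⟨s, hCN hsC⟩ w} => ((w : N) : G)) e :))
      obtain ⟨k, hk⟩ := isConj_iff.mp g.2
      exact isConj_iff.mpr ⟨⟨(k : G), hCN k.2⟩, Subtype.ext (congrArg (fun w : C => (w : G)) hk :)⟩
  rw [← hN1, hclN, mul_comm]

/-- The number of subgroups of prime order. -/
theorem norm_mul (hc : Ctx G) (p : ℕ) [hp : Fact p.Prime] (hp5 : p = 5 ∨ p = 7 ∨ p = 11 ∨ p = 23)
    {x : G} (hx : orderOf x = p) :
    cnt G p * Nat.card (normalizer (zpowers x : Set G)) = 244823040 * (p - 1) := by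
  obtain ⟨P, hP⟩ := (IsPGroup.of_card (p := p) (n := 1)
    (show Nat.card (zpowers x) = p ^ 1 by rw [Nat.card_zpowers, hx, pow_one])).exists_le_sylow
  have hPx : zpowers x = (P : Subgroup G) :=
    eq_of_le_of_card_ge hP (by rw [sylow_card hc p hp5, Nat.card_zpowers, hx])
  rw [cnt, CfsgM11Det.count_prime (sylow_card hc p hp5), P.card_eq_index_normalizer, hPx, ← hc.card,
    ← (normalizer ((P : Subgroup G) : Set G)).card_mul_index]
  show (normalizer ((P : Subgroup G) : Set G)).index * (p - 1) * _ = _
  ring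

theorem seven_in_cent (hc : Ctx G) {y s : G} (hy : orderOf y = 7) (hs : orderOf s = 2) (hsy : Commute s y) :
    Nat.card ↥(centralizer ({y} : Set G) ⊓ centralizer ({s} : Set G)) = 14 ∧
      Nat.card ↥(normalizer (zpowers y : Set G) ⊓ centralizer ({s} : Set G)) = 42 := by
  haveI : Fact (Nat.Prime 7) := ⟨by norm_num⟩
  obtain ⟨h42, h2, -, hsupp⟩ := cent_seven hc hy
  have h6 : cnt ↥(centralizer ({y} : Set G)) 6 = 0 := by
    by_contra h
    exact absurd (hsupp 6 (by norm_num) h) (by decide)
  have hN := norm_mul hc 7 (by omega) hy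
  rw [(cnt_large_eq hc).2.1] at hN
  obtain ⟨a, b⟩ := inv_cent h42 (by norm_num) h2 h6 hs hsy
  constructor <;> omega

theorem five_in_cent (hc : Ctx G) {f s : G} (hf : orderOf f = 5) (hs : orderOf s = 2) (hsf : Commute s f) :
    Nat.card ↥(normalizer (zpowers f : Set G) ⊓ centralizer ({s} : Set G)) = 80 := by
  haveI : Fact (Nat.Prime 5) := ⟨by norm_num⟩
  obtain ⟨h60, h2, -, hsupp⟩ := cent_five hc hf
  have h6 : cnt ↥(centralizer ({f} : Set G)) 6 = 0 := by
    by_contra h
    exact absurd (hsupp 6 (by norm_num) h) (by decide)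
  have hN := norm_mul hc 5 (by omega) hf
  rw [(cnt_large_eq hc).1] at hN
  obtain ⟨a, b⟩ := inv_cent h60 (by norm_num) h2 h6 hs hsf
  omega

/-- Sylow counting inside the centraliser of an involution. -/
theorem count_in_cent (hc : Ctx G) (p : ℕ) [hp : Fact p.Prime] (hp5 : p = 5 ∨ p = 7) {x s : G}
    (hx : orderOf x = p) (hsx : Commute s x) {k : ℕ}
    (hk : Nat.card ↥(normalizer (zpowers x : Set G) ⊓ centralizer ({s} : Set G)) = k) :
    ∃ n, n * k = Nat.card ↥(centralizer ({s} : Set G)) ∧ n % p = 1 := by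
  set C := centralizer ({s} : Set G)
  have hxC : x ∈ C := mem_centralizer_singleton_iff.mpr hsx.symm.eq
  have hx' : orderOf (⟨x, hxC⟩ : C) = p := (Subgroup.orderOf_coe _).symm.trans hx
  obtain ⟨P, hP⟩ := (IsPGroup.of_card (p := p) (n := 1)
    (show Nat.card (zpowers (⟨x, hxC⟩ : C)) = p ^ 1 by rw [Nat.card_zpowers, hx', pow_one])).exists_le_sylow
  obtain ⟨Q, hQ⟩ := (IsPGroup.map P.2 C.subtype).exists_le_sylow
  have hle : Nat.card (P : Subgroup C) ≤ p := by
    rw [← card_map_of_injective C.subtype_injective (K := (P : Subgroup C))]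
    exact (Nat.le_of_dvd Nat.card_pos (card_dvd_of_le hQ)).trans_eq
      (sylow_card hc p (by rcases hp5 with rfl | rfl <;> simp) Q)
  have hPx : zpowers (⟨x, hxC⟩ : C) = (P : Subgroup C) :=
    eq_of_le_of_card_ge hP (by rw [Nat.card_zpowers, hx']; exact hle)
  refine ⟨Nat.card (Sylow p C), ?_, ?_⟩
  · rw [P.card_eq_index_normalizer, ← hk, inf_comm, ← Nat.card_congr (normInf C ⟨x, hxC⟩), hPx, mul_comm]
    exact (normalizer ((P : Subgroup C) : Set C)).card_mul_index
  · have := card_sylow_modEq_one p C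
    rw [Nat.ModEq, Nat.mod_eq_of_lt hp.out.one_lt] at this
    exact this

/-- The possible orders. -/
theorem cent_options (hc : Ctx G) {y s : G} (hy : orderOf y = 7) (hs : orderOf s = 2) (hsy : Commute s y) :
    Nat.card ↥(centralizer ({s} : Set G)) = 12096 ∨ Nat.card ↥(centralizer ({s} : Set G)) = 96768 ∨
      Nat.card ↥(centralizer ({s} : Set G)) = 21504 := by
  haveI : Fact (Nat.Prime 7) := ⟨by norm_num⟩
  set C := centralizer ({s} : Set G) with hC
  obtain ⟨n, hn0, hn7⟩ := count_in_cent hc 7 (Or.inr rfl) hy hsy (seven_in_cent hc hy hs hsy).2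
  have hn : n * 42 = Nat.card C := hn0
  clear hn0
  have hge : 5659 ≤ Nat.card C := by
    have h1 : C.index ≤ 43263 := by
      rw [← cnt_two_eq hc]; exact CfsgM11Det.index_le_count hs
    have h2 := C.card_mul_index
    rw [hc.card] at h2
    have := Nat.mul_le_mul_left (Nat.card C) h1
    omega
  have hno : ∀ p, p = 11 ∨ p = 23 → ¬ p ∣ Nat.card C := by
    intro p hp hd
    haveI : Fact p.Prime := ⟨by rcases hp with rfl | rfl <;> norm_num⟩
    obtain ⟨w, hw⟩ := exists_prime_orderOf_dvd_card' (G := C) p hd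
    rw [← Subgroup.orderOf_coe] at hw
    have hmem : s ∈ centralizer ({(w : G)} : Set G) :=
      mem_centralizer_singleton_iff.mpr (mem_centralizer_singleton_iff.mp w.2).symm
    have h2 := orderOf_dvd_natCard _ hmem
    rcases hp with rfl | rfl
    · rw [hs, cent_eleven hc hw] at h2; norm_num at h2
    · rw [hs, cent_twentythree hc hw] at h2; norm_num at h2
  have hd : Nat.card C ∣ 7 * (5 * (2 ^ 10 * 3 ^ 3)) := by
    have h := hc.card ▸ card_subgroup_dvd_card C
    have e : (244823040 : ℕ) = (7 * (5 * (2 ^ 10 * 3 ^ 3))) * (11 * 23) := by norm_num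
    rw [e] at h
    refine Nat.Coprime.dvd_of_dvd_mul_right ?_ h
    exact Nat.Coprime.mul_right ((Nat.Prime.coprime_iff_not_dvd (by norm_num)).mpr (hno 11 (Or.inl rfl))).symm
      ((Nat.Prime.coprime_iff_not_dvd (by norm_num)).mpr (hno 23 (Or.inr rfl))).symm
  have h7n : n ∣ 5 * (2 ^ 10 * 3 ^ 3) := by
    rw [← hn, show n * 42 = 7 * (n * 6) by ring] at hd
    exact (dvd_mul_right n 6).trans (Nat.dvd_of_mul_dvd_mul_left (by norm_num) hd)
  by_cases h5 : 5 ∣ Nat.card C
  · exfalso
    haveI : Fact (Nat.Prime 5) := ⟨by norm_num⟩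
    obtain ⟨f, hf⟩ := exists_prime_orderOf_dvd_card' (G := C) 5 h5
    rw [← Subgroup.orderOf_coe] at hf
    have hsf : Commute s (f : G) := (mem_centralizer_singleton_iff.mp f.2).symm
    obtain ⟨k, hk0, hk5⟩ := count_in_cent hc 5 (Or.inl rfl) hf hsf (five_in_cent hc hf hs hsf)
    have hk : k * 80 = Nat.card C := hk0
    have hd5 : 5 ∣ n := ((Nat.Prime.dvd_mul (by norm_num)).mp (hn.symm ▸ h5)).resolve_right (by norm_num)
    obtain ⟨n', rfl⟩ := hd5
    have hn' : n' ∣ 2 ^ 10 * 3 ^ 3 := Nat.dvd_of_mul_dvd_mul_left (by norm_num) h7n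
    obtain ⟨u, v, hu, hv, rfl⟩ := Nat.dvd_mul.mp hn'
    obtain ⟨a, ha, rfl⟩ := (Nat.dvd_prime_pow Nat.prime_two).mp hu
    obtain ⟨b, hb, rfl⟩ := (Nat.dvd_prime_pow Nat.prime_three).mp hv
    interval_cases a <;> interval_cases b <;> omega
  · have hn' : n ∣ 2 ^ 10 * 3 ^ 3 := by
      refine Nat.Coprime.dvd_of_dvd_mul_left ?_ h7n
      exact ((Nat.Prime.coprime_iff_not_dvd (by norm_num)).mpr fun e => h5 (hn ▸ e.mul_right 42)).symm
    have h243 : 3 ^ 3 * 3 ∣ Nat.card C → False := fun h => by
      have := h.trans (hc.card ▸ card_subgroup_dvd_card C)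
      norm_num at this
    have h2048 : 2 ^ 10 * 2 ∣ Nat.card C → False := fun h => by
      have := h.trans (hc.card ▸ card_subgroup_dvd_card C)
      norm_num at this
    obtain ⟨u, v, hu, hv, rfl⟩ := Nat.dvd_mul.mp hn'
    obtain ⟨a, ha, rfl⟩ := (Nat.dvd_prime_pow Nat.prime_two).mp hu
    obtain ⟨b, hb, rfl⟩ := (Nat.dvd_prime_pow Nat.prime_three).mp hv
    rw [← hn] at h243 h2048 hge ⊢
    interval_cases a <;> interval_cases b <;> first | omega | (exfalso; apply h243; norm_num; done) | (exfalso; apply h2048; norm_num; done)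

/-- A second involution commuting with a Sylow three-subgroup and the given involution. -/
theorem exists_second (hc : Ctx G) {s : G} (hs : orderOf s = 2) {P : Subgroup G} (hP : Nat.card P = 27)
    (hsP : ∀ x ∈ P, Commute s x) :
    ∃ t : G, orderOf t = 2 ∧ t ≠ s ∧ Commute t s ∧ ∀ x ∈ P, Commute t x := by
  classical
  haveI : Fact (Nat.Prime 2) := ⟨Nat.prime_two⟩
  haveI : Fact (Nat.Prime 3) := ⟨Nat.prime_three⟩
  by_contra hcon
  push Not at hcon
  set X := centralizer (P : Set G)
  have memX : ∀ {g : G}, g ∈ X ↔ ∀ x ∈ P, Commute g x := fun {g} => by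
    rw [mem_centralizer_iff]
    exact ⟨fun h x hx => (h x hx).symm, fun h x hx => (h x hx).eq.symm⟩
  have hsX : s ∈ X := memX.mpr hsP
  let s' : X := ⟨s, hsX⟩
  have hs' : orderOf s' = 2 := (Subgroup.orderOf_coe s').symm.trans hs
  have huniq : ∀ u : X, orderOf u = 2 → Commute u s' → u = s' := fun u hu hus => by
    refine Subtype.ext ?_
    by_contra hne
    obtain ⟨x, hx, hnx⟩ := hcon (u : G) ((Subgroup.orderOf_coe u).trans hu) hne (congrArg Subtype.val hus.eq)
    exact hnx (memX.mp u.2 x hx)
  obtain ⟨T, hT⟩ := (IsPGroup.of_card (p := 2) (n := 1)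
    (show Nat.card (zpowers s') = 2 ^ 1 by rw [Nat.card_zpowers, hs', pow_one])).exists_le_sylow
  have hTu : ∀ u : X, u ∈ (T : Subgroup X) → orderOf u = 2 → u = s' := by
    haveI : Nontrivial (T : Subgroup X) := ⟨⟨⟨s', hT (mem_zpowers s')⟩, 1, fun e => by
      have e' : s' = 1 := congrArg Subtype.val e
      rw [e', orderOf_one] at hs'
      omega⟩⟩
    haveI := IsPGroup.center_nontrivial T.2
    obtain ⟨k, hk⟩ := IsPGroup.iff_card.mp (T.2.to_subgroup (center (T : Subgroup X)))
    have h2d : 2 ∣ Nat.card (center (T : Subgroup X)) := by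
      rw [hk]; refine dvd_pow_self 2 fun e => ?_
      have := Finite.one_lt_card (α := center (T : Subgroup X))
      rw [hk, e] at this; omega
    obtain ⟨z, hz⟩ := exists_prime_orderOf_dvd_card' (G := center (T : Subgroup X)) 2 h2d
    have hzs : ((z : (T : Subgroup X)) : X) = s' := huniq _ (by rw [Subgroup.orderOf_coe, Subgroup.orderOf_coe, hz])
      (congrArg Subtype.val (mem_center_iff.mp z.2 ⟨s', hT (mem_zpowers s')⟩)).symm
    intro u huT hu
    refine huniq u hu ?_
    rw [← hzs]
    exact congrArg Subtype.val (mem_center_iff.mp z.2 ⟨u, huT⟩)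
  have hconj : ∀ u : X, orderOf u = 2 → IsConj s' u := by
    intro u hu
    obtain ⟨T', hT'⟩ := (IsPGroup.of_card (p := 2) (n := 1)
      (show Nat.card (zpowers u) = 2 ^ 1 by rw [Nat.card_zpowers, hu, pow_one])).exists_le_sylow
    obtain ⟨g, hg⟩ := MulAction.exists_smul_eq X T T'
    have h := hT' (mem_zpowers u)
    rw [← hg, Sylow.coe_subgroup_smul] at h
    obtain ⟨w, hw, hwu⟩ := h
    have hwu' : g * w * g⁻¹ = u := hwu
    have hw2 : orderOf w = 2 := by
      rw [← hu, ← hwu']; exact ((MulAut.conj g).orderOf_eq w).symm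
    rw [hTu w hw hw2] at hwu'
    exact isConj_iff.mpr ⟨g, hwu'⟩
  -- involutions of the centraliser
  have hPp : IsPGroup 3 P := IsPGroup.of_card (n := 3) (by rw [hP]; norm_num)
  letI : MulAction P {g : G // orderOf g = 2} :=
    { smul := fun z g => ⟨MulAut.conj (z : G) g.1, by rw [MulEquiv.orderOf_eq]; exact g.2⟩
      one_smul := fun g => Subtype.ext (by show MulAut.conj (1 : G) g.1 = g.1; simp)
      mul_smul := fun a b g => Subtype.ext (by
        show MulAut.conj ((a : G) * b) g.1 = MulAut.conj (a : G) (MulAut.conj (b : G) g.1); simp [map_mul]) }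
  have hmod := hPp.card_modEq_card_fixedPoints {g : G // orderOf g = 2}
  rw [show Nat.card {g : G // orderOf g = 2} = cnt G 2 from rfl, cnt_two_eq hc,
    Nat.card_congr (show MulAction.fixedPoints P {g : G // orderOf g = 2} ≃ {u : X // IsConj s' u} from
    { toFun := fun g => ⟨⟨g.1.1, memX.mpr fun x hx => by
          have := congrArg Subtype.val (g.2 ⟨x, hx⟩)
          exact (mul_inv_eq_iff_eq_mul.mp this).symm⟩, hconj _ ((Subgroup.orderOf_coe _).symm.trans g.1.2)⟩
      invFun := fun u => ⟨⟨(u.1 : G), by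
          obtain ⟨k, hk⟩ := isConj_iff.mp u.2
          rw [Subgroup.orderOf_coe, ← hk, ← MulAut.conj_apply, MulEquiv.orderOf_eq, hs']⟩, fun z => Subtype.ext (by
          show (z : G) * (u.1 : G) * (z : G)⁻¹ = (u.1 : G)
          rw [← (memX.mp u.1.2 z z.2).eq, mul_inv_cancel_right])⟩
      left_inv := fun g => rfl
      right_inv := fun u => rfl })] at hmod
  have hmul := card_class_mul s'
  -- the Sylow three-subgroup of the centraliser centralises the involution
  obtain ⟨R⟩ : Nonempty (Sylow 3 X) := inferInstance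
  have hR : (R : Subgroup X) ≤ centralizer ({s'} : Set X) := by
    intro r hr
    rw [mem_centralizer_singleton_iff]
    refine Subtype.ext ?_
    set R' := (R : Subgroup X).map X.subtype
    have hnorm : R' ≤ normalizer (P : Set G) := by
      rintro _ ⟨w, -, rfl⟩
      rw [mem_normalizer_iff]
      intro z
      have hw := memX.mp w.2
      constructor
      · intro hz
        show (w : G) * z * (w : G)⁻¹ ∈ P
        rw [(hw z hz).eq, mul_inv_cancel_right]; exact hz
      · intro hz
        have h2 : (w : G) * ((w : G) * z * (w : G)⁻¹) = (w : G) * z * (w : G)⁻¹ * (w : G) := (hw _ hz).eq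
        have : z = (w : G) * z * (w : G)⁻¹ := by
          calc z = (w : G)⁻¹ * ((w : G) * z * (w : G)⁻¹ * (w : G)) := by group
            _ = (w : G)⁻¹ * ((w : G) * ((w : G) * z * (w : G)⁻¹)) := by rw [← h2]
            _ = (w : G) * z * (w : G)⁻¹ := by group
        rw [this]; exact hz
    have hsup : IsPGroup 3 (R' ⊔ P : Subgroup G) := (R.2.map X.subtype).to_sup_of_normal_right' hPp hnorm
    obtain ⟨S, hS⟩ := hsup.exists_le_sylow
    have hSc : Nat.card (S : Subgroup G) = 27 := by
      rw [S.card_eq_multiplicity, hc.card, show (244823040 : ℕ) = 3 ^ 3 * 9067520 by norm_num,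
        Nat.factorization_mul (by norm_num) (by norm_num), Finsupp.add_apply,
        Nat.Prime.factorization_pow Nat.prime_three, Finsupp.single_eq_same,
        Nat.factorization_eq_zero_of_not_dvd (show ¬ 3 ∣ 9067520 by norm_num)]
      norm_num
    have hPS : P = (S : Subgroup G) := eq_of_le_of_card_ge (le_sup_right.trans hS) (by rw [hSc, hP])
    have hrP : (r : G) ∈ P := by
      rw [hPS]; exact hS (le_sup_left (a := R') (mem_map_of_mem _ hr))
    exact (hsP _ hrP).eq.symm
  have hidx : ¬ 3 ∣ Nat.card {u : X // IsConj s' u} := by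
    intro hd
    have h1 : Nat.card (R : Subgroup X) * 3 ∣ Nat.card X := by
      rw [← hmul, mul_comm]
      exact Nat.mul_dvd_mul hd (card_dvd_of_le hR)
    rw [← (R : Subgroup X).card_mul_index] at h1
    exact R.not_dvd_index (Nat.dvd_of_mul_dvd_mul_left Nat.card_pos h1)
  rw [Nat.ModEq] at hmod
  omega

/-- The quotient by a central involution. -/
theorem seven_quotient {C : Type*} [Group C] [Finite C] {m : ℕ} (z : C) [(zpowers z).Normal]
    (hz : orderOf z = 2) (hcen : ∀ c : C, Commute z c) (hcard : Nat.card C = 14 * m)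
    (hsm : ∃ a b : ℕ, m = 2 ^ a * 3 ^ b ∧ b ≤ 3)
    (h14 : ∀ y : C, orderOf y = 7 → Nat.card (centralizer ({y} : Set C)) = 14)
    (h42 : ∀ y : C, orderOf y = 7 → Nat.card (normalizer (zpowers y : Set C)) = 42) :
    Seven (C ⧸ zpowers z) m := by
  set f := QuotientGroup.mk' (zpowers z)
  have hcz : Nat.card (zpowers z) = 2 := by rw [Nat.card_zpowers, hz]
  have hker : ∀ g : C, f g = 1 → g = 1 ∨ g = z := by
    intro g hg
    have hgm := (QuotientGroup.eq_one_iff _).mp hg
    rw [← (isOfFinOrder_of_finite z).mem_powers_iff_mem_zpowers, Submonoid.mem_powers_iff] at hgm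
    obtain ⟨k, hk⟩ := hgm
    rw [← pow_mod_orderOf, hz] at hk
    rcases Nat.mod_two_eq_zero_or_one k with e | e <;> rw [e] at hk
    · exact Or.inl (by rw [← hk, pow_zero])
    · exact Or.inr (by rw [← hk, pow_one])
  have hseven : ∀ a b : C, orderOf a = 7 → orderOf b = 7 → f a = f b → a = b := by
    intro a b ha hb e
    rcases hker (a * b⁻¹) (by rw [map_mul, map_inv, e, mul_inv_cancel]) with h | h
    · exact mul_inv_eq_one.mp h
    · exfalso
      have he : a = z * b := by rw [← h, inv_mul_cancel_right]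
      rw [he, (hcen b).orderOf_mul_eq_mul_orderOf_of_coprime (by rw [hz, hb]; norm_num), hz, hb] at ha
      norm_num at ha
  have hlift : ∀ w : C ⧸ zpowers z, orderOf w = 7 → ∃ y : C, orderOf y = 7 ∧ f y = w := by
    intro w hw
    obtain ⟨x, rfl⟩ := QuotientGroup.mk'_surjective _ w
    have h14d : orderOf x ∣ 14 := by
      apply orderOf_dvd_of_pow_eq_one
      rcases hker (x ^ 7) (by rw [map_pow, ← hw, pow_orderOf_eq_one]) with e | e
      · rw [show 14 = 7 * 2 from rfl, pow_mul, e, one_pow]
      · rw [show 14 = 7 * 2 from rfl, pow_mul, e, ← hz, pow_orderOf_eq_one]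
    have h7x : 7 ∣ orderOf x := hw ▸ orderOf_map_dvd f x
    have hmem : orderOf x ∈ Nat.divisors 14 := Nat.mem_divisors.mpr ⟨h14d, by norm_num⟩
    rw [show Nat.divisors 14 = {1, 2, 7, 14} by decide] at hmem
    simp only [Finset.mem_insert, Finset.mem_singleton] at hmem
    rcases (show orderOf x = 7 ∨ orderOf x = 14 by omega) with h | h
    · exact ⟨x, h, rfl⟩
    · refine ⟨x ^ 8, by rw [orderOf_pow, h]; norm_num, ?_⟩
      rw [map_pow, show (8 : ℕ) = 7 + 1 from rfl, pow_succ, ← hw, pow_orderOf_eq_one, one_mul]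
  have hcardq : ∀ H : Subgroup (C ⧸ zpowers z), Nat.card (H.comap f) = 2 * Nat.card H := fun H => by
    rw [← hcz]; exact QuotientGroup.card_preimage_mk _ _
  refine ⟨?_, hsm, fun w hw => ?_, fun w hw => ?_⟩
  · have h := card_eq_card_quotient_mul_card_subgroup (zpowers z)
    rw [hcz, hcard] at h
    omega
  · obtain ⟨y, hy, rfl⟩ := hlift w hw
    have e : centralizer ({y} : Set C) = (centralizer ({f y} : Set (C ⧸ zpowers z))).comap f := by
      ext c
      rw [mem_comap, mem_centralizer_singleton_iff, mem_centralizer_singleton_iff]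
      refine ⟨fun h => by rw [← map_mul, h, map_mul], fun h => ?_⟩
      exact mul_inv_eq_iff_eq_mul.mp (hseven (c * y * c⁻¹) y (((MulAut.conj c).orderOf_eq y).trans hy) hy
        (by rw [map_mul, map_mul, map_inv, h, mul_inv_cancel_right]))
    have := h14 y hy
    rw [e, hcardq] at this
    omega
  · obtain ⟨y, hy, rfl⟩ := hlift w hw
    have e : normalizer (zpowers y : Set C) = (normalizer (zpowers (f y) : Set (C ⧸ zpowers z))).comap f := by
      refine le_antisymm (map_le_iff_le_comap.mp ?_) fun c hc => ?_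
      · rw [← MonoidHom.map_zpowers]; exact le_normalizer_map f
      · have hgen : (zpowers y).map (MulAut.conj c).toMonoidHom = zpowers y := by
          rw [MonoidHom.map_zpowers]
          refine eq_of_le_of_card_ge (zpowers_le.mpr ?_) (le_of_eq ?_)
          · obtain ⟨k, hk⟩ : ∃ k : ℕ, f y ^ k = f c * f y * (f c)⁻¹ := by
              have := (mem_normalizer_iff.mp (mem_comap.mp hc) (f y)).mp (mem_zpowers _)
              rw [← (isOfFinOrder_of_finite (f y)).mem_powers_iff_mem_zpowers, Submonoid.mem_powers_iff] at this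
              exact this
            show c * y * c⁻¹ ∈ _
            have hoc : orderOf (c * y * c⁻¹) = 7 := ((MulAut.conj c).orderOf_eq y).trans hy
            have hok : orderOf (y ^ k) = 7 := by
              refine orderOf_eq_prime (hp := ⟨by norm_num⟩) (by rw [← pow_mul, mul_comm, pow_mul, ← hy, pow_orderOf_eq_one, one_pow]) ?_
              intro e1
              rw [← map_pow, e1, map_one] at hk
              have h1 : f (c * y * c⁻¹) = 1 := by rw [map_mul, map_mul, map_inv, ← hk]
              rcases hker _ h1 with e2 | e2 <;> rw [e2] at hoc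
              · rw [orderOf_one] at hoc; omega
              · rw [hz] at hoc; omega
            rw [hseven _ _ hoc hok (by rw [map_mul, map_mul, map_inv, ← hk, map_pow])]
            exact npow_mem_zpowers _ _
          · rw [Nat.card_zpowers, Nat.card_zpowers]; exact ((MulAut.conj c).orderOf_eq y).symm
        rw [mem_normalizer_iff]
        intro x
        conv_rhs => rw [← hgen, ← MulAut.conj_apply]
        exact (mem_map_iff_mem (MulAut.conj c).injective).symm
    have := h42 y hy
    rw [e, hcardq] at this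
    omega

/-- A normal subgroup of order eight is not acted on faithfully enough. -/
theorem no_eight {K : Type*} [Group K] [Finite K] {m : ℕ} (h : Seven K m) (h27 : 27 ∣ m) (Q : Subgroup K)
    [Q.Normal] (hQ : Nat.card Q = 8) : False := by
  classical
  letI : MulAction K {q : Q // q ≠ 1} :=
    { smul := fun g q => ⟨⟨g * (q.1 : K) * g⁻¹, (inferInstance : Q.Normal).conj_mem _ q.1.2 g⟩, fun e =>
        q.2 (Subtype.ext (conj_eq_one_iff.mp (congrArg Subtype.val e :)))⟩
      one_smul := fun q => Subtype.ext (Subtype.ext (by show (1 : K) * (q.1 : K) * 1⁻¹ = q.1; simp))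
      mul_smul := fun a b q => Subtype.ext (Subtype.ext (by
        show a * b * (q.1 : K) * (a * b)⁻¹ = a * (b * (q.1 : K) * b⁻¹) * a⁻¹; simp [mul_assoc])) }
  set f := MulAction.toPermHom K {q : Q // q ≠ 1}
  have hcardq : Nat.card {q : Q // q ≠ 1} = 7 := by
    have := CfsgM11Det.card_compl_one Q; omega
  have hdvd : Nat.card f.range ∣ 5040 := by
    have := card_subgroup_dvd_card f.range
    rwa [Nat.card_perm, hcardq, show Nat.factorial 7 = 5040 by rfl] at this
  have h7 : ¬ 7 ∣ Nat.card f.ker := by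
    intro hd
    haveI : Fact (Nat.Prime 7) := ⟨by norm_num⟩
    haveI : Fact (Nat.Prime 2) := ⟨Nat.prime_two⟩
    obtain ⟨y, hy⟩ := exists_prime_orderOf_dvd_card' (G := f.ker) 7 hd
    obtain ⟨q, hq⟩ := exists_prime_orderOf_dvd_card' (G := Q) 2 (by rw [hQ]; norm_num)
    have hq1 : q ≠ 1 := fun e => by rw [e, orderOf_one] at hq; omega
    have hfix : f (y : K) ⟨q, hq1⟩ = ⟨q, hq1⟩ := by rw [y.2]; rfl
    have e : (y : K) * (q : K) * (y : K)⁻¹ = q := congrArg (fun w : {q : Q // q ≠ 1} => ((w : Q) : K)) hfix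
    have hd' := orderOf_dvd_natCard _ (mem_centralizer_singleton_iff.mpr (mul_inv_eq_iff_eq_mul.mp e).symm :
      (q : K) ∈ centralizer ({(y : K)} : Set K))
    rw [h.cent _ ((Subgroup.orderOf_coe y).trans hy), Subgroup.orderOf_coe, hq] at hd'
    norm_num at hd'
  obtain ⟨a, ha, -⟩ := h.normal_small f.ker h7
  have hK : 27 ∣ Nat.card f.ker * Nat.card f.range := by
    rw [← index_ker, card_mul_index, h.card]
    exact h27.mul_left 7
  rw [ha] at hK
  have := (Nat.Coprime.pow_right a (by norm_num : Nat.Coprime 27 2)).dvd_of_dvd_mul_left hK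
  have := this.trans hdvd
  norm_num at this

/-- The main conclusion: the centraliser and its two-core. -/
theorem cent_involution (hc : Ctx G) {y s : G} (hy : orderOf y = 7) (hs : orderOf s = 2) (hsy : Commute s y) :
    Nat.card ↥(centralizer ({s} : Set G)) = 21504 ∧
      ∃ (Q : Subgroup ↥(centralizer ({s} : Set G))) (_ : Q.Normal), Nat.card Q = 128 ∧
        ⟨s, mem_centralizer_singleton_iff.mpr rfl⟩ ∈ Q ∧
        IsSimpleGroup (↥(centralizer ({s} : Set G)) ⧸ Q) ∧
        Nat.card (↥(centralizer ({s} : Set G)) ⧸ Q) = 168 := by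
  classical
  set C := centralizer ({s} : Set G) with hC
  let z : C := ⟨s, mem_centralizer_singleton_iff.mpr rfl⟩
  have hz : orderOf z = 2 := (Subgroup.orderOf_coe z).symm.trans hs
  have hcen : ∀ c : C, Commute z c := fun c => Subtype.ext (mem_centralizer_singleton_iff.mp c.2).symm
  haveI : (zpowers z).Normal := ⟨fun a ha g => by
    obtain ⟨i, rfl⟩ := mem_zpowers_iff.mp ha
    rw [((hcen g).symm.zpow_right i).eq, mul_inv_cancel_right]
    exact zpow_mem_zpowers _ _⟩
  have h14 : ∀ w : C, orderOf w = 7 → Nat.card (centralizer ({w} : Set C)) = 14 := fun w hw => by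
    rw [Nat.card_congr (centInf C w), inf_comm]
    exact (seven_in_cent hc ((Subgroup.orderOf_coe w).trans hw) hs (mem_centralizer_singleton_iff.mp w.2).symm).1
  have h42 : ∀ w : C, orderOf w = 7 → Nat.card (normalizer (zpowers w : Set C)) = 42 := fun w hw => by
    rw [Nat.card_congr (normInf C w), inf_comm]
    exact (seven_in_cent hc ((Subgroup.orderOf_coe w).trans hw) hs (mem_centralizer_singleton_iff.mp w.2).symm).2
  have hsmall : ∀ (K : Type _) [Group K] [Finite K] [IsSimpleGroup K] (k : ℕ), k = 21 ∨ k = 756 →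
      Nat.card K = k → False := by
    intro K _ _ _ k hk hK
    have hnc : ¬ IsMulCommutative K := fun hcomm => by
      letI : CommGroup K := { (inferInstance : Group K) with mul_comm := fun a b => hcomm.is_comm.comm a b }
      have := IsSimpleGroup.prime_card (α := K)
      rw [hK] at this
      rcases hk with rfl | rfl <;> norm_num at this
    have := Cfsg.Agent.S0496.result (G := K) hnc (by omega)
    omega
  have hblock : ∀ (K : Type _) [Group K] [Finite K] [IsSimpleGroup K] (k : ℕ), k ∈ ([864, 6912, 192, 1536] : List ℕ) →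
      Seven K k → (27 ∣ Nat.card K → ∃ (t : K) (P : Subgroup K), orderOf t = 2 ∧ Nat.card P = 27 ∧
        ∀ x ∈ P, Commute t x) → False := by
    intro K _ _ _ k hk h hh
    haveI := Fintype.ofFinite K
    exact no_simple_seven hk h.card h.cent h.norm hh
  have key : ∀ m : ℕ, Nat.card C = 14 * m → (∃ a b : ℕ, m = 2 ^ a * 3 ^ b ∧ b ≤ 3) → Seven (C ⧸ zpowers z) m :=
    fun m hm hsm => seven_quotient z hz hcen hm hsm h14 h42
  -- the case of a Sylow three-subgroup of order twenty-seven
  have h27 : 27 ∣ Nat.card C → ∀ (Q : Subgroup (C ⧸ zpowers z)) [Q.Normal], Nat.card Q = 1 →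
      ∃ (t : (C ⧸ zpowers z) ⧸ Q) (P : Subgroup ((C ⧸ zpowers z) ⧸ Q)), orderOf t = 2 ∧ Nat.card P = 27 ∧
        ∀ x ∈ P, Commute t x := by
    intro h27 Q _ hQ1
    haveI : Fact (Nat.Prime 3) := ⟨Nat.prime_three⟩
    obtain ⟨P, hP⟩ := Sylow.exists_subgroup_card_pow_prime (G := C) 3 (n := 3) (by norm_num; exact h27)
    have hP27 : Nat.card (P.map C.subtype) = 27 := by
      rw [card_map_of_injective C.subtype_injective, hP]; norm_num
    obtain ⟨t, ht, hts, htc, htP⟩ := exists_second hc hs hP27 (fun x hx => by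
      obtain ⟨w, -, rfl⟩ := hx
      exact (mem_centralizer_singleton_iff.mp w.2).symm)
    let g : C →* (C ⧸ zpowers z) ⧸ Q := (QuotientGroup.mk' Q).comp (QuotientGroup.mk' (zpowers z))
    have hg : ∀ c : C, g c = 1 → c ∈ zpowers z := fun c hcg => by
      have h1 := (QuotientGroup.eq_one_iff _).mp (show QuotientGroup.mk' Q (QuotientGroup.mk' (zpowers z) c) = 1 from hcg)
      rw [card_eq_one.mp hQ1, mem_bot] at h1
      exact (QuotientGroup.eq_one_iff _).mp h1
    have htC : t ∈ C := mem_centralizer_singleton_iff.mpr htc.eq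
    refine ⟨g ⟨t, htC⟩, P.map g, orderOf_eq_prime (by rw [← map_pow, show (⟨t, htC⟩ : C) ^ 2 = 1 from
      Subtype.ext (by rw [SubmonoidClass.coe_pow, ← ht, pow_orderOf_eq_one]; rfl), map_one]) fun e => ?_, ?_, ?_⟩
    · obtain ⟨i, hi⟩ := mem_zpowers_iff.mp (hg _ e)
      have hti : s ^ i = t := by
        have := congrArg Subtype.val hi
        simpa [SubgroupClass.coe_zpow] using this
      rcases Int.emod_two_eq_zero_or_one i with e2 | e2
      · rw [← zpow_mod_orderOf, hs, show ((2 : ℕ) : ℤ) = 2 from rfl, e2, zpow_zero] at hti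
        rw [← hti, orderOf_one] at ht
        omega
      · rw [← zpow_mod_orderOf, hs, show ((2 : ℕ) : ℤ) = 2 from rfl, e2, zpow_one] at hti
        exact hts hti.symm
    · rw [show (27 : ℕ) = Nat.card P by rw [hP]; norm_num]
      refine (Nat.card_eq_of_bijective (fun w : P => (⟨g w, mem_map_of_mem g w.2⟩ : P.map g)) ⟨fun a b e => ?_, ?_⟩).symm
      · have h1 := hg ((a : C) * (b : C)⁻¹) (by rw [map_mul, map_inv, mul_inv_eq_one]; exact congrArg Subtype.val e)
        have h2 := orderOf_dvd_natCard _ h1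
        have h3 := orderOf_dvd_natCard P (mul_mem a.2 (inv_mem b.2))
        rw [Nat.card_zpowers, hz] at h2
        rw [hP] at h3
        exact Subtype.ext (mul_inv_eq_one.mp (orderOf_eq_one_iff.mp (Nat.eq_one_of_dvd_coprimes (by norm_num) h2 h3)))
      · rintro ⟨_, w, hw, rfl⟩; exact ⟨⟨w, hw⟩, rfl⟩
    · rintro _ ⟨w, hw, rfl⟩
      exact (show Commute (⟨t, htC⟩ : C) w from Subtype.ext (htP _ (mem_map_of_mem C.subtype hw)).eq).map g
  rcases cent_options hc hy hs hsy with h | h | h
  · exfalso
    have hS := key 864 (by rw [h]) ⟨5, 3, by norm_num, le_rfl⟩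
    rcases hS.layer with ⟨Q, hQn, a, m', hQ, ha7, hm', hq, hsimp⟩ | ⟨T, a, -, -, hT⟩
    · haveI := hQn
      haveI := hsimp
      have ha : a < 6 := by
        by_contra hge
        have h64 : 2 ^ 6 ∣ 2 ^ a * m' := (pow_dvd_pow 2 (by omega)).mul_right _
        rw [hm'] at h64; norm_num at h64
      interval_cases a <;> norm_num at ha7 <;> norm_num at hm' hQ
      · obtain rfl : m' = 864 := by omega
        exact hblock _ 864 (by simp) hq (fun hd => h27 (by rw [h]; norm_num) Q (by simp [hQ]))
      · exact hsmall _ 756 (Or.inr rfl) (by rw [hq.card]; omega)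
    · have hd : 9 ∣ 3 * 2 ^ a := by rw [← hT]; norm_num
      have hd3 := Nat.dvd_of_mul_dvd_mul_left (by norm_num : 0 < 3) (show 3 * 3 ∣ 3 * 2 ^ a from hd)
      exact absurd (Nat.prime_three.dvd_of_dvd_pow hd3) (by norm_num)
  · exfalso
    have hS := key 6912 (by rw [h]) ⟨8, 3, by norm_num, le_rfl⟩
    rcases hS.layer with ⟨Q, hQn, a, m', hQ, ha7, hm', hq, hsimp⟩ | ⟨T, a, -, -, hT⟩
    · haveI := hQn
      haveI := hsimp
      have ha : a < 9 := by
        by_contra hge
        have h512 : 2 ^ 9 ∣ 2 ^ a * m' := (pow_dvd_pow 2 (by omega)).mul_right _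
        rw [hm'] at h512; norm_num at h512
      interval_cases a <;> norm_num at ha7 <;> norm_num at hm' hQ
      · obtain rfl : m' = 6912 := by omega
        exact hblock _ 6912 (by simp) hq (fun hd => h27 (by rw [h]; norm_num) Q (by simp [hQ]))
      · exact no_eight hS (by norm_num) Q hQ
      · exact hsmall _ 756 (Or.inr rfl) (by rw [hq.card]; omega)
    · have hd : 9 ∣ 3 * 2 ^ a := by rw [← hT]; norm_num
      have hd3 := Nat.dvd_of_mul_dvd_mul_left (by norm_num : 0 < 3) (show 3 * 3 ∣ 3 * 2 ^ a from hd)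
      exact absurd (Nat.prime_three.dvd_of_dvd_pow hd3) (by norm_num)
  · refine ⟨h, ?_⟩
    have hS := key 1536 (by rw [h]) ⟨9, 1, by norm_num, by norm_num⟩
    rcases hS.layer with ⟨Q, hQn, a, m', hQ, ha7, hm', hq, hsimp⟩ | ⟨T, a, hTn, hTc, hT⟩
    · haveI := hQn
      haveI := hsimp
      have ha : a < 10 := by
        by_contra hge
        have h1024 : 2 ^ 10 ∣ 2 ^ a * m' := (pow_dvd_pow 2 (by omega)).mul_right _
        rw [hm'] at h1024; norm_num at h1024
      have hno : ∀ k : ℕ, k ∈ ([1536, 192] : List ℕ) → m' = k → False := fun k hk e => by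
        subst e
        refine hblock _ m' (by simp only [List.mem_cons, List.not_mem_nil, or_false] at hk ⊢; omega) hq fun hd => ?_
        exfalso
        rw [hq.card] at hd
        simp only [List.mem_cons, List.not_mem_nil, or_false] at hk
        rcases hk with rfl | rfl <;> norm_num at hd
      have ha6 : a = 6 := by
        interval_cases a <;> norm_num at ha7 <;> norm_num at hm'
        · exact (hno 1536 (by simp) (by omega)).elim
        · exact (hno 192 (by simp) (by omega)).elim
        · rfl
        · exact (hsmall _ 21 (Or.inl rfl) (by rw [hq.card]; omega)).elim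
      subst ha6
      let f := QuotientGroup.mk' (zpowers z)
      refine ⟨Q.comap f, inferInstance, ?_, ?_, ?_, ?_⟩
      · rw [show Nat.card (Q.comap f) = Nat.card (zpowers z) * Nat.card Q from QuotientGroup.card_preimage_mk _ _,
          Nat.card_zpowers, hz, hQ]
        norm_num
      · rw [mem_comap, show f z = 1 from (QuotientGroup.eq_one_iff _).mpr (mem_zpowers z)]; exact one_mem Q
      · let φ : C →* (C ⧸ zpowers z) ⧸ Q := (QuotientGroup.mk' Q).comp f
        have hφ : φ.ker = Q.comap f := by
          rw [← MonoidHom.comap_ker, QuotientGroup.ker_mk']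
        exact ((QuotientGroup.quotientMulEquivOfEq hφ.symm).trans
          (QuotientGroup.quotientKerEquivOfSurjective φ
            ((QuotientGroup.mk'_surjective Q).comp (QuotientGroup.mk'_surjective _)))).isSimpleGroup
      · have h1 := card_eq_card_quotient_mul_card_subgroup (Q.comap f)
        rw [show Nat.card (Q.comap f) = Nat.card (zpowers z) * Nat.card Q from QuotientGroup.card_preimage_mk _ _,
          Nat.card_zpowers, hz, hQ] at h1
        norm_num at h1
        show Nat.card (C ⧸ Q.comap f) = 168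
        have h' : Nat.card C = 21504 := h
        omega
    · exfalso
      have ha9 : a = 9 := by
        have : 2 ^ a = 2 ^ 9 := by omega
        exact Nat.pow_right_injective le_rfl this
      subst ha9
      haveI := hTn
      haveI : Fact (Nat.Prime 2) := ⟨Nat.prime_two⟩
      let S := (T.comap (QuotientGroup.mk' (zpowers z))).map C.subtype
      have hSc : Nat.card S = 1024 := by
        rw [card_map_of_injective C.subtype_injective,
          show Nat.card (T.comap (QuotientGroup.mk' (zpowers z))) = Nat.card (zpowers z) * Nat.card T from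
            QuotientGroup.card_preimage_mk _ _, Nat.card_zpowers, hz, hTc]
        norm_num
      have hCS : C ≤ normalizer (S : Set G) := by
        have hle := le_normalizer_map C.subtype (H := T.comap (QuotientGroup.mk' (zpowers z)))
        rw [normalizer_eq_top, ← MonoidHom.range_eq_map, range_subtype] at hle
        exact hle
      obtain ⟨P, hP⟩ := (IsPGroup.of_card (p := 2) (n := 10) (show Nat.card S = 2 ^ 10 by rw [hSc]; norm_num)).exists_le_sylow
      have hPc : Nat.card (P : Subgroup G) = 1024 := by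
        rw [P.card_eq_multiplicity, hc.card, show (244823040 : ℕ) = 2 ^ 10 * 239085 by norm_num,
          Nat.factorization_mul (by norm_num) (by norm_num), Finsupp.add_apply,
          Nat.Prime.factorization_pow Nat.prime_two, Finsupp.single_eq_same,
          Nat.factorization_eq_zero_of_not_dvd (show ¬ 2 ∣ 239085 by norm_num)]
        norm_num
      have hPS : S = (P : Subgroup G) := eq_of_le_of_card_ge hP (by rw [hPc, hSc])
      have hidx : Nat.card (Sylow 2 G) ≤ 11385 := by
        have hmul := (normalizer ((P : Subgroup G) : Set G)).card_mul_index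
        have e : Nat.card (Sylow 2 G) = (normalizer ((P : Subgroup G) : Set G)).index := P.card_eq_index_normalizer
        rw [← e, hc.card] at hmul
        have := Nat.le_of_dvd Nat.card_pos (card_dvd_of_le (hPS ▸ hCS))
        replace this : 21504 ≤ Nat.card (normalizer ((P : Subgroup G) : Set G)) := h ▸ this
        have := Nat.mul_le_mul_right (Nat.card (Sylow 2 G)) this
        omega
      have hle : Nat.card {g : G // g ^ 1024 = 1} ≤ 11385 * 1023 + 1 := by
        haveI := Fintype.ofFinite G
        haveI : Fintype (Sylow 2 G) := Fintype.ofFinite _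
        rw [Nat.card_eq_fintype_card, Fintype.card_subtype]
        refine le_trans (Finset.card_le_card (t := insert 1 (Finset.univ.biUnion fun R : Sylow 2 G =>
          Finset.univ.filter fun g => g ∈ (R : Subgroup G) ∧ g ≠ 1)) fun g hg => ?_) ?_
        · simp only [Finset.mem_filter, Finset.mem_univ, true_and] at hg
          rw [Finset.mem_insert]
          by_cases h1 : g = 1
          · exact Or.inl h1
          obtain ⟨R, hR⟩ := (IsPGroup.of_card (p := 2) (G := zpowers g)
            (by rw [Nat.card_zpowers]; exact ((Nat.dvd_prime_pow Nat.prime_two).mp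
              (orderOf_dvd_of_pow_eq_one (show g ^ 2 ^ 10 = 1 by norm_num; exact hg))).choose_spec.2)).exists_le_sylow
          refine Or.inr ?_
          simp only [Finset.mem_biUnion, Finset.mem_filter, Finset.mem_univ, true_and]
          exact ⟨R, hR (mem_zpowers g), h1⟩
        · refine le_trans (Finset.card_insert_le _ _) (Nat.add_le_add_right ?_ 1)
          refine le_trans (Finset.card_biUnion_le_card_mul _ _ 1023 fun R _ => ?_) (by
            rw [Finset.card_univ, ← Nat.card_eq_fintype_card]; exact Nat.mul_le_mul_right _ hidx)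
          have hRc : Nat.card (R : Subgroup G) = 1024 := by
            rw [R.card_eq_multiplicity, ← P.card_eq_multiplicity, hPc]
          rw [show (Finset.univ.filter fun g : G => g ∈ (R : Subgroup G) ∧ g ≠ 1) =
            (Finset.univ.filter fun g : G => g ∈ (R : Subgroup G)).erase 1 by ext g; simp [and_comm],
            Finset.card_erase_of_mem (by simp), ← Fintype.card_subtype, ← Nat.card_eq_fintype_card]
          omega
      rw [two_elements hc] at hle
      omega

end CfsgM24Det
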