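/-
The centraliser of the involution: fixed points of an element of order three, and a second conjugate.
-/
import Cfsg.Agent.Lib.M24Det.StepTwo
import Cfsg.Agent.Lib.SmallSimple.Order168Model
import Cfsg.Agent.Lib.ZStar.Main

set_option autoImplicit false
set_option linter.style.haveILetI false
set_option linter.unusedSectionVars false
set_option maxRecDepth 20000

namespace CfsgM24Det

open Subgroup CfsgLib.SameOrderCounts
open CfsgLib.Order168Model (T)
open scoped Pointwise

/-- The centraliser as a group. -/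
abbrev Cz {G : Type*} [Group G] (s : G) : Type _ := ↥(centralizer ({s} : Set G))

/-- The involution in its centraliser. -/
def zC {G : Type*} [Group G] (s : G) : Cz s := ⟨s, mem_centralizer_singleton_iff.mpr rfl⟩

theorem zC_comm {G : Type*} [Group G] {s : G} (c : Cz s) : Commute (zC s) c :=
  Subtype.ext (mem_centralizer_singleton_iff.mp c.2).symm

instance zC_normal {G : Type*} [Group G] (s : G) : (zpowers (zC s)).Normal := ⟨fun a ha g => by
  obtain ⟨i, rfl⟩ := mem_zpowers_iff.mp ha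
  rw [((zC_comm g).symm.zpow_right i).eq, mul_inv_cancel_right]
  exact zpow_mem_zpowers _ _⟩

/-- The structure of the centraliser obtained so far. -/
structure Pk {G : Type*} [Group G] (s : G) where
  /-- the factor group -/
  F : Cz s →* T
  surj : Function.Surjective F
  cardQ : Nat.card F.ker = 128
  z_mem : zC s ∈ F.ker
  cardC : Nat.card (Cz s) = 21504
  cent7 : ∀ w : Cz s, orderOf w = 7 → Nat.card (centralizer ({w} : Set (Cz s))) = 14
  norm7 : ∀ w : Cz s, orderOf w = 7 → Nat.card (normalizer (zpowers w : Set (Cz s))) = 42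
  ord : orderOf s = 2

variable {G : Type*} [Group G] [Finite G]

theorem nonempty_pk (hc : Ctx G) {y s : G} (hy : orderOf y = 7) (hs : orderOf s = 2) (hsy : Commute s y) :
    Nonempty (Pk s) := by
  obtain ⟨h, Q, hQn, hQ, hzQ, hsimp, hcard⟩ := cent_involution hc hy hs hsy
  haveI := hsimp
  obtain ⟨e⟩ := CfsgLib.Order168Model.exists_equiv hcard
  have hker : (e.toMonoidHom.comp (QuotientGroup.mk' Q)).ker = Q := by
    ext c
    rw [MonoidHom.mem_ker]
    show e (QuotientGroup.mk' Q c) = 1 ↔ c ∈ Q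
    rw [map_eq_one_iff e e.injective]
    exact QuotientGroup.eq_one_iff c
  refine ⟨⟨e.toMonoidHom.comp (QuotientGroup.mk' Q), e.surjective.comp (QuotientGroup.mk'_surjective Q),
    by rw [hker]; exact hQ, by rw [hker]; exact hzQ, h, fun w hw => ?_, fun w hw => ?_, hs⟩⟩
  · rw [Nat.card_congr (centInf _ w), inf_comm]
    exact (seven_in_cent hc ((Subgroup.orderOf_coe w).trans hw) hs (mem_centralizer_singleton_iff.mp w.2).symm).1
  · rw [Nat.card_congr (normInf _ w), inf_comm]
    exact (seven_in_cent hc ((Subgroup.orderOf_coe w).trans hw) hs (mem_centralizer_singleton_iff.mp w.2).symm).2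

theorem three_cent_T : ∀ g h : T, g * g * g = 1 → g ≠ 1 → g * h = h * g → h = 1 ∨ h = g ∨ h = g * g := by
  decide +kernel

theorem three_real_T : ∀ g : T, g * g * g = 1 → g ≠ 1 → ∃ a : T, a * g * a⁻¹ = g * g := by decide +kernel

/-- Fixed points modulo a prime. -/
theorem fix_mod {K : Type*} [Group K] [Finite K] (N : Subgroup K) [N.Normal] {p : ℕ} [hp : Fact p.Prime] {x : K}
    (hx : orderOf x = p) : Nat.card N ≡ Nat.card ↥(N ⊓ centralizer ({x} : Set K)) [MOD p] := by
  letI : MulAction (zpowers x) N :=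
    { smul := fun v a => ⟨(v : K) * a * (v : K)⁻¹, (inferInstance : N.Normal).conj_mem a a.2 v⟩
      one_smul := fun a => Subtype.ext (by show ((1 : zpowers x) : K) * a * ((1 : zpowers x) : K)⁻¹ = a; simp)
      mul_smul := fun v w a => Subtype.ext (by
        show ((v * w : zpowers x) : K) * a * ((v * w : zpowers x) : K)⁻¹ = v * (w * a * (w : K)⁻¹) * (v : K)⁻¹
        simp [mul_assoc]) }
  have h := (IsPGroup.of_card (p := p) (n := 1)
    (show Nat.card (zpowers x) = p ^ 1 by rw [Nat.card_zpowers, hx, pow_one])).card_modEq_card_fixedPoints N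
  rwa [Nat.card_congr (show MulAction.fixedPoints (zpowers x) N ≃ ↥(N ⊓ centralizer ({x} : Set K)) from
    { toFun := fun a => ⟨(a.1 : K), a.1.2, mem_centralizer_singleton_iff.mpr
        (mul_inv_eq_iff_eq_mul.mp (congrArg Subtype.val (a.2 ⟨x, mem_zpowers x⟩))).symm⟩
      invFun := fun a => ⟨⟨a, a.2.1⟩, fun v => Subtype.ext (by
        obtain ⟨i, hi⟩ := mem_zpowers_iff.mp v.2
        show (v : K) * (a : K) * (v : K)⁻¹ = (a : K)
        rw [← hi, (Commute.zpow_right (show Commute (a : K) x from mem_centralizer_singleton_iff.mp a.2.2) i).symm.eq,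
          mul_inv_cancel_right])⟩
      left_inv := fun a => rfl
      right_inv := fun a => rfl })] at h

/-- An element of order three has a fixed point when one of order seven acts freely. -/
theorem exists_fix {V : Type*} [CommGroup V] (X Y : MulAut V) (hY : Y ^ 7 = 1) (hX : X ^ 3 = 1)
    (rel : X * Y = Y ^ 2 * X) (hfpf : ∀ v, Y v = v → v = 1) (hsq : ∀ v : V, v * v = 1) {v : V} (hv : v ≠ 1) :
    ∃ u : V, u ≠ 1 ∧ X u = u := by
  by_contra hcon
  push Not at hcon
  have hX1 : ∀ u, X u = u → u = 1 := fun u hu => by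
    by_contra h
    exact hcon u h hu
  have hrel : ∀ i : ℕ, X * Y ^ i = Y ^ (2 * i) * X := by
    intro i
    induction i with
    | zero => simp
    | succ n ih =>
      rw [pow_succ, ← mul_assoc, ih, mul_assoc, rel, ← mul_assoc, ← pow_add, Nat.mul_succ]
  have hsum : ∀ u, u * X u * X (X u) = 1 := fun u => hX1 _ (by
    have e : X (X (X u)) = u := by
      rw [← MulAut.mul_apply, ← MulAut.mul_apply, show X * X * X = X ^ 3 by rw [pow_succ, pow_two], hX]; rfl
    rw [map_mul, map_mul, e, mul_comm (X u * X (X u)), mul_assoc])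
  have hi : ∀ i : ℕ, v * (Y ^ i) (X v) * (Y ^ (3 * i)) (X (X v)) = 1 := by
    intro i
    have hXY : ∀ (j : ℕ) (u : V), X ((Y ^ j) u) = (Y ^ (2 * j)) (X u) := fun j u =>
      congrArg (fun f : MulAut V => f u) (hrel j)
    have hYY : ∀ (a b : ℕ) (u : V), (Y ^ a) ((Y ^ b) u) = (Y ^ (a + b)) u := fun a b u => by
      rw [pow_add]; rfl
    have h := congrArg (Y ^ (6 * i)) (hsum ((Y ^ i) v))
    rw [map_one, map_mul, map_mul, hXY, hXY, hYY, hYY, hYY] at h
    rw [show 6 * i + i = 7 * i by ring, pow_mul, hY, one_pow, MulAut.one_apply,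
      show 6 * i + 2 * i = 7 * i + i by ring, show 6 * i + 2 * (2 * i) = 7 * i + 3 * i by ring, pow_add, pow_add,
      pow_mul Y 7, hY, one_pow, one_mul, one_mul] at h
    exact h
  have hP : ∀ (k : ℕ) (w : V), (Y ^ k) (∏ i ∈ Finset.range 7, (Y ^ (k * i)) w) =
      ∏ i ∈ Finset.range 7, (Y ^ (k * i)) w := by
    intro k w
    rw [map_prod]
    have e : ∀ i, (Y ^ k) ((Y ^ (k * i)) w) = (Y ^ (k * (i + 1))) w := fun i => by
      rw [← MulAut.mul_apply, ← pow_add]; congr 2; ring
    simp only [e]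
    have h1 := Finset.prod_range_succ (fun i => (Y ^ (k * i)) w) 7
    have e7 : (Y ^ (k * 7)) w = w := by rw [Nat.mul_comm, pow_mul, hY, one_pow, MulAut.one_apply]
    have e0 : (Y ^ (k * 0)) w = w := by rw [Nat.mul_zero, pow_zero, MulAut.one_apply]
    rw [Finset.prod_range_succ' (fun i => (Y ^ (k * i)) w) 7, e7, e0] at h1
    exact mul_right_cancel h1
  have h1 : ∏ i ∈ Finset.range 7, (Y ^ i) (X v) = 1 := hfpf _ (by
    have := hP 1 (X v); simpa using this)
  have h3 : ∏ i ∈ Finset.range 7, (Y ^ (3 * i)) (X (X v)) = 1 := hfpf _ (by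
    have h := hP 3 (X (X v))
    set P := ∏ i ∈ Finset.range 7, (Y ^ (3 * i)) (X (X v))
    have hn : ∀ n : ℕ, (Y ^ (3 * n)) P = P := by
      intro n
      induction n with
      | zero => simp
      | succ n ih => rw [Nat.mul_succ, pow_add, MulAut.mul_apply, h, ih]
    have h15 := hn 5
    rwa [show 3 * 5 = 7 * 2 + 1 from rfl, pow_add, pow_mul, hY, one_pow, one_mul, pow_one] at h15)
  have h := Finset.prod_eq_one (s := Finset.range 7) fun i _ => hi i
  rw [Finset.prod_mul_distrib, Finset.prod_mul_distrib, h1, h3, mul_one, mul_one, Finset.prod_const,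
    Finset.card_range] at h
  have hv2 : v ^ 2 = 1 := by rw [pow_two]; exact hsq v
  rw [show 7 = 2 * 3 + 1 from rfl, pow_add, pow_mul, hv2, one_pow, one_mul, pow_one] at h
  exact hv h

namespace Pk

variable {s : G} (P : Pk s)
include P

theorem ord_z : orderOf (zC s) = 2 := (Subgroup.orderOf_coe _).symm.trans P.ord

theorem ker_order (q : Cz s) (hq : q ∈ P.F.ker) : orderOf q ∣ 2 ^ 7 := by
  have := orderOf_dvd_natCard _ hq
  rwa [P.cardQ] at this

theorem mem_zpow (c : Cz s) (hc : c ∈ zpowers (zC s)) : c = 1 ∨ c = zC s := by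
  rw [← (isOfFinOrder_of_finite (zC s)).mem_powers_iff_mem_zpowers, Submonoid.mem_powers_iff] at hc
  obtain ⟨k, hk⟩ := hc
  rw [← pow_mod_orderOf, P.ord_z] at hk
  rcases Nat.mod_two_eq_zero_or_one k with e | e <;> rw [e] at hk
  · exact Or.inl (by rw [← hk, pow_zero])
  · exact Or.inr (by rw [← hk, pow_one])

/-- An element of odd prime order fixing a coset of the central involution fixes its elements. -/
theorem comm_of_mod {w q : Cz s} {p : ℕ} (hw : orderOf w = p) (hp : Nat.Coprime 2 p)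
    (h : w * q * w⁻¹ = q * zC s) : False := by
  have e : q * w * q⁻¹ = zC s * w := by
    have h2 : w * q = q * zC s * w := mul_inv_eq_iff_eq_mul.mp h
    have h3 : w * q = zC s * (q * w) := by rw [h2, ← (zC_comm q).eq, mul_assoc]
    calc q * w * q⁻¹ = zC s * (zC s * (q * w)) * q⁻¹ := by
          rw [← mul_assoc (zC s), show zC s * zC s = 1 by rw [← pow_two, ← P.ord_z, pow_orderOf_eq_one], one_mul]
      _ = zC s * (w * q) * q⁻¹ := by rw [← h3]
      _ = zC s * w := by group
  have ho : orderOf (q * w * q⁻¹) = p := ((MulAut.conj q).orderOf_eq w).trans hw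
  rw [e, (zC_comm w).orderOf_mul_eq_mul_orderOf_of_coprime (by rw [P.ord_z, hw]; exact hp), P.ord_z, hw] at ho
  have : p = 0 := by omega
  subst this
  norm_num at hp

/-- An element of order seven fixes only the central involution in the kernel. -/
theorem fixed_seven {w q : Cz s} (hw : orderOf w = 7) (hq : q ∈ P.F.ker) (h : Commute q w) :
    q = 1 ∨ q = zC s := by
  set H := P.F.ker ⊓ centralizer ({w} : Set (Cz s)) with hH
  have h1 : Nat.card H ∣ 2 := by
    have a := card_dvd_of_le (inf_le_left : H ≤ P.F.ker)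
    have b := card_dvd_of_le (inf_le_right : H ≤ centralizer ({w} : Set (Cz s)))
    rw [P.cardQ] at a
    rw [P.cent7 w hw] at b
    have := Nat.dvd_gcd a b
    norm_num at this
    exact this
  have hzH : zC s ∈ H := ⟨P.z_mem, mem_centralizer_singleton_iff.mpr (zC_comm w).eq⟩
  have heq : zpowers (zC s) = H := eq_of_le_of_card_ge (zpowers_le.mpr hzH) (by
    rw [Nat.card_zpowers, P.ord_z]; exact Nat.le_of_dvd (by norm_num) h1)
  exact P.mem_zpow q (heq ▸ (⟨hq, mem_centralizer_singleton_iff.mpr h.eq⟩ : q ∈ H))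

/-- Two elements generating a group of order twenty-one. -/
theorem exists_trio {w : Cz s} (hw : orderOf w = 7) :
    ∃ x : Cz s, orderOf x = 3 ∧ x * w * x⁻¹ = w ^ 2 := by
  haveI : Fact (Nat.Prime 3) := ⟨Nat.prime_three⟩
  obtain ⟨x, hx⟩ := exists_prime_orderOf_dvd_card' (G := normalizer (zpowers w : Set (Cz s))) 3
    (by rw [P.norm7 w hw]; norm_num)
  rw [← Subgroup.orderOf_coe] at hx
  have hmem := (mem_normalizer_iff.mp x.2 w).mp (mem_zpowers w)
  rw [← (isOfFinOrder_of_finite w).mem_powers_iff_mem_zpowers, Submonoid.mem_powers_iff] at hmem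
  obtain ⟨n, hn⟩ := hmem
  rw [← pow_mod_orderOf, hw] at hn
  set k := n % 7 with hk
  have hk7 : k < 7 := Nat.mod_lt _ (by norm_num)
  have h2 : (x : Cz s) ^ 2 * w * ((x : Cz s) ^ 2)⁻¹ = w ^ (k * k) := by
    rw [show (x : Cz s) ^ 2 * w * ((x : Cz s) ^ 2)⁻¹ = (x : Cz s) * ((x : Cz s) * w * (x : Cz s)⁻¹) * (x : Cz s)⁻¹ by
      rw [pow_two]; group, ← hn, ← conj_pow, ← hn, ← pow_mul]
  have h3 : w ^ (k * k * k) = w := by
    have hx3 : (x : Cz s) ^ 3 = 1 := by rw [← hx, pow_orderOf_eq_one]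
    have h : (x : Cz s) ^ 3 * w * ((x : Cz s) ^ 3)⁻¹ = w ^ (k * k * k) := by
      rw [show (x : Cz s) ^ 3 * w * ((x : Cz s) ^ 3)⁻¹ =
        (x : Cz s) * ((x : Cz s) ^ 2 * w * ((x : Cz s) ^ 2)⁻¹) * (x : Cz s)⁻¹ by rw [pow_succ' _ 2]; group,
        h2, ← conj_pow, ← hn, ← pow_mul, mul_assoc]
    rw [hx3] at h
    simpa using h.symm
  have hmod : k * k * k % 7 = 1 := by
    have := (pow_eq_pow_iff_modEq (x := w) (n := k * k * k) (m := 1)).mp (by rw [h3, pow_one])
    rw [hw] at this
    exact this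
  have hk1 : k ≠ 1 := by
    intro e
    rw [e, pow_one] at hn
    have hd := orderOf_dvd_natCard _ (mem_centralizer_singleton_iff.mpr (mul_inv_eq_iff_eq_mul.mp hn.symm) :
      (x : Cz s) ∈ centralizer ({w} : Set (Cz s)))
    rw [hx, P.cent7 w hw] at hd
    norm_num at hd
  rcases (show k = 2 ∨ k = 4 by clear_value k; interval_cases k <;> omega) with e | e
  · exact ⟨x, hx, by rw [← hn, e]⟩
  · refine ⟨(x : Cz s) ^ 2, by rw [orderOf_pow, hx]; norm_num, ?_⟩
    rw [h2, e, ← pow_mod_orderOf, hw]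

/-- Eight elements of the kernel commute with an element of order three normalising one of order seven. -/
theorem card_fix_three {x w : Cz s} (hx : orderOf x = 3) (hw : orderOf w = 7) (hxw : x * w * x⁻¹ = w ^ 2) :
    Nat.card ↥(P.F.ker ⊓ centralizer ({x} : Set (Cz s))) = 8 := by
  classical
  haveI : Fact (Nat.Prime 2) := ⟨Nat.prime_two⟩
  haveI : Fact (Nat.Prime 3) := ⟨Nat.prime_three⟩
  set f := QuotientGroup.mk' (zpowers (zC s)) with hf
  have hz2 : Nat.card (zpowers (zC s)) = 2 := by rw [Nat.card_zpowers, P.ord_z]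
  have hle : zpowers (zC s) ≤ P.F.ker := zpowers_le.mpr P.z_mem
  set Qb := P.F.ker.map f with hQb
  haveI : Qb.Normal := Normal.map inferInstance f (QuotientGroup.mk'_surjective _)
  have hQc : Nat.card Qb = 64 := by
    have h1 := Subgroup.card_map_dvd (f := f) P.F.ker
    have h2 : Nat.card (Qb.comap f) = Nat.card (zpowers (zC s)) * Nat.card Qb :=
      QuotientGroup.card_preimage_mk (zpowers (zC s)) (Qb : Set (Cz s ⧸ zpowers (zC s)))
    have h3 : Qb.comap f = P.F.ker := by rw [hQb, comap_map_eq, QuotientGroup.ker_mk', sup_eq_left.mpr hle]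
    rw [h3, P.cardQ, hz2] at h2
    omega
  have hfw : orderOf (f w) = 7 := by
    refine orderOf_eq_prime (hp := ⟨by norm_num⟩) (by rw [← map_pow, ← hw, pow_orderOf_eq_one, map_one]) fun e => ?_
    rcases P.mem_zpow w ((QuotientGroup.eq_one_iff w).mp e) with h | h <;> rw [h] at hw
    · rw [orderOf_one] at hw; omega
    · rw [P.ord_z] at hw; omega
  have hlift : ∀ (u q : Cz s) (p : ℕ), orderOf u = p → Nat.Coprime 2 p → f u * f q = f q * f u → Commute u q := by
    intro u q p hu hp h
    have h1 : f (u * q * u⁻¹) = f q := by rw [map_mul, map_mul, map_inv, h, mul_inv_cancel_right]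
    have h2 : q⁻¹ * (u * q * u⁻¹) ∈ zpowers (zC s) :=
      (QuotientGroup.eq_one_iff _).mp (show f (q⁻¹ * (u * q * u⁻¹)) = 1 by rw [map_mul, map_inv, h1, inv_mul_cancel])
    rcases P.mem_zpow _ h2 with e | e
    · exact mul_inv_eq_iff_eq_mul.mp (inv_mul_eq_one.mp e).symm
    · exact (P.comm_of_mod hu hp (inv_mul_eq_iff_eq_mul.mp e)).elim
  have hfix7 : ∀ v ∈ Qb, f w * v = v * f w → v = 1 := by
    rintro _ ⟨q, hq, rfl⟩ h
    rcases P.fixed_seven hw hq (hlift w q 7 hw (by norm_num) h).symm with e | e <;> rw [e]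
    · exact map_one f
    · exact (QuotientGroup.eq_one_iff _).mpr (mem_zpowers _)
  -- fixed points of the element of order three in the quotient
  set Fx := Qb ⊓ centralizer ({f x} : Set (Cz s ⧸ zpowers (zC s)))
  have hfx : orderOf (f x) = 3 := by
    refine orderOf_eq_prime (by rw [← map_pow, ← hx, pow_orderOf_eq_one, map_one]) fun e => ?_
    rcases P.mem_zpow x ((QuotientGroup.eq_one_iff x).mp e) with h | h <;> rw [h] at hx
    · rw [orderOf_one] at hx; omega
    · rw [P.ord_z] at hx; omega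
  have hmod := fix_mod Qb hfx
  rw [hQc] at hmod
  have hrelf : f x * f w * (f x)⁻¹ = f w ^ 2 := by rw [← map_inv, ← map_mul, ← map_mul, hxw, map_pow]
  -- at most ten
  have hten : (Nat.card Fx - 1) * 7 ≤ 63 := by
    have hne : ∀ v : Fx, v ≠ 1 → (v : Cz s ⧸ zpowers (zC s)) ≠ 1 := fun v h e => h (Subtype.ext e)
    let Φ : {v : Fx // v ≠ 1} × Fin 7 → {u : Qb // u ≠ 1} := fun p =>
      ⟨⟨f w ^ (p.2 : ℕ) * (p.1.1 : Cz s ⧸ zpowers (zC s)) * (f w ^ (p.2 : ℕ))⁻¹,
        (inferInstance : Qb.Normal).conj_mem _ p.1.1.2.1 _⟩,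
        fun e => hne _ p.1.2 (conj_eq_one_iff.mp (congrArg Subtype.val e :))⟩
    have hinj : Function.Injective Φ := by
      rintro ⟨⟨v, hv⟩, i⟩ ⟨⟨v', hv'⟩, j⟩ e
      have e' : f w ^ (i : ℕ) * (v : Cz s ⧸ zpowers (zC s)) * (f w ^ (i : ℕ))⁻¹ =
          f w ^ (j : ℕ) * (v' : Cz s ⧸ zpowers (zC s)) * (f w ^ (j : ℕ))⁻¹ :=
        congrArg (fun u : {u : Qb // u ≠ 1} => ((u.1 : Qb) : Cz s ⧸ zpowers (zC s))) e
      have key : ∀ d : ℕ, ∀ a b : Fx, f w ^ d * (a : Cz s ⧸ zpowers (zC s)) * (f w ^ d)⁻¹ = b → a ≠ 1 → 7 ∣ d := by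
        intro d a b hab ha
        have hfd : f x * (f w ^ d) * (f x)⁻¹ = f w ^ (2 * d) := by rw [← conj_pow, hrelf, pow_mul]
        have hca : f x * (a : Cz s ⧸ zpowers (zC s)) * (f x)⁻¹ = a :=
          mul_inv_eq_iff_eq_mul.mpr (mem_centralizer_singleton_iff.mp a.2.2).symm
        have hcb : f x * (b : Cz s ⧸ zpowers (zC s)) * (f x)⁻¹ = b :=
          mul_inv_eq_iff_eq_mul.mpr (mem_centralizer_singleton_iff.mp b.2.2).symm
        rw [← hab] at hcb
        have h4 : f w ^ (2 * d) * (a : Cz s ⧸ zpowers (zC s)) * (f w ^ (2 * d))⁻¹ =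
            f w ^ d * (a : Cz s ⧸ zpowers (zC s)) * (f w ^ d)⁻¹ := by
          rw [← hfd]
          conv_lhs => rw [← hca]
          conv_rhs => rw [← hcb]
          group
        have h5 : f w ^ d * (a : Cz s ⧸ zpowers (zC s)) = (a : Cz s ⧸ zpowers (zC s)) * f w ^ d := by
          rw [two_mul, pow_add] at h4
          have h6 := congrArg (fun u => (f w ^ d)⁻¹ * u * f w ^ d) h4
          simp only [mul_inv_rev, mul_assoc, inv_mul_cancel_left, inv_mul_cancel, mul_one] at h6
          exact mul_inv_eq_iff_eq_mul.mp (by rw [mul_assoc]; exact h6)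
        by_contra h7
        obtain ⟨k, hk⟩ := exists_pow_eq_self_of_coprime (x := f w) (n := d)
          (by rw [hfw]; exact ((Nat.Prime.coprime_iff_not_dvd (by norm_num)).mpr h7).symm)
        refine hne a ha (hfix7 _ a.2.1 ?_)
        conv_lhs => rw [← hk]
        conv_rhs => rw [← hk]
        exact (Commute.pow_left (show Commute (f w ^ d) (a : Cz s ⧸ zpowers (zC s)) from h5) k).eq
      have hij : i = j := by
        rcases le_total (i : ℕ) (j : ℕ) with h | h
        · have := key ((j : ℕ) - i) v' v (by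
            obtain ⟨d, hd⟩ := Nat.le.dest h
            rw [← hd, Nat.add_sub_cancel_left]
            rw [← hd, pow_add] at e'
            have h6 := congrArg (fun u => (f w ^ (i : ℕ))⁻¹ * u * f w ^ (i : ℕ)) e'
            simpa [mul_assoc] using h6.symm) hv'
          apply Fin.ext; omega
        · have := key ((i : ℕ) - j) v v' (by
            obtain ⟨d, hd⟩ := Nat.le.dest h
            rw [← hd, Nat.add_sub_cancel_left]
            rw [← hd, pow_add] at e'
            have h6 := congrArg (fun u => (f w ^ (j : ℕ))⁻¹ * u * f w ^ (j : ℕ)) e'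
            simpa [mul_assoc] using h6) hv
          apply Fin.ext; omega
      subst hij
      have : v = v' := Subtype.ext (mul_left_cancel (mul_right_cancel e'))
      subst this
      rfl
    have := Nat.card_le_card_of_injective Φ hinj
    rw [Nat.card_prod, Nat.card_fin] at this
    have h1 := CfsgM11Det.card_compl_one Fx
    have h2 := CfsgM11Det.card_compl_one Qb
    rw [hQc] at h2
    rw [show Nat.card Fx - 1 = Nat.card {v : Fx // v ≠ 1} by omega]
    omega
  -- one nontrivial fixed point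
  have hone : 1 < Nat.card Fx := by
    let V : Subgroup (Cz s ⧸ zpowers (zC s)) :=
      { carrier := {v | v ∈ Qb ∧ (∀ u ∈ Qb, v * u = u * v) ∧ v * v = 1}
        one_mem' := ⟨one_mem _, fun u _ => by simp, by simp⟩
        mul_mem' := fun {a b} ha hb => ⟨mul_mem ha.1 hb.1, fun u hu =>
          (Commute.mul_left (ha.2.1 u hu) (hb.2.1 u hu)).eq, by
          rw [show a * b * (a * b) = a * (b * a) * b by group, ← ha.2.1 b hb.1, ← mul_assoc, ha.2.2, one_mul, hb.2.2]⟩
        inv_mem' := fun {a} ha => by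
          rw [show a⁻¹ = a from inv_eq_of_mul_eq_one_right ha.2.2]; exact ha }
    haveI : V.Normal := ⟨fun v hv g => ⟨(inferInstance : Qb.Normal).conj_mem v hv.1 g, fun u hu => by
      have h := hv.2.1 (g⁻¹ * u * g) (by
        have := (inferInstance : Qb.Normal).conj_mem u hu g⁻¹; rwa [inv_inv] at this)
      calc g * v * g⁻¹ * u = g * (v * (g⁻¹ * u * g)) * g⁻¹ := by group
        _ = g * (g⁻¹ * u * g * v) * g⁻¹ := by rw [h]
        _ = u * (g * v * g⁻¹) := by group, by
      rw [show g * v * g⁻¹ * (g * v * g⁻¹) = g * (v * v) * g⁻¹ by group, hv.2.2]; group⟩⟩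
    letI : CommGroup V := { (inferInstance : Group V) with
      mul_comm := fun a b => Subtype.ext (a.2.2.1 b b.2.1) }
    obtain ⟨v0, hv0V, hv0⟩ : ∃ v0 ∈ V, v0 ≠ 1 := by
      haveI : Nontrivial Qb := Finite.one_lt_card_iff_nontrivial.mp (by rw [hQc]; norm_num)
      have hp : IsPGroup 2 Qb := IsPGroup.of_card (n := 6) (by rw [hQc]; norm_num)
      haveI := hp.center_nontrivial
      obtain ⟨k, hk⟩ := IsPGroup.iff_card.mp (hp.to_subgroup (center Qb))
      have h2d : 2 ∣ Nat.card (center Qb) := by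
        rw [hk]; refine dvd_pow_self 2 fun e => ?_
        have := Finite.one_lt_card (α := center Qb)
        rw [hk, e] at this; omega
      obtain ⟨c, hcc⟩ := exists_prime_orderOf_dvd_card' (G := center Qb) 2 h2d
      have ho : orderOf ((c : Qb) : Cz s ⧸ zpowers (zC s)) = 2 := by
        rw [Subgroup.orderOf_coe, Subgroup.orderOf_coe, hcc]
      refine ⟨_, ⟨(c : Qb).2, fun u hu => congrArg Subtype.val (mem_center_iff.mp c.2 ⟨u, hu⟩).symm, ?_⟩, ?_⟩
      · rw [← pow_two, ← ho, pow_orderOf_eq_one]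
      · intro e; rw [e, orderOf_one] at ho; omega
    let X : MulAut V := MulAut.conjNormal (f x)
    let Y : MulAut V := MulAut.conjNormal (f w)
    have hXY : X * Y = Y ^ 2 * X := by
      rw [show X * Y = MulAut.conjNormal (f x * f w) from (map_mul _ _ _).symm,
        show Y ^ 2 * X = MulAut.conjNormal (f w ^ 2 * f x) from by rw [map_mul, map_pow],
        mul_inv_eq_iff_eq_mul.mp hrelf]
    obtain ⟨u, hu1, hu⟩ := exists_fix X Y (by rw [← map_pow, ← hfw, pow_orderOf_eq_one, map_one])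
      (by rw [← map_pow, ← hfx, pow_orderOf_eq_one, map_one])
      hXY
      (fun v hv => Subtype.ext (hfix7 v v.2.1 (by
        have := congrArg Subtype.val hv
        rw [MulAut.conjNormal_apply] at this
        exact mul_inv_eq_iff_eq_mul.mp this)))
      (fun v => Subtype.ext v.2.2.2) (v := ⟨v0, hv0V⟩) (fun e => hv0 (congrArg Subtype.val e))
    have hmem : (u : Cz s ⧸ zpowers (zC s)) ∈ Fx := ⟨u.2.1, mem_centralizer_singleton_iff.mpr (by
      have := congrArg Subtype.val hu
      rw [MulAut.conjNormal_apply] at this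
      exact (mul_inv_eq_iff_eq_mul.mp this).symm)⟩
    exact Finite.one_lt_card_iff_nontrivial.mpr ⟨⟨_, hmem⟩, 1, fun e => hu1 (Subtype.ext (congrArg Subtype.val e :))⟩
  have hd : Nat.card Fx ∣ 64 := hQc ▸ card_dvd_of_le inf_le_left
  obtain ⟨a, ha, hFx⟩ := (Nat.dvd_prime_pow Nat.prime_two).mp (show Nat.card Fx ∣ 2 ^ 6 from hd)
  have hF4 : Nat.card Fx = 4 := by
    have h3 : 64 % 3 = Nat.card Fx % 3 := hmod
    rw [hFx] at h3 hten hone ⊢
    interval_cases a <;> omega
  have hpre : P.F.ker ⊓ centralizer ({x} : Set (Cz s)) = Fx.comap f := by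
    ext q
    constructor
    · rintro ⟨hq, hqc⟩
      exact ⟨mem_map_of_mem f hq, mem_centralizer_singleton_iff.mpr
        (by rw [← map_mul, ← map_mul, mem_centralizer_singleton_iff.mp hqc])⟩
    · rintro ⟨hq, hqc⟩
      have hqk : q ∈ P.F.ker := by
        have : q ∈ Qb.comap f := hq
        rwa [hQb, comap_map_eq, QuotientGroup.ker_mk', sup_eq_left.mpr hle] at this
      exact ⟨hqk, mem_centralizer_singleton_iff.mpr
        (hlift x q 3 hx (by norm_num) (mem_centralizer_singleton_iff.mp hqc).symm).symm.eq⟩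
  rw [hpre, show Nat.card (Fx.comap f) = Nat.card (zpowers (zC s)) * Nat.card Fx from
    QuotientGroup.card_preimage_mk (zpowers (zC s)) (Fx : Set (Cz s ⧸ zpowers (zC s))), hz2, hF4]

/-- An element of order three maps to one. -/
theorem F_three {x : Cz s} (hx : orderOf x = 3) : P.F x * P.F x * P.F x = 1 ∧ P.F x ≠ 1 := by
  refine ⟨by rw [← map_mul, ← map_mul, show x * x * x = x ^ 3 by rw [pow_succ, pow_two], ← hx,
    pow_orderOf_eq_one, map_one], fun e => ?_⟩
  have h := P.ker_order x (P.F.mem_ker.mpr e)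
  rw [hx] at h
  norm_num at h

theorem image_cent {x c : Cz s} (hx : orderOf x = 3) (h : Commute c x) : P.F c ∈ zpowers (P.F x) := by
  obtain ⟨h3, h1⟩ := P.F_three hx
  rcases three_cent_T _ (P.F c) h3 h1 (by rw [← map_mul, ← map_mul, h.eq]) with e | e | e <;> rw [e]
  · exact one_mem _
  · exact mem_zpowers _
  · exact mul_mem (mem_zpowers _) (mem_zpowers _)

/-- The centraliser of the element of order three. -/
theorem card_cent_three {x w : Cz s} (hx : orderOf x = 3) (hw : orderOf w = 7) (hxw : x * w * x⁻¹ = w ^ 2) :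
    Nat.card (centralizer ({x} : Set (Cz s))) = 24 := by
  set C := centralizer ({x} : Set (Cz s))
  have hrange : (P.F.comp C.subtype).range = zpowers (P.F x) := by
    refine le_antisymm ?_ (zpowers_le.mpr ⟨⟨x, mem_centralizer_singleton_iff.mpr rfl⟩, rfl⟩)
    rintro _ ⟨c, rfl⟩
    exact P.image_cent hx (mem_centralizer_singleton_iff.mp c.2)
  have hker : Nat.card (P.F.comp C.subtype).ker = 8 := by
    rw [← P.card_fix_three hx hw hxw]
    exact Nat.card_congr
      { toFun := fun c => ⟨(c : C), c.2, (c : C).2⟩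
        invFun := fun q => ⟨⟨q, q.2.2⟩, q.2.1⟩
        left_inv := fun c => rfl
        right_inv := fun q => rfl }
  rw [← card_mul_index (P.F.comp C.subtype).ker, index_ker, hker, hrange, Nat.card_zpowers]
  obtain ⟨h3, h1⟩ := P.F_three hx
  rw [orderOf_eq_prime (hp := ⟨Nat.prime_three⟩) (by rw [pow_succ, pow_two, h3]) h1]

/-- Two-elements centralising the element of order three lie in the kernel. -/
theorem two_mem_ker {x c : Cz s} (hx : orderOf x = 3) (h : Commute c x) {n : ℕ} (hc : c ^ 2 ^ n = 1) :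
    c ∈ P.F.ker := by
  rw [MonoidHom.mem_ker, ← orderOf_eq_one_iff]
  refine Nat.eq_one_of_dvd_coprimes (Nat.Coprime.pow_left n (show Nat.Coprime 2 3 by norm_num))
    (orderOf_dvd_of_pow_eq_one (by rw [← map_pow, hc, map_one])) ?_
  obtain ⟨i, hi⟩ := mem_zpowers_iff.mp (P.image_cent hx h)
  rw [← hi]
  refine (orderOf_dvd_of_pow_eq_one ?_)
  rw [← zpow_natCast, ← zpow_mul, mul_comm, zpow_mul, zpow_natCast, pow_succ, pow_two, (P.F_three hx).1, one_zpow]

/-- The element of order three is conjugate to its inverse. -/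
theorem three_real {x : Cz s} (hx : orderOf x = 3) : ∃ c : Cz s, c * x * c⁻¹ = x⁻¹ := by
  haveI : Fact (Nat.Prime 3) := ⟨Nat.prime_three⟩
  obtain ⟨h3, h1⟩ := P.F_three hx
  obtain ⟨a, ha⟩ := three_real_T _ h3 h1
  obtain ⟨c, rfl⟩ := P.surj a
  set u := c * x * c⁻¹ with hu
  have hFu : P.F u = P.F x⁻¹ := by
    rw [hu, map_mul, map_mul, map_inv, ha, map_inv]
    exact eq_inv_of_mul_eq_one_left h3
  have hou : orderOf u = 3 := ((MulAut.conj c).orderOf_eq x).trans hx
  set L := (zpowers (P.F x)).comap P.F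
  have hsyl : ∀ v : Cz s, orderOf v = 3 → ∃ R : Sylow 3 (Cz s), zpowers v = (R : Subgroup (Cz s)) := fun v hv => by
    obtain ⟨R, hR⟩ := (IsPGroup.of_card (p := 3) (n := 1)
      (show Nat.card (zpowers v) = 3 ^ 1 by rw [Nat.card_zpowers, hv, pow_one])).exists_le_sylow
    refine ⟨R, eq_of_le_of_card_ge hR ?_⟩
    rw [R.card_eq_multiplicity, P.cardC, show (21504 : ℕ) = 3 ^ 1 * 7168 by norm_num,
      Nat.factorization_mul (by norm_num) (by norm_num), Finsupp.add_apply,
      Nat.Prime.factorization_pow Nat.prime_three, Finsupp.single_eq_same,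
      Nat.factorization_eq_zero_of_not_dvd (show ¬ 3 ∣ 7168 by norm_num), Nat.card_zpowers, hv]
    norm_num
  obtain ⟨R1, hR1⟩ := hsyl x hx
  obtain ⟨R2, hR2⟩ := hsyl u hou
  have hl1 : (R1 : Subgroup (Cz s)) ≤ L := hR1 ▸ zpowers_le.mpr (mem_comap.mpr (mem_zpowers _))
  have hl2 : (R2 : Subgroup (Cz s)) ≤ L := hR2 ▸ zpowers_le.mpr (mem_comap.mpr (by
    rw [hFu, map_inv]; exact inv_mem (mem_zpowers _)))
  obtain ⟨l, hl⟩ := MulAction.exists_smul_eq L (R2.subtype hl2) (R1.subtype hl1)
  have hmem : (l : Cz s) * u * (l : Cz s)⁻¹ ∈ zpowers x := by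
    have hu2 : (⟨u, hl2 (hR2 ▸ mem_zpowers u)⟩ : L) ∈ ((R2.subtype hl2 : Sylow 3 L) : Subgroup L) := by
      show u ∈ (R2 : Subgroup (Cz s))
      rw [← hR2]; exact mem_zpowers _
    have := Subgroup.smul_mem_pointwise_smul _ (MulAut.conj l) _ hu2
    rw [← Sylow.coe_subgroup_smul, hl] at this
    rw [hR1]
    exact this
  refine ⟨(l : Cz s) * c, ?_⟩
  have e : (l : Cz s) * c * x * ((l : Cz s) * c)⁻¹ = (l : Cz s) * u * (l : Cz s)⁻¹ := by rw [hu]; group
  rw [e]
  have hF : P.F ((l : Cz s) * u * (l : Cz s)⁻¹) = P.F x⁻¹ := by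
    obtain ⟨i, hi⟩ := mem_zpowers_iff.mp (mem_comap.mp l.2)
    rw [map_mul, map_mul, map_inv, hFu, map_inv, ← hi]
    group
  have hdiff : ((l : Cz s) * u * (l : Cz s)⁻¹) * x ∈ zpowers x := mul_mem hmem (mem_zpowers x)
  have h0 : ((l : Cz s) * u * (l : Cz s)⁻¹) * x ∈ P.F.ker := by
    rw [MonoidHom.mem_ker, map_mul, hF, map_inv, inv_mul_cancel]
  have hd1 := P.ker_order _ h0
  have hd2 := orderOf_dvd_natCard _ hdiff
  rw [Nat.card_zpowers, hx] at hd2
  exact eq_inv_of_mul_eq_one_left (orderOf_eq_one_iff.mp (Nat.eq_one_of_dvd_coprimes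
    (Nat.Coprime.pow_left 7 (show Nat.Coprime 2 3 by norm_num)) hd1 hd2))

end Pk

end CfsgM24Det
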