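/-
A second conjugate of the involution, and the normaliser of the kernel.
-/
import Cfsg.Agent.Lib.M24Det.Core

set_option autoImplicit false
set_option linter.style.haveILetI false
set_option linter.unusedSectionVars false

namespace CfsgM24Det

open Subgroup CfsgLib.SameOrderCounts
open CfsgLib.Order168Model (T)
open scoped Pointwise

variable {G : Type*} [Group G] [Finite G] {s : G}

namespace Pk

/-- The kernel inside the whole group. -/
def QG (P : Pk s) : Subgroup G := P.F.ker.map (centralizer ({s} : Set G)).subtype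

variable (P : Pk s)
include P

theorem card_QG : Nat.card P.QG = 128 := by
  rw [QG, card_map_of_injective (centralizer ({s} : Set G)).subtype_injective, P.cardQ]

theorem QG_le : P.QG ≤ centralizer ({s} : Set G) := map_subtype_le _

theorem s_mem_QG : s ∈ P.QG := ⟨zC s, P.z_mem, rfl⟩

theorem cent_le_norm : centralizer ({s} : Set G) ≤ normalizer (P.QG : Set G) := by
  have hle := le_normalizer_map (centralizer ({s} : Set G)).subtype (H := P.F.ker)
  rw [normalizer_eq_top, ← MonoidHom.range_eq_map, range_subtype] at hle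
  exact hle

/-- An odd element centralising the element of order three lies in the group it generates. -/
theorem odd_cent {x o : Cz s} (hx : orderOf x = 3) (h : Commute o x) (hodd : Odd (orderOf o)) :
    o ∈ zpowers x := by
  obtain ⟨i, hi⟩ := mem_zpowers_iff.mp (P.image_cent hx h)
  have hk : o * (x ^ i)⁻¹ ∈ P.F.ker := by
    rw [MonoidHom.mem_ker, map_mul, map_inv, map_zpow, hi, mul_inv_cancel]
  have hc : Commute o (x ^ i)⁻¹ := (h.zpow_right i).inv_right
  have hd : orderOf (o * (x ^ i)⁻¹) ∣ orderOf o * 3 := by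
    refine hc.orderOf_mul_dvd_mul_orderOf.trans (Nat.mul_dvd_mul_left _ ?_)
    rw [orderOf_inv, ← hx]
    exact orderOf_dvd_of_pow_eq_one (by
      rw [← zpow_natCast, ← zpow_mul, mul_comm, zpow_mul, zpow_natCast, pow_orderOf_eq_one, one_zpow])
  have h1 : orderOf (o * (x ^ i)⁻¹) = 1 := by
    refine Nat.eq_one_of_dvd_coprimes ?_ hd (P.ker_order _ hk)
    exact Nat.Coprime.pow_right 7 ((Nat.prime_two.coprime_iff_not_dvd.mpr (by
      rw [Nat.Prime.dvd_mul Nat.prime_two]
      rintro (e | e)
      · exact hodd.not_two_dvd_nat e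
      · norm_num at e)).symm)
  rw [mul_inv_eq_one.mp (orderOf_eq_one_iff.mp h1)]
  exact zpow_mem_zpowers _ _

/-- A second conjugate of the involution commuting with it and with the element of order three. -/
theorem exists_conj (hc : Ctx G) {x w : Cz s} (hx : orderOf x = 3) (hw : orderOf w = 7)
    (hxw : x * w * x⁻¹ = w ^ 2) :
    ∃ g : G, Commute g (x : G) ∧ Commute (g * s * g⁻¹) s ∧ g * s * g⁻¹ ≠ s := by
  classical
  haveI : Fact (Nat.Prime 2) := ⟨Nat.prime_two⟩
  by_contra hcon
  push Not at hcon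
  set X := centralizer ({(x : G)} : Set G) with hX
  have hxG : orderOf (x : G) = 3 := (Subgroup.orderOf_coe x).trans hx
  have hsx : Commute s (x : G) := (mem_centralizer_singleton_iff.mp x.2).symm
  let u : X := ⟨s, mem_centralizer_singleton_iff.mpr hsx.eq⟩
  let xX : X := ⟨(x : G), mem_centralizer_singleton_iff.mpr rfl⟩
  have hu : orderOf u = 2 := (Subgroup.orderOf_coe u).symm.trans P.ord
  have hiso : Cfsg.IsIsolated u := fun g hg => Subtype.ext
    (hcon (g : G) (mem_centralizer_singleton_iff.mp g.2) (congrArg Subtype.val hg.eq :).symm)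
  set O := Cfsg.pPrimeCore 2 X
  have hOodd : Odd (Nat.card O) := Nat.coprime_two_right.1 (CfsgLib.card_pPrimeCore_coprime 2)
  have hxcen : ∀ g : X, Commute g xX := fun g => Subtype.ext (mem_centralizer_singleton_iff.mp g.2)
  have hxo : orderOf xX = 3 := (Subgroup.orderOf_coe xX).symm.trans hxG
  haveI : (zpowers xX).Normal := ⟨fun a ha g => by
    obtain ⟨i, rfl⟩ := mem_zpowers_iff.mp ha
    rw [((hxcen g).zpow_right i).eq, mul_inv_cancel_right]
    exact zpow_mem_zpowers _ _⟩
  have hxO : zpowers xX ≤ O := le_sSup ⟨inferInstance, by rw [Nat.card_zpowers, hxo]; norm_num⟩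
  have h24 : Nat.card (centralizer ({u} : Set X)) = 24 := by
    rw [Nat.card_congr (centInf X u), ← P.card_cent_three hx hw hxw,
      Nat.card_congr (centInf (centralizer ({s} : Set G)) x), inf_comm]
  -- the class is small
  have hcls : Nat.card {v : X // IsConj u v} * 3 ≤ Nat.card O := by
    rw [← hxo, ← Nat.card_zpowers, ← Nat.card_prod]
    have hmem : ∀ p : {v : X // IsConj u v} × zpowers xX, p.1.1 * u⁻¹ * (p.2 : X) ∈ O := by
      rintro ⟨⟨v, hv⟩, i⟩
      obtain ⟨g, rfl⟩ := isConj_iff.mp hv
      exact mul_mem (CfsgLib.ZStar.inZStar hu hiso g) (hxO i.2)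
    refine Nat.card_le_card_of_injective (fun p => (⟨_, hmem p⟩ : O)) ?_
    rintro ⟨⟨v, hv⟩, i, hi⟩ ⟨⟨v', hv'⟩, j, hj⟩ e
    have e' : v * u⁻¹ * i = v' * u⁻¹ * j := congrArg Subtype.val e
    have hci : ∀ a ∈ zpowers xX, ∀ b : X, Commute a b := fun a ha b => by
      obtain ⟨k, rfl⟩ := mem_zpowers_iff.mp ha
      exact ((hxcen b).zpow_right k).symm
    have h2 : v = v' * (j * i⁻¹) := by
      have := congrArg (fun a => a * i⁻¹ * u) e'
      simp only [mul_inv_cancel_right, inv_mul_cancel_right] at this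
      rw [this, mul_assoc (v' * u⁻¹), mul_assoc (v' * u⁻¹), (hci (j * i⁻¹) (mul_mem hj (inv_mem hi)) u).eq]
      group
    have hord : ∀ a : X, IsConj u a → a * a = 1 := fun a ha => by
      obtain ⟨g, rfl⟩ := isConj_iff.mp ha
      rw [show g * u * g⁻¹ * (g * u * g⁻¹) = g * (u * u) * g⁻¹ by group,
        show u * u = 1 by rw [← pow_two, ← hu, pow_orderOf_eq_one], mul_one, mul_inv_cancel]
    have hc' : (j * i⁻¹) ^ 2 = 1 := by
      have h3 := hord v hv
      rw [h2, show v' * (j * i⁻¹) * (v' * (j * i⁻¹)) = v' * ((j * i⁻¹) * v') * (j * i⁻¹) by group,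
        (hci (j * i⁻¹) (mul_mem hj (inv_mem hi)) v').eq, ← mul_assoc v' v', hord v' hv', one_mul] at h3
      rw [pow_two]; exact h3
    have hd := orderOf_dvd_natCard _ (mul_mem hj (inv_mem hi))
    rw [Nat.card_zpowers, hxo] at hd
    have h1 : j * i⁻¹ = 1 := orderOf_eq_one_iff.mp (Nat.eq_one_of_dvd_coprimes (by norm_num)
      hd (orderOf_dvd_of_pow_eq_one hc'))
    rw [h1, mul_one] at h2
    subst h2
    obtain rfl := mul_inv_eq_one.mp h1
    rfl
  have hXc := card_class_mul u
  rw [h24] at hXc
  have h344 : 344 ≤ Nat.card X := by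
    have h1 : X.index ≤ 712448 := by rw [← cnt_three_eq hc]; exact CfsgM11Det.index_le_count hxG
    have h2 := X.card_mul_index
    rw [hc.card] at h2
    have := Nat.mul_le_mul_left (Nat.card X) h1
    omega
  -- the odd part
  have hOG : Nat.card O ∣ 27 * (5 * (7 * (11 * 23))) := by
    have hd : Nat.card O ∣ 244823040 := by
      have := (card_subgroup_dvd_card O).trans (card_subgroup_dvd_card X)
      rwa [hc.card] at this
    rw [show (244823040 : ℕ) = 2 ^ 10 * (27 * (5 * (7 * (11 * 23)))) by norm_num] at hd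
    exact (Nat.Coprime.pow_right 10 (Nat.coprime_two_right.mpr hOodd)).dvd_of_dvd_mul_left hd
  have hprime : ∀ p, p.Prime → p ∣ Nat.card O → ∃ o : O, orderOf ((o : X) : G) = p := fun p hp hd => by
    haveI := Fact.mk hp
    obtain ⟨o, ho⟩ := exists_prime_orderOf_dvd_card' (G := O) p hd
    exact ⟨o, by rw [Subgroup.orderOf_coe, Subgroup.orderOf_coe, ho]⟩
  have hxcent : ∀ o : O, (x : G) ∈ centralizer ({((o : X) : G)} : Set G) := fun o =>
    mem_centralizer_singleton_iff.mpr (mem_centralizer_singleton_iff.mp (o : X).2).symm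
  have h11 : ¬ 11 ∣ Nat.card O := fun hd => by
    obtain ⟨o, ho⟩ := hprime 11 (by norm_num) hd
    have h := orderOf_dvd_natCard _ (hxcent o)
    rw [hxG, cent_eleven hc ho] at h
    norm_num at h
  have h23 : ¬ 23 ∣ Nat.card O := fun hd => by
    obtain ⟨o, ho⟩ := hprime 23 (by norm_num) hd
    have h := orderOf_dvd_natCard _ (hxcent o)
    rw [hxG, cent_twentythree hc ho] at h
    norm_num at h
  -- elements of order five or seven centralise the odd part
  have hcomm : ∀ o : O, (orderOf ((o : X) : G)).Coprime 3 →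
      ∀ o' : O, ((o' : X) : G) ∈ centralizer ({((o : X) : G)} : Set G) := by
    intro o ho o'
    let N := (zpowers xX).subgroupOf O
    haveI : O.Normal := inferInstance
    let c : MulAut O := MulAut.conjNormal u
    have hcv : ∀ a : O, ((c a : O) : X) = u * a * u⁻¹ := fun a => MulAut.conjNormal_apply u a
    have hu2 : u * u = 1 := by rw [← pow_two, ← hu, pow_orderOf_eq_one]
    let φ : O ⧸ N →* O ⧸ N := QuotientGroup.map N N c.toMonoidHom fun a ha => by
      rw [mem_comap]
      show ((c a : O) : X) ∈ zpowers xX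
      rw [hcv]
      exact (inferInstance : (zpowers xX).Normal).conj_mem _ ha u
    have hφ : ∀ a : O, φ (QuotientGroup.mk a) = QuotientGroup.mk (c a) := fun a => rfl
    have hinv : Function.Involutive φ := by
      intro q
      refine QuotientGroup.induction_on q fun a => ?_
      rw [hφ, hφ]
      congr 1
      refine Subtype.ext ?_
      rw [hcv, hcv, show u * (u * (a : X) * u⁻¹) * u⁻¹ = (u * u) * a * (u * u)⁻¹ by group, hu2]
      group
    have hfpf : MonoidHom.FixedPointFree φ := by
      intro q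
      refine QuotientGroup.induction_on q fun a ha => ?_
      rw [hφ, QuotientGroup.eq] at ha
      have hk : ((c a : O) : X)⁻¹ * (a : X) ∈ zpowers xX := ha
      rw [hcv] at hk
      set k := (u * (a : X) * u⁻¹)⁻¹ * (a : X) with hkd
      have hu3 : Commute u k := by
        obtain ⟨i, hi⟩ := mem_zpowers_iff.mp hk
        rw [← hi]; exact (hxcen u).zpow_right i
      have hk2 : k * k = 1 := by
        have e : u * k * u⁻¹ = k⁻¹ := by
          rw [hkd, show u * ((u * (a : X) * u⁻¹)⁻¹ * a) * u⁻¹ =
            (u * u) * (a : X)⁻¹ * (u * u)⁻¹ * (u * a * u⁻¹) by group, hu2]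
          group
        rw [hu3.eq, mul_inv_cancel_right] at e
        exact mul_eq_one_iff_eq_inv.mpr e
      have hd := orderOf_dvd_natCard _ hk
      rw [Nat.card_zpowers, hxo] at hd
      have hk1 : k = 1 := orderOf_eq_one_iff.mp (Nat.eq_one_of_dvd_coprimes (by norm_num)
        hd (orderOf_dvd_of_pow_eq_one (by rw [pow_two, hk2] : k ^ 2 = 1)))
      have hcu : Commute ((a : X) : G) s := by
        have h := inv_mul_eq_one.mp hk1
        exact (congrArg Subtype.val (mul_inv_eq_iff_eq_mul.mp h)).symm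
      have haC : ((a : X) : G) ∈ centralizer ({s} : Set G) := mem_centralizer_singleton_iff.mpr hcu.eq
      have hodd : Odd (orderOf ((a : X) : G)) := by
        rw [Subgroup.orderOf_coe, Subgroup.orderOf_coe]
        exact hOodd.of_dvd_nat (orderOf_dvd_natCard a)
      obtain ⟨i, hi⟩ := mem_zpowers_iff.mp (P.odd_cent hx (o := ⟨_, haC⟩)
        (Subtype.ext (mem_centralizer_singleton_iff.mp (a : X).2)) (by rwa [← Subgroup.orderOf_coe]))
      rw [QuotientGroup.eq_one_iff]
      refine mem_subgroupOf.mpr (mem_zpowers_iff.mpr ⟨i, Subtype.ext ?_⟩)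
      rw [SubgroupClass.coe_zpow]
      have := congrArg Subtype.val hi
      rwa [SubgroupClass.coe_zpow] at this
    have hcq := hfpf.commute_all_of_involutive hinv (QuotientGroup.mk o) (QuotientGroup.mk o')
    have hmem : ((o' : X) * o * (o' : X)⁻¹ * (o : X)⁻¹) ∈ zpowers xX := by
      have : (o' * o * o'⁻¹ * o⁻¹ : O) ∈ N := by
        rw [← QuotientGroup.eq_one_iff, QuotientGroup.mk_mul, QuotientGroup.mk_mul, QuotientGroup.mk_mul,
          QuotientGroup.mk_inv, QuotientGroup.mk_inv, ← hcq.eq, mul_inv_cancel_right, mul_inv_cancel]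
      exact mem_subgroupOf.mp this
    set d := (o' : X) * o * (o' : X)⁻¹ * (o : X)⁻¹ with hdd
    have hdo : Commute d (o : X) := by
      obtain ⟨i, hi⟩ := mem_zpowers_iff.mp hmem
      rw [← hi]; exact ((hxcen _).zpow_right i).symm
    have hoX : orderOf ((o : X) : G) = orderOf (o : X) := Subgroup.orderOf_coe (o : X)
    have hd1 : d = 1 := by
      have hd3 := orderOf_dvd_natCard _ hmem
      rw [Nat.card_zpowers, hxo] at hd3
      have hcop : (orderOf d).Coprime (orderOf (o : X)) :=
        Nat.Coprime.coprime_dvd_left hd3 (hoX ▸ ho.symm)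
      have e : d * (o : X) = (o' : X) * o * (o' : X)⁻¹ := by rw [hdd, inv_mul_cancel_right]
      have ho' : orderOf ((o' : X) * o * (o' : X)⁻¹) = orderOf (o : X) := (MulAut.conj (o' : X)).orderOf_eq _
      rw [← e, hdo.orderOf_mul_eq_mul_orderOf_of_coprime hcop, Nat.mul_eq_right (orderOf_pos _).ne'] at ho'
      exact orderOf_eq_one_iff.mp ho'
    rw [mem_centralizer_singleton_iff]
    exact congrArg Subtype.val (mul_inv_eq_iff_eq_mul.mp (mul_inv_eq_one.mp hd1))
  have hbound : ∀ p, p = 5 ∨ p = 7 → p ∣ Nat.card O → Nat.card O ≤ 21 := by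
    intro p hp hd
    obtain ⟨o, ho⟩ := hprime p (by rcases hp with rfl | rfl <;> norm_num) hd
    have hsub : Nat.card O ∣ Nat.card (centralizer ({((o : X) : G)} : Set G)) := by
      rw [← card_map_of_injective X.subtype_injective (K := O)]
      refine card_dvd_of_le ?_
      rintro _ ⟨a, ha, rfl⟩
      exact hcomm o (by rw [ho]; rcases hp with rfl | rfl <;> norm_num) ⟨a, ha⟩
    have hodd : Nat.card O % 2 = 1 := Nat.odd_iff.mp hOodd
    rcases hp with rfl | rfl
    · rw [(cent_five hc ho).1] at hsub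
      have h := Nat.mem_divisors.mpr ⟨hsub, (by norm_num : (60 : ℕ) ≠ 0)⟩
      rw [show Nat.divisors 60 = {1, 2, 3, 4, 5, 6, 10, 12, 15, 20, 30, 60} by decide +kernel] at h
      simp only [Finset.mem_insert, Finset.mem_singleton] at h
      omega
    · rw [(cent_seven hc ho).1] at hsub
      have h := Nat.mem_divisors.mpr ⟨hsub, (by norm_num : (42 : ℕ) ≠ 0)⟩
      rw [show Nat.divisors 42 = {1, 2, 3, 6, 7, 14, 21, 42} by decide +kernel] at h
      simp only [Finset.mem_insert, Finset.mem_singleton] at h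
      omega
  have h27 : Nat.card O ≤ 27 := by
    by_cases h5 : 5 ∣ Nat.card O
    · exact (hbound 5 (Or.inl rfl) h5).trans (by norm_num)
    by_cases h7 : 7 ∣ Nat.card O
    · exact (hbound 7 (Or.inr rfl) h7).trans (by norm_num)
    have cp : ∀ p, p.Prime → ¬ p ∣ Nat.card O → (Nat.card O).Coprime p := fun p hp h =>
      (hp.coprime_iff_not_dvd.mpr h).symm
    refine Nat.le_of_dvd (by norm_num) (Nat.Coprime.dvd_of_dvd_mul_right ?_ hOG)
    exact (cp 5 (by norm_num) h5).mul_right ((cp 7 (by norm_num) h7).mul_right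
      ((cp 11 (by norm_num) h11).mul_right (cp 23 (by norm_num) h23)))
  omega

/-- Only the centraliser normalises the kernel. -/
theorem norm_eq (hc : Ctx G) {w : Cz s} (hw : orderOf w = 7) :
    normalizer (P.QG : Set G) = centralizer ({s} : Set G) := by
  classical
  haveI : Fact (Nat.Prime 7) := ⟨by norm_num⟩
  set N := normalizer (P.QG : Set G) with hN
  have hCN : centralizer ({s} : Set G) ≤ N := P.cent_le_norm
  let sN : N := ⟨s, hCN (P.QG_le P.s_mem_QG)⟩
  set QN := P.QG.subgroupOf N with hQN
  haveI : QN.Normal := normal_subgroupOf_of_le_normalizer le_rfl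
  have hQNc : Nat.card QN = 128 := by
    rw [hQN, Nat.card_congr (subgroupOfEquivOfLe le_normalizer).toEquiv, P.card_QG]
  have hcent : Nat.card (centralizer ({sN} : Set N)) = 21504 := by
    rw [Nat.card_congr (centInf N sN), show N ⊓ centralizer ({(sN : G)} : Set G) = centralizer ({s} : Set G) from
      inf_eq_right.mpr hCN]
    exact P.cardC
  have hmul := card_class_mul sN
  rw [hcent] at hmul
  have hsQ : sN ∈ QN := mem_subgroupOf.mpr P.s_mem_QG
  have hclsQ : ∀ v : {v : N // IsConj sN v}, (v.1 : N) ∈ QN := fun v => by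
    obtain ⟨g, hg⟩ := isConj_iff.mp v.2
    rw [← hg]
    exact (inferInstance : QN.Normal).conj_mem _ hsQ g
  have hk128 : Nat.card {v : N // IsConj sN v} ≤ 128 := by
    rw [← hQNc]
    exact Nat.card_le_card_of_injective (fun v => (⟨v.1, hclsQ v⟩ : QN))
      fun a b e => Subtype.ext (congrArg Subtype.val e :)
  have hkd : Nat.card {v : N // IsConj sN v} ∣ 11385 := by
    have h := hc.card ▸ card_subgroup_dvd_card N
    rw [← hmul, show (244823040 : ℕ) = 11385 * 21504 by norm_num] at h
    exact Nat.dvd_of_mul_dvd_mul_right (by norm_num) h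
  -- only the involution itself is fixed by the element of order seven
  let wN : N := ⟨(w : G), hCN w.2⟩
  have hwN : orderOf wN = 7 := (Subgroup.orderOf_coe wN).symm.trans ((Subgroup.orderOf_coe w).trans hw)
  letI : MulAction (zpowers wN) {v : N // IsConj sN v} :=
    { smul := fun a v => ⟨MulAut.conj (a : N) v.1, v.2.trans (isConj_iff.mpr ⟨a, rfl⟩)⟩
      one_smul := fun v => Subtype.ext (by show MulAut.conj (1 : N) v.1 = v.1; simp)
      mul_smul := fun a b v => Subtype.ext (by
        show MulAut.conj ((a : N) * b) v.1 = MulAut.conj (a : N) (MulAut.conj (b : N) v.1); simp [map_mul]) }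
  have hmod := (IsPGroup.of_card (p := 7) (n := 1)
    (show Nat.card (zpowers wN) = 7 ^ 1 by rw [Nat.card_zpowers, hwN, pow_one])).card_modEq_card_fixedPoints
      {v : N // IsConj sN v}
  have hfix : MulAction.fixedPoints (zpowers wN) {v : N // IsConj sN v} = {⟨sN, IsConj.refl _⟩} := by
    ext v
    refine ⟨fun hv => ?_, fun hv a => ?_⟩
    · have e : (w : G) * ((v.1 : N) : G) * (w : G)⁻¹ = ((v.1 : N) : G) :=
        congrArg (fun a : {v : N // IsConj sN v} => ((a.1 : N) : G)) (hv ⟨wN, mem_zpowers wN⟩)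
      obtain ⟨q, hq, hqv⟩ := mem_subgroupOf.mp (hclsQ v)
      have hqw : Commute q w := Subtype.ext (by
        show (q : G) * (w : G) = (w : G) * (q : G)
        rw [show (q : G) = ((v.1 : N) : G) from hqv]
        exact (mul_inv_eq_iff_eq_mul.mp e).symm)
      rcases P.fixed_seven hw hq hqw with h | h
      · exfalso
        have h1 : ((v.1 : N) : G) = 1 := by rw [← hqv, h]; rfl
        obtain ⟨g, hg⟩ := isConj_iff.mp v.2
        have h2 : g * sN * g⁻¹ = 1 := hg.trans (Subtype.ext h1)
        rw [conj_eq_one_iff] at h2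
        have := P.ord
        rw [show s = 1 from congrArg Subtype.val h2, orderOf_one] at this
        omega
      · refine Set.mem_singleton_iff.mpr (Subtype.ext (Subtype.ext ?_))
        rw [← hqv, h]; rfl
    · rw [Set.mem_singleton_iff] at hv
      subst hv
      refine Subtype.ext (Subtype.ext ?_)
      obtain ⟨i, hi⟩ := mem_zpowers_iff.mp a.2
      show ((a : N) : G) * s * ((a : N) : G)⁻¹ = s
      rw [← hi, SubgroupClass.coe_zpow,
        ((show Commute (w : G) s from mem_centralizer_singleton_iff.mp w.2).zpow_left i).eq, mul_inv_cancel_right]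
  rw [hfix, Nat.card_coe_set_eq, Set.ncard_singleton, Nat.ModEq] at hmod
  have hno : ∀ p (hp : p.Prime) (c : ℕ), p ∣ Nat.card {v : N // IsConj sN v} →
      (∀ f : G, orderOf f = p → Nat.card (centralizer ({f} : Set G)) = c) →
      (∀ d, d ∣ 128 → d ∣ c → 128 % p ≠ d % p) → False := by
    intro p hp c hd hcen hd'
    haveI := Fact.mk hp
    obtain ⟨f, hf⟩ := exists_prime_orderOf_dvd_card' (G := N) p (hd.trans ⟨21504, hmul.symm⟩)
    have hm := fix_mod QN hf
    rw [hQNc] at hm
    refine hd' _ (hQNc ▸ card_dvd_of_le inf_le_left) ?_ hm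
    rw [← hcen (f : G) ((Subgroup.orderOf_coe f).trans hf),
      ← card_map_of_injective N.subtype_injective (K := QN ⊓ centralizer ({f} : Set N))]
    refine card_dvd_of_le ?_
    rintro _ ⟨a, ha, rfl⟩
    exact mem_centralizer_singleton_iff.mpr (congrArg Subtype.val (mem_centralizer_singleton_iff.mp ha.2))
  have h15 : ∀ k : ℕ, k < 129 → k % 7 = 1 → k ∣ 11385 → k = 1 ∨ k = 15 ∨ k = 99 := by decide +kernel
  rcases h15 _ (by omega) hmod hkd with h | h | h
  · refine le_antisymm (fun n hn => mem_centralizer_singleton_iff.mpr ?_) hCN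
    haveI : Subsingleton {v : N // IsConj sN v} := (Nat.card_eq_one_iff_unique.mp h).1
    have := congrArg Subtype.val (congrArg Subtype.val
      (Subsingleton.elim (⟨MulAut.conj (⟨n, hn⟩ : N) sN, isConj_iff.mpr ⟨⟨n, hn⟩, rfl⟩⟩ : {v : N // IsConj sN v})
        ⟨sN, IsConj.refl _⟩))
    exact mul_inv_eq_iff_eq_mul.mp this
  · refine (hno 5 (by norm_num) 60 (by rw [h]; norm_num) (fun f hf => (cent_five hc hf).1) fun d h1 h2 => ?_).elim
    have h := Nat.dvd_gcd h1 h2
    norm_num at h
    have := Nat.mem_divisors.mpr ⟨h, (by norm_num : (4 : ℕ) ≠ 0)⟩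
    rw [show Nat.divisors 4 = {1, 2, 4} by decide] at this
    simp only [Finset.mem_insert, Finset.mem_singleton] at this
    omega
  · refine (hno 11 (by norm_num) 11 (by rw [h]; norm_num) (fun f hf => cent_eleven hc hf) fun d h1 h2 => ?_).elim
    have h := Nat.dvd_gcd h1 h2
    norm_num at h
    subst h
    norm_num

end Pk

end CfsgM24Det
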