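/-
The second conjugate in the kernel, and the kernel is not commutative.
-/
import Cfsg.Agent.Lib.M24Det.Fusion

set_option autoImplicit false
set_option linter.style.haveILetI false
set_option linter.unusedSectionVars false
set_option maxRecDepth 20000

namespace CfsgM24Det

open Subgroup CfsgLib.SameOrderCounts
open CfsgLib.Order168Model (T mkT)
open scoped Pointwise

theorem three_words_T : ∀ a : T, a * a = 1 → a ≠ 1 →
    a * (mkT 282 * a * (mkT 282)⁻¹) = mkT 282 * a * (mkT 282)⁻¹ * a →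
    ∃ g ∈ [mkT 84], ∃ h ∈ [mkT 86, mkT 98],
      (∃ u ∈ [1, a, mkT 282 * a * (mkT 282)⁻¹, a * (mkT 282 * a * (mkT 282)⁻¹)],
        ∃ v ∈ [1, a, mkT 282 * a * (mkT 282)⁻¹, a * (mkT 282 * a * (mkT 282)⁻¹)],
          mkT 282 = g * u * g⁻¹ * (h * v * h⁻¹)) ∧
      (∃ r ∈ [1, a, mkT 282 * a * (mkT 282)⁻¹, a * (mkT 282 * a * (mkT 282)⁻¹)],
        ∃ r' ∈ [1, a, mkT 282 * a * (mkT 282)⁻¹, a * (mkT 282 * a * (mkT 282)⁻¹)],
          (r * (g * r' * g⁻¹) * mkT 282) ^ 7 = 1 ∧ r * (g * r' * g⁻¹) * mkT 282 ≠ 1 ∨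
          (r * mkT 282 * (g * r' * g⁻¹)) ^ 7 = 1 ∧ r * mkT 282 * (g * r' * g⁻¹) ≠ 1) := by
  decide +kernel

theorem inv_cent_T : ∀ a : T, a * a = 1 → a ≠ 1 → Fintype.card {c : T // c * a = a * c} = 8 ∧
    ∃ p q : T, p * a = a * p ∧ q * a = a * q ∧ p * q ≠ q * p := by
  decide +kernel

variable {G : Type*} [Group G] [Finite G] {s : G}

/-- The conjugate of the involution inside its centraliser. -/
def tw (g : G) (h : Commute (g * s * g⁻¹) s) : Cz s := ⟨g * s * g⁻¹, mem_centralizer_singleton_iff.mpr h.eq⟩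

/-- The conjugate of the kernel. -/
def Pk.QT (P : Pk s) (g : G) : Subgroup G := P.QG.map (MulAut.conj g).toMonoidHom

namespace Pk

variable (P : Pk s)
include P

theorem sq_one : s * s = 1 := by rw [← pow_two, ← P.ord, pow_orderOf_eq_one]

theorem tw_ord (g : G) (h : Commute (g * s * g⁻¹) s) : orderOf (tw g h) = 2 := by
  rw [← Subgroup.orderOf_coe]
  show orderOf (g * s * g⁻¹) = 2
  rw [← MulAut.conj_apply, MulEquiv.orderOf_eq, P.ord]

theorem tw_ne_one (g : G) (h : Commute (g * s * g⁻¹) s) : tw g h ≠ 1 := fun e => by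
  have := P.tw_ord g h
  rw [e, orderOf_one] at this
  omega

theorem tw_comm {g : G} (h : Commute (g * s * g⁻¹) s) {x : Cz s} (hgx : Commute g (x : G)) :
    Commute (tw g h) x := by
  refine Subtype.ext ?_
  show g * s * g⁻¹ * (x : G) = (x : G) * (g * s * g⁻¹)
  exact ((hgx.mul_left (mem_centralizer_singleton_iff.mp x.2).symm).mul_left hgx.inv_left).eq

theorem tw_mem_ker {g : G} (h : Commute (g * s * g⁻¹) s) {x : Cz s} (hx : orderOf x = 3)
    (hgx : Commute g (x : G)) : tw g h ∈ P.F.ker :=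
  P.two_mem_ker hx (P.tw_comm h hgx) (n := 1) (by rw [pow_one, ← P.tw_ord g h, pow_orderOf_eq_one])

theorem conj_mem_QG {g : G} (h : Commute (g * s * g⁻¹) s) {x : Cz s} (hx : orderOf x = 3)
    (hgx : Commute g (x : G)) : g * s * g⁻¹ ∈ P.QG :=
  ⟨tw g h, P.tw_mem_ker h hx hgx, rfl⟩

theorem card_QT (g : G) : Nat.card (P.QT g) = 128 := by
  rw [QT, card_map_of_injective (MulAut.conj g).injective, P.card_QG]

theorem mem_QT {g v : G} : v ∈ P.QT g ↔ g⁻¹ * v * g ∈ P.QG := by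
  constructor
  · rintro ⟨q, hq, rfl⟩
    show g⁻¹ * (g * q * g⁻¹) * g ∈ P.QG
    rwa [show g⁻¹ * (g * q * g⁻¹) * g = q by group]
  · intro hv
    exact ⟨g⁻¹ * v * g, hv, show g * (g⁻¹ * v * g) * g⁻¹ = v by group⟩

theorem t_mem_QT (g : G) : g * s * g⁻¹ ∈ P.QT g := ⟨s, P.s_mem_QG, rfl⟩

theorem s_mem_QT {g : G} (h : Commute (g * s * g⁻¹) s) {x : Cz s} (hx : orderOf x = 3)
    (hgx : Commute g (x : G)) : s ∈ P.QT g := by
  rw [P.mem_QT]
  have h' : Commute (g⁻¹ * s * g⁻¹⁻¹) s := by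
    show g⁻¹ * s * g⁻¹⁻¹ * s = s * (g⁻¹ * s * g⁻¹⁻¹)
    calc g⁻¹ * s * g⁻¹⁻¹ * s = g⁻¹ * (s * (g * s * g⁻¹)) * g := by group
      _ = g⁻¹ * ((g * s * g⁻¹) * s) * g := by rw [h.eq]
      _ = s * (g⁻¹ * s * g⁻¹⁻¹) := by group
  have := P.conj_mem_QG h' hx hgx.inv_left
  rwa [inv_inv] at this

theorem QT_conj {g v : G} {x : Cz s} (hgx : Commute g (x : G)) (hv : v ∈ P.QT g) :
    (x : G) * v * (x : G)⁻¹ ∈ P.QT g := by
  rw [P.mem_QT] at hv ⊢
  have e : g⁻¹ * ((x : G) * v * (x : G)⁻¹) * g = (x : G) * (g⁻¹ * v * g) * (x : G)⁻¹ := by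
    rw [show g⁻¹ * ((x : G) * v * (x : G)⁻¹) * g = (g⁻¹ * (x : G)) * v * (g⁻¹ * (x : G))⁻¹ by group,
      hgx.inv_left.eq]
    group
  rw [e]
  exact (mem_normalizer_iff.mp (P.cent_le_norm x.2) _).mp hv

theorem exists_out (hc : Ctx G) {w : Cz s} (hw : orderOf w = 7) {g : G} (hne : g * s * g⁻¹ ≠ s) :
    ∃ v ∈ P.QT g, v ∉ P.QG := by
  by_contra hcon
  push Not at hcon
  have heq : P.QT g = P.QG := eq_of_le_of_card_ge hcon (by rw [P.card_QT, P.card_QG])
  have hg : g ∈ normalizer (P.QG : Set G) := mem_normalizer_iff.mpr fun q => by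
    conv_rhs => rw [← heq, P.mem_QT, show g⁻¹ * (g * q * g⁻¹) * g = q by group]
  rw [P.norm_eq hc hw] at hg
  exact hne (mul_inv_eq_iff_eq_mul.mpr (mem_centralizer_singleton_iff.mp hg))

/-- Change the factor map by an inner automorphism. -/
def twist (c : T) : Pk s where
  F := (MulAut.conj c).toMonoidHom.comp P.F
  surj := (MulAut.conj c).surjective.comp P.surj
  cardQ := by rw [show ((MulAut.conj c).toMonoidHom.comp P.F).ker = P.F.ker by
    ext q; simp [MonoidHom.mem_ker]]; exact P.cardQ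
  z_mem := by
    rw [MonoidHom.mem_ker, MonoidHom.comp_apply, P.z_mem, map_one]
  cardC := P.cardC
  cent7 := P.cent7
  norm7 := P.norm7
  ord := P.ord

theorem twist_ker (c : T) : (P.twist c).F.ker = P.F.ker := by
  ext q; simp [twist, MonoidHom.mem_ker]

theorem nonabelian_aux (hc : Ctx G) {w x : Cz s} (hw : orderOf w = 7) (hx : orderOf x = 3)
    (hxw : x * w * x⁻¹ = w ^ 2) (h282 : P.F x = mkT 282) :
    ∃ p ∈ P.F.ker, ∃ q ∈ P.F.ker, p * q ≠ q * p := by
  classical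
  haveI : Fact (Nat.Prime 2) := ⟨Nat.prime_two⟩
  by_contra hab
  push Not at hab
  obtain ⟨g, hgx, hts, htne⟩ := P.exists_conj hc hx hw hxw
  have hQGc : ∀ u ∈ P.QG, ∀ v ∈ P.QG, u * v = v * u := by
    rintro _ ⟨p, hp, rfl⟩ _ ⟨q, hq, rfl⟩
    rw [← map_mul, hab p hp q hq, map_mul]
  have hT : ∀ u ∈ P.QT g, ∀ v ∈ P.QT g, u * v = v * u := by
    rintro _ ⟨p, hp, rfl⟩ _ ⟨q, hq, rfl⟩
    rw [← map_mul, hQGc p hp q hq, map_mul]
  have hsQT := P.s_mem_QT hts hx hgx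
  have hQTC : P.QT g ≤ centralizer ({s} : Set G) := fun v hv =>
    mem_centralizer_singleton_iff.mpr (hT v hv s hsQT)
  set U0 := (P.QT g).subgroupOf (centralizer ({s} : Set G)) with hU0d
  have hU0 : Nat.card U0 = 128 := by
    rw [hU0d, Nat.card_congr (subgroupOfEquivOfLe hQTC).toEquiv, P.card_QT]
  have hU0c : ∀ u ∈ U0, ∀ v ∈ U0, u * v = v * u := fun u hu v hv => Subtype.ext (hT _ hu _ hv)
  set U := U0.map P.F with hUd
  have hUc : ∀ u ∈ U, ∀ v ∈ U, u * v = v * u := by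
    rintro _ ⟨p, hp, rfl⟩ _ ⟨q, hq, rfl⟩
    rw [← map_mul, hU0c p hp q hq, map_mul]
  have hUx : ∀ u ∈ U, mkT 282 * u * (mkT 282)⁻¹ ∈ U := by
    rintro _ ⟨p, hp, rfl⟩
    refine ⟨x * p * x⁻¹, P.QT_conj hgx hp, ?_⟩
    rw [map_mul, map_mul, map_inv, h282]
  obtain ⟨v0, hv0, hv0Q⟩ := P.exists_out hc hw htne
  have hv0U : P.F ⟨v0, hQTC hv0⟩ ∈ U := ⟨_, hv0, rfl⟩
  have hv01 : P.F ⟨v0, hQTC hv0⟩ ≠ 1 := fun e => hv0Q ⟨_, MonoidHom.mem_ker.mpr e, rfl⟩
  obtain ⟨n, -, hn⟩ := (Nat.dvd_prime_pow Nat.prime_two).mp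
    (show Nat.card U ∣ 2 ^ 7 by have := card_map_dvd (f := P.F) U0; rwa [hU0] at this)
  have h2U : 2 ∣ Nat.card U := by
    rw [hn]
    refine dvd_pow_self 2 fun e => hv01 ?_
    rw [e, pow_zero] at hn
    exact (Subgroup.mem_bot.mp ((eq_bot_of_card_eq U hn) ▸ hv0U))
  obtain ⟨a', ha'⟩ := exists_prime_orderOf_dvd_card' (G := U) 2 h2U
  obtain ⟨a, haU⟩ := a'
  rw [← Subgroup.orderOf_coe] at ha'
  have ha : orderOf a = 2 := ha'
  have ha1 : a ≠ 1 := fun e => by rw [e, orderOf_one] at ha; omega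
  have ha2 : a * a = 1 := by rw [← pow_two, ← ha, pow_orderOf_eq_one]
  set b := mkT 282 * a * (mkT 282)⁻¹ with hbd
  have hbU : b ∈ U := hUx a haU
  obtain ⟨hCa, p, q, hpa, hqa, hpq⟩ := inv_cent_T a ha2 ha1
  have hU4 : Nat.card U ≤ 4 := by
    have hCc : Nat.card (centralizer ({a} : Set T)) = 8 := by
      rw [← hCa, ← Nat.card_eq_fintype_card]
      exact Nat.card_congr (Equiv.subtypeEquivRight fun c => mem_centralizer_singleton_iff)
    have hle : U ≤ centralizer ({a} : Set T) := fun u hu =>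
      mem_centralizer_singleton_iff.mpr (hUc u hu a haU)
    have hd := card_dvd_of_le hle
    rw [hCc] at hd
    have hne : Nat.card U ≠ 8 := fun e => by
      have heq := eq_of_le_of_card_ge hle (by rw [hCc, e])
      exact hpq (hUc p (heq ▸ mem_centralizer_singleton_iff.mpr hpa) q
        (heq ▸ mem_centralizer_singleton_iff.mpr hqa))
    have h8 := Nat.le_of_dvd (by norm_num) hd
    rw [hn] at hd hne h8 ⊢
    have : n ≤ 3 := (Nat.pow_le_pow_iff_right (a := 2) (by norm_num)).mp h8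
    interval_cases n <;> omega
  set D := P.F.ker ⊓ U0 with hDd
  have hD : 32 ≤ Nat.card D := by
    have h1 := (P.F.comp U0.subtype).ker.card_mul_index
    have h2 : (P.F.comp U0.subtype).range = U := by
      rw [MonoidHom.range_eq_map, ← Subgroup.map_map, ← MonoidHom.range_eq_map, range_subtype]
    rw [index_ker, h2, hU0] at h1
    have h3 : Nat.card (P.F.comp U0.subtype).ker = Nat.card D := Nat.card_congr
      { toFun := fun c => ⟨(c : U0), c.2, (c : U0).2⟩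
        invFun := fun d => ⟨⟨d, d.2.2⟩, d.2.1⟩
        left_inv := fun c => rfl
        right_inv := fun d => rfl }
    rw [h3] at h1
    nlinarith
  -- elements fixing a subgroup
  let Fix : T → Subgroup (Cz s) → Prop := fun e E => ∀ c : Cz s, P.F c = e → ∀ d ∈ E, c * d = d * c
  have fU : ∀ e ∈ U, Fix e D := by
    rintro _ ⟨c0, hc0, rfl⟩ c hFc d hd
    have hk : c0⁻¹ * c ∈ P.F.ker := by rw [MonoidHom.mem_ker, map_mul, map_inv, hFc, inv_mul_cancel]
    have h1 : c0⁻¹ * c * d = d * (c0⁻¹ * c) := hab _ hk _ hd.1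
    calc c * d = c0 * (c0⁻¹ * c * d) := by group
      _ = (c0 * d) * (c0⁻¹ * c) := by rw [h1]; group
      _ = d * c := by rw [hU0c c0 hc0 d hd.2]; group
  have fmul : ∀ e1 e2 E, Fix e1 E → Fix e2 E → Fix (e1 * e2) E := by
    intro e1 e2 E f1 f2 c hFc d hd
    obtain ⟨c1, hc1⟩ := P.surj e1
    have h2 : P.F (c1⁻¹ * c) = e2 := by rw [map_mul, map_inv, hFc, hc1, inv_mul_cancel_left]
    calc c * d = c1 * (c1⁻¹ * c * d) := by group
      _ = (c1 * d) * (c1⁻¹ * c) := by rw [f2 _ h2 d hd]; group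
      _ = d * c := by rw [f1 _ hc1 d hd]; group
  have fconj : ∀ (c0 : Cz s) (e : T), Fix e D →
      Fix (P.F c0 * e * (P.F c0)⁻¹) (D.map (MulAut.conj c0).toMonoidHom) := by
    rintro c0 e f c hFc _ ⟨d, hd, rfl⟩
    have h := f (c0⁻¹ * c * c0) (by rw [map_mul, map_mul, map_inv, hFc]; group) d hd
    show c * (c0 * d * c0⁻¹) = c0 * d * c0⁻¹ * c
    calc c * (c0 * d * c0⁻¹) = c0 * (c0⁻¹ * c * c0 * d) * c0⁻¹ := by group
      _ = c0 * d * c0⁻¹ * c := by rw [h]; group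
  obtain ⟨gT, -, hT', -, ⟨u, hu, v, hv, huv⟩, r, hr, r', hr', hseven⟩ :=
    three_words_T a ha2 ha1 (hUc a haU b hbU)
  have hUl : ∀ e ∈ [1, a, b, a * b], e ∈ U := by
    intro e he
    simp only [List.mem_cons, List.not_mem_nil, or_false] at he
    rcases he with rfl | rfl | rfl | rfl
    · exact one_mem _
    · exact haU
    · exact hbU
    · exact mul_mem haU hbU
  obtain ⟨cg, hcg⟩ := P.surj gT
  obtain ⟨ch, hch⟩ := P.surj hT'
  set E := D.map (MulAut.conj cg).toMonoidHom ⊓ D.map (MulAut.conj ch).toMonoidHom with hEd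
  have hDK : ∀ c0 : Cz s, D.map (MulAut.conj c0).toMonoidHom ≤ P.F.ker := by
    rintro c0 _ ⟨d, hd, rfl⟩
    exact (inferInstance : P.F.ker.Normal).conj_mem d hd.1 c0
  have hidx : ∀ c0 : Cz s, ((D.map (MulAut.conj c0).toMonoidHom).subgroupOf P.F.ker).index ≤ 4 := by
    intro c0
    have h1 := ((D.map (MulAut.conj c0).toMonoidHom).subgroupOf P.F.ker).card_mul_index
    rw [Nat.card_congr (subgroupOfEquivOfLe (hDK c0)).toEquiv,
      card_map_of_injective (MulAut.conj c0).injective, P.cardQ] at h1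
    nlinarith
  have hE : 8 ≤ Nat.card E := by
    have h1 := (E.subgroupOf P.F.ker).card_mul_index
    rw [Nat.card_congr (subgroupOfEquivOfLe (inf_le_left.trans (hDK cg))).toEquiv, P.cardQ] at h1
    have h2 : (E.subgroupOf P.F.ker).index ≤ 16 := by
      rw [hEd, show (D.map (MulAut.conj cg).toMonoidHom ⊓ D.map (MulAut.conj ch).toMonoidHom).subgroupOf P.F.ker =
        (D.map (MulAut.conj cg).toMonoidHom).subgroupOf P.F.ker ⊓
          (D.map (MulAut.conj ch).toMonoidHom).subgroupOf P.F.ker from comap_inf _ _ _]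
      exact index_inf_le.trans (Nat.mul_le_mul (hidx cg) (hidx ch))
    nlinarith
  have fxE : Fix (mkT 282) E := by
    rw [huv, ← hcg, ← hch]
    exact fmul _ _ _ (fun c hc' d hd => fconj cg u (fU u (hUl u hu)) c hc' d hd.1)
      (fun c hc' d hd => fconj ch v (fU v (hUl v hv)) c hc' d hd.2)
  have hEC : P.F.ker ⊓ centralizer ({x} : Set (Cz s)) = E := by
    have hle : E ≤ P.F.ker ⊓ centralizer ({x} : Set (Cz s)) := fun d hd => ⟨hDK cg hd.1,
      mem_centralizer_singleton_iff.mpr (fxE x h282 d hd).symm⟩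
    exact (eq_of_le_of_card_ge hle (by rw [P.card_fix_three hx hw hxw]; exact hE)).symm
  -- the conjugate involution
  set t := tw g hts with htd
  have htD : t ∈ D := ⟨P.tw_mem_ker hts hx hgx, P.t_mem_QT g⟩
  have htE : t ∈ E := hEC ▸ ⟨P.tw_mem_ker hts hx hgx, mem_centralizer_singleton_iff.mpr (P.tw_comm hts hgx).eq⟩
  have fr : Fix r (zpowers t) := fun c hc' d hd => fU r (hUl r hr) c hc' d (zpowers_le.mpr htD hd)
  have fr' : Fix (gT * r' * gT⁻¹) (zpowers t) := fun c hc' d hd => by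
    rw [← hcg] at hc'
    exact fconj cg r' (fU r' (hUl r' hr')) c hc' d (zpowers_le.mpr htE hd).1
  have fx : Fix (mkT 282) (zpowers t) := fun c hc' d hd => fxE c hc' d (zpowers_le.mpr htE hd)
  obtain ⟨e, he7, he1, fe⟩ : ∃ e : T, e ^ 7 = 1 ∧ e ≠ 1 ∧ Fix e (zpowers t) := by
    rcases hseven with ⟨h1, h2⟩ | ⟨h1, h2⟩
    · exact ⟨_, h1, h2, fmul _ _ _ (fmul _ _ _ fr fr') fx⟩
    · exact ⟨_, h1, h2, fmul _ _ _ (fmul _ _ _ fr fx) fr'⟩
  obtain ⟨c0, hc0⟩ := P.surj e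
  have hk7 : c0 ^ 7 ∈ P.F.ker := by rw [MonoidHom.mem_ker, map_pow, hc0, he7]
  have h128 : (c0 ^ 7) ^ 128 = 1 := orderOf_dvd_iff_pow_eq_one.mp (P.ker_order _ hk7)
  set v7 := c0 ^ 128 with hv7
  have ho : orderOf v7 = 7 := by
    refine orderOf_eq_prime (hp := ⟨by norm_num⟩) (by rw [hv7, ← pow_mul, mul_comm, pow_mul, h128]) fun h => ?_
    have hF : e ^ 128 = 1 := by rw [← hc0, ← map_pow, ← hv7, h, map_one]
    rw [show 128 = 7 * 18 + 2 from rfl, pow_add, pow_mul, he7, one_pow, one_mul] at hF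
    refine he1 ?_
    have h7 : e ^ (2 * 3 + 1) = 1 := he7
    rwa [pow_add, pow_mul, hF, one_pow, one_mul, pow_one] at h7
  have htc : Commute t v7 := (show Commute t c0 from (fe c0 hc0 t (mem_zpowers t)).symm).pow_right 128
  rcases P.fixed_seven ho (P.tw_mem_ker hts hx hgx) htc with h | h
  · exact P.tw_ne_one g hts h
  · exact htne (congrArg Subtype.val h)

/-- The kernel is not commutative. -/
theorem nonabelian (hc : Ctx G) {w x : Cz s} (hw : orderOf w = 7) (hx : orderOf x = 3)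
    (hxw : x * w * x⁻¹ = w ^ 2) : ∃ p ∈ P.F.ker, ∃ q ∈ P.F.ker, p * q ≠ q * p := by
  obtain ⟨h3, h1⟩ := P.F_three hx
  obtain ⟨c, hcx⟩ := CfsgLib.Order168Model.conj_three (P.F x) (by rw [pow_succ, pow_two, h3]) h1
  have := (P.twist c).nonabelian_aux hc hw hx hxw hcx
  rwa [P.twist_ker] at this

end Pk

end CfsgM24Det
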