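/-
The kernel is extraspecial.
-/
import Cfsg.Agent.Lib.M24Det.Kernel
import Cfsg.Agent.Lib.M24Det.ClassTwo

set_option autoImplicit false
set_option linter.style.haveILetI false
set_option linter.unusedSectionVars false

namespace CfsgM24Det

open Subgroup CfsgLib.SameOrderCounts
open CfsgLib.Order168Model (T)
open scoped Pointwise

/-- Half of a subgroup commutes with an element, when commutators are confined to a central involution. -/
theorem half_comm {K : Type*} [Group K] [Finite K] {z q : K} (hz : ∀ a, Commute z a) (hz2 : z * z = 1) (hz1 : z ≠ 1)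
    (H : Subgroup K) (h : ∀ a ∈ H, a * q = q * a ∨ a * q = z * (q * a)) {a0 : K} (ha0 : a0 ∈ H)
    (hne : a0 * q ≠ q * a0) : 2 * Nat.card {a : H // (a : K) * q = q * a} = Nat.card H := by
  classical
  have h0 : a0 * q = z * (q * a0) := (h a0 ha0).resolve_left hne
  have key : ∀ a : H, ((a : K) * a0 * q = q * ((a : K) * a0)) ↔ ¬ ((a : K) * q = q * a) := by
    intro a
    have e : (a : K) * a0 * q = z * ((a : K) * q) * a0 := by
      rw [mul_assoc, h0, ← mul_assoc, ← (hz (a : K)).eq]; group
    constructor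
    · intro h1 h2
      rw [e, h2] at h1
      refine hz1 (mul_right_cancel (b := q * ((a : K) * a0)) ?_)
      rw [one_mul]
      calc z * (q * ((a : K) * a0)) = z * (q * (a : K)) * a0 := by group
        _ = q * ((a : K) * a0) := h1
    · intro h2
      rw [e, (h a a.2).resolve_left h2, ← mul_assoc z z, hz2, one_mul, mul_assoc]
  let e : {a : H // (a : K) * q = q * a} ≃ {a : H // ¬ ((a : K) * q = q * a)} :=
    (Equiv.subtypeEquiv (Equiv.mulRight (⟨a0, ha0⟩ : H)) fun a => by
      show (¬ (a : K) * q = q * a) ↔ (((a * ⟨a0, ha0⟩ : H) : K)) * q = q * ((a * ⟨a0, ha0⟩ : H) : K)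
      exact (key a).symm).symm
  rw [← Nat.card_congr (Equiv.sumCompl fun a : H => (a : K) * q = q * a), Nat.card_sum, ← Nat.card_congr e]
  ring

variable {G : Type*} [Group G] [Finite G] {s : G}

/-- The factor map by the involution. -/
def bar (s : G) : Cz s →* Cz s ⧸ zpowers (zC s) := QuotientGroup.mk' _

namespace Pk

variable (P : Pk s)
include P

/-- The kernel modulo the involution. -/
def Qb : Subgroup (Cz s ⧸ zpowers (zC s)) := P.F.ker.map (bar s)

theorem qb_normal : P.Qb.Normal := Normal.map inferInstance _ (QuotientGroup.mk'_surjective _)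

theorem bar_one {a : Cz s} : bar s a = 1 ↔ a = 1 ∨ a = zC s := by
  refine (QuotientGroup.eq_one_iff a).trans ⟨P.mem_zpow a, ?_⟩
  rintro (rfl | rfl)
  · exact one_mem _
  · exact mem_zpowers _

theorem bar_eq {a b : Cz s} (h : bar s a = bar s b) : b = a ∨ b = a * zC s := by
  rcases P.bar_one.mp (show bar s (a⁻¹ * b) = 1 by rw [map_mul, map_inv, h, inv_mul_cancel]) with e | e
  · exact Or.inl (inv_mul_eq_one.mp e).symm
  · exact Or.inr (inv_mul_eq_iff_eq_mul.mp e)

theorem card_comap (M : Subgroup (Cz s ⧸ zpowers (zC s))) : Nat.card (M.comap (bar s)) = 2 * Nat.card M := by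
  rw [show Nat.card (M.comap (bar s)) = Nat.card (zpowers (zC s)) * Nat.card M from
    QuotientGroup.card_preimage_mk (zpowers (zC s)) (M : Set (Cz s ⧸ zpowers (zC s))), Nat.card_zpowers, P.ord_z]

theorem comap_Qb : P.Qb.comap (bar s) = P.F.ker := by
  rw [Qb, bar, comap_map_eq, QuotientGroup.ker_mk', sup_eq_left.mpr (zpowers_le.mpr P.z_mem)]

theorem card_Qb : Nat.card P.Qb = 64 := by
  have h := P.card_comap P.Qb
  rw [P.comap_Qb, P.cardQ] at h
  omega

theorem lift_comm {u q : Cz s} {p : ℕ} (hu : orderOf u = p) (hp : Nat.Coprime 2 p)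
    (h : bar s u * bar s q = bar s q * bar s u) : Commute u q := by
  rcases P.bar_eq (a := q) (b := u * q * u⁻¹)
    (by rw [map_mul, map_mul, map_inv, h, mul_inv_cancel_right]) with e | e
  · exact mul_inv_eq_iff_eq_mul.mp e
  · exact (P.comm_of_mod hu hp e).elim

theorem bar_fpf {w : Cz s} (hw : orderOf w = 7) :
    ∀ v ∈ P.Qb, bar s w * v = v * bar s w → v = 1 := by
  rintro _ ⟨q, hq, rfl⟩ h
  exact P.bar_one.mpr (P.fixed_seven hw hq (P.lift_comm hw (by norm_num) h).symm)

theorem orderOf_bar {u : Cz s} {p : ℕ} [hp : Fact p.Prime] (hu : orderOf u = p) (hp2 : p ≠ 2) :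
    orderOf (bar s u) = p := by
  refine orderOf_eq_prime (by rw [← map_pow, ← hu, pow_orderOf_eq_one, map_one]) fun e => ?_
  rcases P.bar_one.mp e with h | h <;> rw [h] at hu
  · rw [orderOf_one] at hu; exact hp.out.ne_one hu.symm
  · rw [P.ord_z] at hu; exact hp2 hu.symm

theorem card_fix_bar {x w : Cz s} (hx : orderOf x = 3) (hw : orderOf w = 7) (hxw : x * w * x⁻¹ = w ^ 2) :
    Nat.card ↥(P.Qb ⊓ centralizer ({bar s x} : Set (Cz s ⧸ zpowers (zC s)))) = 4 := by
  have h := P.card_comap (P.Qb ⊓ centralizer ({bar s x} : Set (Cz s ⧸ zpowers (zC s))))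
  have e : (P.Qb ⊓ centralizer ({bar s x} : Set (Cz s ⧸ zpowers (zC s)))).comap (bar s) =
      P.F.ker ⊓ centralizer ({x} : Set (Cz s)) := by
    rw [comap_inf, P.comap_Qb]
    ext q
    refine and_congr_right fun _ => ?_
    show bar s q ∈ centralizer _ ↔ q ∈ centralizer _
    rw [mem_centralizer_singleton_iff, mem_centralizer_singleton_iff]
    refine ⟨fun hq => (P.lift_comm hx (by norm_num) hq.symm).symm.eq, fun hq => ?_⟩
    rw [← map_mul, ← map_mul, hq]
  rw [e, P.card_fix_three hx hw hxw] at h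
  omega

theorem card_invariant {w : Cz s} (hw : orderOf w = 7) (N : Subgroup (Cz s)) [N.Normal] (hN : N ≤ P.F.ker)
    (hz : zC s ∈ N) : Nat.card N = 2 ∨ Nat.card N = 16 ∨ Nat.card N = 128 := by
  haveI : Fact (Nat.Prime 7) := ⟨by norm_num⟩
  have hm := fix_mod N hw
  have h1 : N ⊓ centralizer ({w} : Set (Cz s)) = zpowers (zC s) := by
    refine le_antisymm (fun q hq => ?_) (zpowers_le.mpr ⟨hz, mem_centralizer_singleton_iff.mpr (zC_comm w).eq⟩)
    rcases P.fixed_seven hw (hN hq.1) (mem_centralizer_singleton_iff.mp hq.2) with e | e <;> rw [e]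
    · exact one_mem _
    · exact mem_zpowers _
  rw [h1, Nat.card_zpowers, P.ord_z, Nat.ModEq] at hm
  obtain ⟨k, hk, e⟩ := (Nat.dvd_prime_pow Nat.prime_two).mp
    (show Nat.card N ∣ 2 ^ 7 by have := card_dvd_of_le hN; rwa [P.cardQ] at this)
  rw [e] at hm ⊢
  interval_cases k <;> omega

theorem qb_comm {w x : Cz s} (hw : orderOf w = 7) (hx : orderOf x = 3) (hxw : x * w * x⁻¹ = w ^ 2) :
    ∀ u ∈ P.Qb, ∀ v ∈ P.Qb, u * v = v * u := by
  classical
  haveI := P.qb_normal
  haveI : Fact (Nat.Prime 7) := ⟨by norm_num⟩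
  haveI : Fact (Nat.Prime 3) := ⟨Nat.prime_three⟩
  set W := P.Qb ⊓ centralizer (P.Qb : Set (Cz s ⧸ zpowers (zC s))) with hWd
  haveI : W.Normal := inferInstance
  haveI : (W.comap (bar s)).Normal := Normal.comap inferInstance _
  have hWle : W.comap (bar s) ≤ P.F.ker := fun q hq => P.comap_Qb ▸ hq.1
  have hcase := P.card_invariant hw (W.comap (bar s)) hWle (by
    show bar s (zC s) ∈ W
    rw [P.bar_one.mpr (Or.inr rfl)]; exact one_mem _)
  rw [P.card_comap] at hcase
  rcases hcase with h | h | h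
  · exfalso
    have hp : IsPGroup 2 P.Qb := IsPGroup.of_card (n := 6) (by rw [P.card_Qb]; norm_num)
    haveI : Nontrivial P.Qb := Finite.one_lt_card_iff_nontrivial.mp (by rw [P.card_Qb]; norm_num)
    haveI := hp.center_nontrivial
    have hinj := Nat.card_le_card_of_injective (fun c : center P.Qb => (⟨((c : P.Qb) : Cz s ⧸ zpowers (zC s)),
      (c : P.Qb).2, mem_centralizer_iff.mpr fun u hu => congrArg Subtype.val (mem_center_iff.mp c.2 ⟨u, hu⟩)⟩ : W))
      fun a b e => Subtype.ext (Subtype.ext (congrArg Subtype.val e :))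
    have := Finite.one_lt_card (α := center P.Qb)
    omega
  · exfalso
    have hK : Nat.card (Cz s ⧸ zpowers (zC s)) = 10752 := by
      have := card_eq_card_quotient_mul_card_subgroup (zpowers (zC s))
      rw [P.cardC, Nat.card_zpowers, P.ord_z] at this
      omega
    have hwb := P.orderOf_bar hw (by norm_num)
    have hW8 : Nat.card W = 8 := by omega
    refine no_class_two hK P.Qb W inf_le_left P.card_Qb hW8 ?_ hwb (P.bar_fpf hw) (P.orderOf_bar hx (by norm_num))
      (P.card_fix_bar hx hw hxw) ?_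
    · intro v hv
      exact ⟨fun h => ⟨hv, mem_centralizer_iff.mpr fun u hu => (h u hu).symm⟩,
        fun h u hu => (mem_centralizer_iff.mp h.2 u hu).symm⟩
    · intro c hcW
      set M := centralizer (W : Set (Cz s ⧸ zpowers (zC s)))
      haveI : (M.comap (bar s)).Normal := Normal.comap inferInstance _
      haveI : ((M.comap (bar s)).map P.F).Normal := Normal.map inferInstance _ P.surj
      haveI := CfsgLib.Order168Model.isSimpleGroup
      rcases (inferInstance : ((M.comap (bar s)).map P.F).Normal).eq_bot_or_eq_top with hb | ht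
      · obtain ⟨c', rfl⟩ := QuotientGroup.mk'_surjective (zpowers (zC s)) c
        refine mem_map_of_mem _ (MonoidHom.mem_ker.mpr (Subgroup.mem_bot.mp (hb ▸ mem_map_of_mem P.F ?_)))
        exact mem_centralizer_iff.mpr fun a ha => (hcW a ha).symm
      · exfalso
        obtain ⟨m, hm, hFm⟩ : P.F w ∈ (M.comap (bar s)).map P.F := ht ▸ mem_top _
        have hk : m⁻¹ * w ∈ P.F.ker := by rw [MonoidHom.mem_ker, map_mul, map_inv, hFm, inv_mul_cancel]
        have hwM : bar s w ∈ M := by
          rw [show w = m * (m⁻¹ * w) by group, map_mul]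
          refine mul_mem hm (mem_centralizer_iff.mpr fun a ha => ?_)
          exact ((mem_centralizer_iff.mp ha.2) _ (mem_map_of_mem _ hk)).symm
        obtain ⟨⟨a, ha⟩, ha1⟩ := (ne_bot_iff_exists_ne_one (H := W)).mp fun e => by rw [e, card_bot] at hW8; omega
        exact ha1 (Subtype.ext (P.bar_fpf hw a ha.1 (mem_centralizer_iff.mp hwM a ha).symm))
  · intro u hu v hv
    have heq : W = P.Qb := eq_of_le_of_card_ge inf_le_left (by rw [P.card_Qb]; omega)
    exact mem_centralizer_iff.mp (heq.symm ▸ hv : v ∈ W).2 u hu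

end Pk

/-- The kernel is extraspecial. -/
structure Pk.Es (P : Pk s) : Prop where
  comm : ∀ p ∈ P.F.ker, ∀ q ∈ P.F.ker, p * q = q * p ∨ p * q = zC s * (q * p)
  sq : ∀ q ∈ P.F.ker, q * q = 1 ∨ q * q = zC s
  center : ∀ q ∈ P.F.ker, (∀ p ∈ P.F.ker, q * p = p * q) → q = 1 ∨ q = zC s

namespace Pk

variable (P : Pk s)
include P

theorem z_sq : zC s * zC s = 1 := by rw [← pow_two, ← P.ord_z, pow_orderOf_eq_one]

theorem z_ne_one : zC s ≠ 1 := fun e => by
  have := P.ord_z
  rw [e, orderOf_one] at this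
  omega

theorem es (hc : Ctx G) {w x : Cz s} (hw : orderOf w = 7) (hx : orderOf x = 3) (hxw : x * w * x⁻¹ = w ^ 2) :
    P.Es := by
  classical
  have hcomm : ∀ p ∈ P.F.ker, ∀ q ∈ P.F.ker, p * q = q * p ∨ p * q = zC s * (q * p) := by
    intro p hp q hq
    rcases P.bar_eq (a := q * p) (b := p * q) (by
      rw [map_mul, map_mul]
      exact P.qb_comm hw hx hxw _ (mem_map_of_mem _ hq) _ (mem_map_of_mem _ hp)) with e | e
    · exact Or.inl e
    · exact Or.inr (by rw [e]; exact (zC_comm (q * p)).symm.eq)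
  set Z := P.F.ker ⊓ centralizer (P.F.ker : Set (Cz s)) with hZd
  haveI : Z.Normal := inferInstance
  have hmemZ : ∀ {q}, q ∈ P.F.ker → (q ∈ Z ↔ ∀ p ∈ P.F.ker, q * p = p * q) := fun hq =>
    ⟨fun h p hp => (mem_centralizer_iff.mp h.2 p hp).symm,
      fun h => ⟨hq, mem_centralizer_iff.mpr fun p hp => (h p hp).symm⟩⟩
  have hzZ : zC s ∈ Z := (hmemZ P.z_mem).mpr fun p _ => (zC_comm p).eq
  have hsqZ : ∀ q ∈ P.F.ker, q * q ∈ Z := by
    intro q hq
    refine (hmemZ (mul_mem hq hq)).mpr fun p hp => ?_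
    rcases hcomm q hq p hp with e | e
    · rw [mul_assoc, e, ← mul_assoc, e, mul_assoc]
    · calc q * q * p = q * (q * p) := mul_assoc _ _ _
        _ = q * (zC s * (p * q)) := by rw [e]
        _ = zC s * (q * p) * q := by rw [← mul_assoc, ← (zC_comm q).eq]; group
        _ = zC s * (zC s * (p * q)) * q := by rw [e]
        _ = p * (q * q) := by rw [← mul_assoc, P.z_sq]; group
  have hZ2 : Nat.card Z = 2 := by
    rcases P.card_invariant hw Z inf_le_left hzZ with h | h | h
    · exact h
    · exfalso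
      obtain ⟨v, hv, hvZ⟩ : ∃ v ∈ P.F.ker, v ∉ Z := by
        by_contra hcon
        push Not at hcon
        have := card_dvd_of_le (show P.F.ker ≤ Z from hcon)
        rw [h, P.cardQ] at this
        norm_num at this
      have h64 : ∀ u ∈ P.F.ker, u ∉ Z → Nat.card ↥(P.F.ker ⊓ centralizer ({u} : Set (Cz s))) = 64 := by
        intro u hu huZ
        obtain ⟨a0, ha0, hne⟩ : ∃ a0 ∈ P.F.ker, a0 * u ≠ u * a0 := by
          by_contra hcon
          push Not at hcon
          exact huZ ((hmemZ hu).mpr fun p hp => (hcon p hp).symm)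
        have h2 := half_comm (fun a => zC_comm a) P.z_sq P.z_ne_one P.F.ker (fun a ha => hcomm a ha u hu) ha0 hne
        rw [P.cardQ] at h2
        rw [Nat.card_congr (show ↥(P.F.ker ⊓ centralizer ({u} : Set (Cz s))) ≃
          {a : P.F.ker // (a : Cz s) * u = u * a} from
          { toFun := fun a => ⟨⟨a, a.2.1⟩, mem_centralizer_singleton_iff.mp a.2.2⟩
            invFun := fun a => ⟨a.1, a.1.2, mem_centralizer_singleton_iff.mpr a.2⟩
            left_inv := fun a => rfl
            right_inv := fun a => rfl })]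
        omega
      set A := P.F.ker ⊓ centralizer ({v} : Set (Cz s)) with hA
      set B := Z ⊔ zpowers v with hB
      have hBA : B ≤ A := sup_le (fun a ha => ⟨ha.1, mem_centralizer_singleton_iff.mpr ((hmemZ ha.1).mp ha v hv)⟩)
        (zpowers_le.mpr ⟨hv, mem_centralizer_singleton_iff.mpr rfl⟩)
      have hB32 : Nat.card B ≤ 32 := by
        have hmem : ∀ b : B, (b : Cz s) ∈ Z ∨ v⁻¹ * (b : Cz s) ∈ Z := by
          rintro ⟨b, hb⟩
          rw [hB, sup_comm, mem_sup_of_normal_right] at hb
          obtain ⟨p, hp, c, hc', rfl⟩ := hb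
          obtain ⟨i, rfl⟩ := mem_zpowers_iff.mp hp
          have hv2 : v * v ∈ Z := hsqZ v hv
          rcases Int.even_or_odd i with ⟨k, rfl⟩ | ⟨k, rfl⟩
          · refine Or.inl (mul_mem ?_ hc')
            rw [show k + k = 2 * k by ring, zpow_mul, zpow_two]
            exact zpow_mem hv2 k
          · refine Or.inr ?_
            show v⁻¹ * (v ^ (2 * k + 1) * c) ∈ Z
            rw [add_comm, zpow_add, zpow_one, zpow_mul, zpow_two, mul_assoc, inv_mul_cancel_left]
            exact mul_mem (zpow_mem hv2 k) hc'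
        have := Nat.card_le_card_of_injective (fun b : B => if h : (b : Cz s) ∈ Z then (true, (⟨b, h⟩ : Z))
          else (false, (⟨v⁻¹ * (b : Cz s), (hmem b).resolve_left h⟩ : Z))) (fun b b' e => by
            simp only at e
            split at e <;> split at e <;> simp at e
            · exact e
            · exact e)
        rw [Nat.card_prod, Nat.card_eq_fintype_card (α := Bool), Fintype.card_bool, h] at this
        omega
      obtain ⟨u, huA, huB⟩ : ∃ u ∈ A, u ∉ B := by
        by_contra hcon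
        push Not at hcon
        have := Nat.le_of_dvd Nat.card_pos (card_dvd_of_le (show A ≤ B from hcon))
        rw [h64 v hv hvZ] at this
        omega
      obtain ⟨hu, huv0⟩ := huA
      have huv : u * v = v * u := mem_centralizer_singleton_iff.mp huv0
      have huZ : u ∉ Z := fun hh => huB (mem_sup_left hh)
      set L := B ⊔ zpowers u with hL
      have hLA : L ≤ A := sup_le hBA (zpowers_le.mpr ⟨hu, mem_centralizer_singleton_iff.mpr huv⟩)
      have hLC : L ≤ P.F.ker ⊓ centralizer ({u} : Set (Cz s)) := sup_le (sup_le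
        (fun a ha => ⟨ha.1, mem_centralizer_singleton_iff.mpr ((hmemZ ha.1).mp ha u hu)⟩)
        (zpowers_le.mpr ⟨hv, mem_centralizer_singleton_iff.mpr huv.symm⟩))
        (zpowers_le.mpr ⟨hu, mem_centralizer_singleton_iff.mpr rfl⟩)
      have hL64 : 64 ≤ Nat.card L := by
        have h1 : Nat.card B ∣ Nat.card L := card_dvd_of_le le_sup_left
        have h2 : Nat.card L ∣ 2 ^ 6 := by
          have := card_dvd_of_le hLA
          rw [h64 v hv hvZ] at this
          exact this
        have h3 : 32 ≤ Nat.card B := by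
          have h5 : Nat.card Z ∣ Nat.card B := card_dvd_of_le le_sup_left
          have h6 : Nat.card Z ≠ Nat.card B := fun e => hvZ (eq_of_le_of_card_ge (le_sup_left : Z ≤ B) e.ge ▸
            (mem_sup_right (mem_zpowers v) : v ∈ B))
          obtain ⟨m, hm⟩ := h5
          rw [h] at hm h6
          have hpos : 0 < Nat.card B := Nat.card_pos
          rcases Nat.lt_or_ge m 2 with hm2 | hm2
          · interval_cases m <;> omega
          · omega
        have h4 : Nat.card B ≠ Nat.card L := fun e => huB (eq_of_le_of_card_ge (le_sup_left : B ≤ L) e.ge ▸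
          (mem_sup_right (mem_zpowers u) : u ∈ L))
        obtain ⟨m, hm⟩ := h1
        have hpos : 0 < Nat.card L := Nat.card_pos
        rcases Nat.lt_or_ge m 2 with hm2 | hm2
        · interval_cases m <;> omega
        · have := Nat.mul_le_mul_left (Nat.card B) hm2
          omega
      have e1 : L = A := eq_of_le_of_card_ge hLA (by rw [h64 v hv hvZ]; exact hL64)
      have e2 : L = P.F.ker ⊓ centralizer ({u} : Set (Cz s)) :=
        eq_of_le_of_card_ge hLC (by rw [h64 u hu huZ]; exact hL64)
      have huvZ : u * v ∈ Z := by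
        refine (hmemZ (mul_mem hu hv)).mpr fun p hp => ?_
        rcases hcomm v hv p hp with e | e
        · have hpu : p ∈ P.F.ker ⊓ centralizer ({u} : Set (Cz s)) :=
            e2 ▸ e1.symm ▸ (⟨hp, mem_centralizer_singleton_iff.mpr e.symm⟩ : p ∈ A)
          rw [mul_assoc, e, ← mul_assoc, ← mem_centralizer_singleton_iff.mp hpu.2, mul_assoc]
        · have hpu : ¬ u * p = p * u := fun h' => by
            have hpA : p ∈ A := e1 ▸ e2.symm ▸
              (⟨hp, mem_centralizer_singleton_iff.mpr h'.symm⟩ : p ∈ P.F.ker ⊓ centralizer ({u} : Set (Cz s)))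
            rw [← mem_centralizer_singleton_iff.mp hpA.2] at e
            exact P.z_ne_one (mul_right_cancel (b := p * v) (by rw [one_mul]; exact e.symm))
          have e' := (hcomm u hu p hp).resolve_left hpu
          calc u * v * p = u * (v * p) := mul_assoc _ _ _
            _ = u * (zC s * (p * v)) := by rw [e]
            _ = zC s * (u * p) * v := by rw [← mul_assoc, ← (zC_comm u).eq]; group
            _ = zC s * (zC s * (p * u)) * v := by rw [e']
            _ = p * (u * v) := by rw [← mul_assoc, P.z_sq]; group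
      refine huB ?_
      rw [show u = (u * v) * v⁻¹ by group]
      exact mul_mem (mem_sup_left huvZ) (inv_mem (mem_sup_right (mem_zpowers v)))
    · exfalso
      obtain ⟨p, hp, q, hq, hpq⟩ := P.nonabelian hc hw hx hxw
      have heq : Z = P.F.ker := eq_of_le_of_card_ge inf_le_left (by rw [h, P.cardQ])
      exact hpq ((hmemZ hp).mp (heq.symm ▸ hp) q hq)
  have hZeq : zpowers (zC s) = Z := eq_of_le_of_card_ge (zpowers_le.mpr hzZ) (by
    rw [Nat.card_zpowers, P.ord_z, hZ2])
  exact ⟨hcomm, fun q hq => P.mem_zpow _ (hZeq ▸ hsqZ q hq),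
    fun q hq h => P.mem_zpow _ (hZeq ▸ (hmemZ hq).mpr h)⟩

variable {P}

/-- Orders of a subgroup and of its centraliser in the kernel. -/
theorem Es.cent_mul (E : P.Es) {H : Subgroup (Cz s)} (hH : H ≤ P.F.ker) (hz : zC s ∈ H) :
    Nat.card ↥(P.F.ker ⊓ centralizer (H : Set (Cz s))) * Nat.card H = 256 := by
  classical
  haveI := Fintype.ofFinite (Cz s)
  set C := P.F.ker ⊓ centralizer (H : Set (Cz s)) with hC
  let S := {p : H × P.F.ker // (p.1 : Cz s) * (p.2 : Cz s) = (p.2 : Cz s) * (p.1 : Cz s)}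
  have hrow : Nat.card S = ∑ h : H, (64 + if (h : Cz s) = 1 ∨ (h : Cz s) = zC s then 64 else 0) := by
    rw [Nat.card_congr (Equiv.subtypeProdEquivSigmaSubtype
      fun (h : H) (q : P.F.ker) => (h : Cz s) * (q : Cz s) = (q : Cz s) * (h : Cz s)), Nat.card_sigma]
    refine Finset.sum_congr rfl fun h _ => ?_
    split_ifs with hh
    · have hcongr : ∀ q : P.F.ker, (h : Cz s) * (q : Cz s) = (q : Cz s) * (h : Cz s) := fun q => by
        rcases hh with e | e <;> rw [e]
        · simp
        · exact (zC_comm _).eq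
      rw [Nat.card_congr (Equiv.subtypeUnivEquiv hcongr), P.cardQ]
    · have hhk := hH h.2
      obtain ⟨a0, ha0, hne⟩ : ∃ a0 ∈ P.F.ker, a0 * (h : Cz s) ≠ (h : Cz s) * a0 := by
        by_contra hcon
        push Not at hcon
        exact hh (E.center _ hhk fun p hp => (hcon p hp).symm)
      have h2 := half_comm (fun a => zC_comm a) P.z_sq P.z_ne_one P.F.ker (fun a ha => E.comm a ha _ hhk) ha0 hne
      rw [P.cardQ] at h2
      rw [Nat.card_congr (Equiv.subtypeEquivRight fun q : P.F.ker =>
        (⟨fun e => e.symm, fun e => e.symm⟩ : _ ↔ (q : Cz s) * (h : Cz s) = (h : Cz s) * (q : Cz s)))]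
      omega
  have hcol : 2 * Nat.card S = ∑ q : P.F.ker, (Nat.card H + if (q : Cz s) ∈ C then Nat.card H else 0) := by
    rw [show Nat.card S = Nat.card {p : P.F.ker × H // (p.2 : Cz s) * (p.1 : Cz s) = (p.1 : Cz s) * (p.2 : Cz s)} from
      Nat.card_congr (Equiv.subtypeEquiv (Equiv.prodComm _ _) fun p => Iff.rfl),
      Nat.card_congr (Equiv.subtypeProdEquivSigmaSubtype
        fun (q : P.F.ker) (h : H) => (h : Cz s) * (q : Cz s) = (q : Cz s) * (h : Cz s)), Nat.card_sigma, Finset.mul_sum]
    refine Finset.sum_congr rfl fun q _ => ?_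
    split_ifs with hq
    · have hcongr : ∀ h : H, (h : Cz s) * (q : Cz s) = (q : Cz s) * (h : Cz s) := fun h =>
        mem_centralizer_iff.mp hq.2 h h.2
      rw [Nat.card_congr (Equiv.subtypeUnivEquiv hcongr)]
      ring
    · obtain ⟨a0, ha0, hne⟩ : ∃ a0 ∈ H, a0 * (q : Cz s) ≠ (q : Cz s) * a0 := by
        by_contra hcon
        push Not at hcon
        exact hq ⟨q.2, mem_centralizer_iff.mpr hcon⟩
      rw [half_comm (fun a => zC_comm a) P.z_sq P.z_ne_one H (fun a ha => E.comm a (hH ha) _ q.2) ha0 hne, add_zero]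
  rw [Finset.sum_add_distrib, Finset.sum_const, Finset.card_univ, ← Finset.sum_filter, Finset.sum_const,
    ← Nat.card_eq_fintype_card, smul_eq_mul, smul_eq_mul] at hrow hcol
  have h2 : (Finset.univ.filter fun h : H => (h : Cz s) = 1 ∨ (h : Cz s) = zC s).card = 2 := by
    rw [show (Finset.univ.filter fun h : H => (h : Cz s) = 1 ∨ (h : Cz s) = zC s) = {1, ⟨zC s, hz⟩} by
      ext h
      simp only [Finset.mem_filter, Finset.mem_univ, true_and, Finset.mem_insert, Finset.mem_singleton,
        Subtype.ext_iff, OneMemClass.coe_one]]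
    rw [Finset.card_pair fun e => P.z_ne_one (congrArg Subtype.val e).symm]
  have hC' : (Finset.univ.filter fun q : P.F.ker => (q : Cz s) ∈ C).card = Nat.card C := by
    rw [← Fintype.card_subtype, ← Nat.card_eq_fintype_card]
    exact Nat.card_congr
      { toFun := fun q => ⟨q.1, q.2⟩
        invFun := fun c => ⟨⟨c, c.2.1⟩, c.2⟩
        left_inv := fun q => rfl
        right_inv := fun c => rfl }
  rw [h2] at hrow
  rw [hC', P.cardQ] at hcol
  have h1 : Nat.card H * (Nat.card C * 1) = Nat.card H * Nat.card C := by rw [mul_one]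
  nlinarith

/-- A commutative subgroup has order at most sixteen. -/
theorem Es.abelian_le (E : P.Es) {H : Subgroup (Cz s)} (hH : H ≤ P.F.ker) (hz : zC s ∈ H)
    (hab : ∀ a ∈ H, ∀ b ∈ H, a * b = b * a) : Nat.card H ≤ 16 := by
  have h1 := E.cent_mul hH hz
  have h2 : Nat.card H ≤ Nat.card ↥(P.F.ker ⊓ centralizer (H : Set (Cz s))) :=
    Nat.le_of_dvd Nat.card_pos (card_dvd_of_le fun a ha => ⟨hH ha, mem_centralizer_iff.mpr fun b hb => hab b hb a ha⟩)
  nlinarith

/-- The fixed points of the element of order three do not commute. -/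
theorem Es.fix_nonabelian (E : P.Es) {w x : Cz s} (hw : orderOf w = 7) (hx : orderOf x = 3)
    (hxw : x * w * x⁻¹ = w ^ 2) :
    ∀ a ∈ P.F.ker, Commute a x → a ≠ 1 → a ≠ zC s →
      ∃ b ∈ P.F.ker, Commute b x ∧ a * b ≠ b * a := by
  intro a ha hax ha1 haz
  by_contra hcon
  push Not at hcon
  refine (E.center a ha fun q hq => ?_).elim ha1 haz
  have hk : ∀ p ∈ P.F.ker, x * p * x⁻¹ ∈ P.F.ker := fun p hp => (inferInstance : P.F.ker.Normal).conj_mem p hp x
  set q1 := x * q * x⁻¹ with hq1
  set q2 := x * q1 * x⁻¹ with hq2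
  have hq1k := hk q hq
  have hq2k := hk q1 hq1k
  have h3 : x * q2 * x⁻¹ = q := by
    have e : x * x * x = 1 := by rw [← pow_three', ← hx, pow_orderOf_eq_one]
    rw [hq2, hq1, show x * (x * (x * q * x⁻¹) * x⁻¹) * x⁻¹ = (x * x * x) * q * (x * x * x)⁻¹ by group, e]
    group
  have hxconj : ∀ p, a * p = p * a ↔ a * (x * p * x⁻¹) = x * p * x⁻¹ * a := by
    intro p
    have h1 : x * (a * p) * x⁻¹ = a * (x * p * x⁻¹) := by
      rw [← mul_assoc, ← hax.eq]; group
    have h2 : x * (p * a) * x⁻¹ = x * p * x⁻¹ * a := by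
      calc x * (p * a) * x⁻¹ = x * p * x⁻¹ * ((x * a) * x⁻¹) := by group
        _ = x * p * x⁻¹ * a := by rw [← hax.eq, mul_inv_cancel_right]
    constructor
    · intro h; rw [← h1, h, h2]
    · intro h; exact mul_left_cancel (mul_right_cancel (h1.trans (h.trans h2.symm)))
  by_contra hne
  have hne1 : ¬ a * q1 = q1 * a := fun h => hne ((hxconj q).mpr h)
  have hne2 : ¬ a * q2 = q2 * a := fun h => hne1 ((hxconj q1).mpr h)
  have e0 := (E.comm a ha q hq).resolve_left hne
  have e1 := (E.comm a ha q1 hq1k).resolve_left hne1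
  have e2 := (E.comm a ha q2 hq2k).resolve_left hne2
  have hN : x * (q * q1 * q2) * x⁻¹ = q1 * q2 * q := by
    calc x * (q * q1 * q2) * x⁻¹ = (x * q * x⁻¹) * (x * q1 * x⁻¹) * (x * q2 * x⁻¹) := by group
      _ = q1 * q2 * q := by rw [← hq1, ← hq2, h3]
  have hzc := fun b => (zC_comm (s := s) b).eq
  have hfix : Commute (q * q1 * q2) x := by
    rcases E.comm q hq (q1 * q2) (mul_mem hq1k hq2k) with e | e
    · refine (mul_inv_eq_iff_eq_mul.mp ?_).symm
      rw [hN, ← e, ← mul_assoc]
    · refine (P.comm_of_mod (q := q * q1 * q2) hx (by norm_num) ?_).elim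
      rw [hN, mul_assoc q, e, ← hzc, ← mul_assoc (zC s) (zC s), P.z_sq, one_mul]
  have hz' : a * (q * q1 * q2) = zC s * ((q * q1 * q2) * a) := by
    calc a * (q * q1 * q2) = (a * q) * q1 * q2 := by group
      _ = zC s * q * (a * q1) * q2 := by rw [e0]; group
      _ = zC s * q * (zC s * (q1 * a)) * q2 := by rw [e1]
      _ = zC s * (q * zC s) * q1 * (a * q2) := by group
      _ = zC s * (zC s * q) * q1 * (zC s * (q2 * a)) := by rw [← hzc q, e2]
      _ = (zC s * zC s) * q * (q1 * zC s) * q2 * a := by group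
      _ = q * (zC s * q1) * q2 * a := by rw [P.z_sq, ← hzc q1, one_mul]
      _ = (q * zC s) * q1 * q2 * a := by group
      _ = zC s * ((q * q1 * q2) * a) := by rw [← hzc q]; group
  rw [hcon _ (mul_mem (mul_mem hq hq1k) hq2k) hfix] at hz'
  exact P.z_ne_one (mul_right_cancel (b := q * q1 * q2 * a) (by rw [one_mul]; exact hz'.symm))

end Pk

end CfsgM24Det
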