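/-
Every second conjugate has a small class and a witness outside the kernel.
-/
import Cfsg.Agent.Lib.M24Det.Extra

set_option autoImplicit false
set_option linter.style.haveILetI false
set_option linter.unusedSectionVars false
set_option maxRecDepth 20000

namespace CfsgM24Det

open Subgroup CfsgLib.SameOrderCounts
open CfsgLib.Order168Model (T mkT)
open scoped Pointwise

variable {G : Type*} [Group G] [Finite G] {s : G}

/-- What a second conjugate provides. -/
structure Pk.Second (P : Pk s) (t : Cz s) : Prop where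
  cls : Nat.card {v : Cz s // IsConj t v} ≤ 28
  wit : ∃ (D : Subgroup (Cz s)) (y : Cz s), y ∉ P.F.ker ∧ y * t = t * y ∧ (y * y = 1 ∨ y * y = t) ∧
    D ≤ P.F.ker ∧ (∀ d ∈ D, d * d = 1) ∧ (∀ q ∈ P.F.ker, (∀ d ∈ D, q * d = d * q) → q ∈ D) ∧
    ∀ d ∈ D, y * d * y⁻¹ * d⁻¹ = 1 ∨ y * d * y⁻¹ * d⁻¹ = t

namespace Pk

variable {P : Pk s}

theorem Es.card_cent (E : P.Es) {q : Cz s} (hq : q ∈ P.F.ker) (h1 : q ≠ 1) (hz : q ≠ zC s) :
    Nat.card ↥(P.F.ker ⊓ centralizer ({q} : Set (Cz s))) = 64 := by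
  obtain ⟨a0, ha0, hne⟩ : ∃ a0 ∈ P.F.ker, a0 * q ≠ q * a0 := by
    by_contra hcon
    push Not at hcon
    rcases E.center q hq (fun p hp => (hcon p hp).symm) with e | e
    · exact h1 e
    · exact hz e
  have h2 := half_comm (fun a => zC_comm a) P.z_sq P.z_ne_one P.F.ker (fun a ha => E.comm a ha q hq) ha0 hne
  rw [P.cardQ] at h2
  rw [Nat.card_congr (show ↥(P.F.ker ⊓ centralizer ({q} : Set (Cz s))) ≃
    {a : P.F.ker // (a : Cz s) * q = q * a} from
    { toFun := fun a => ⟨⟨a, a.2.1⟩, mem_centralizer_singleton_iff.mp a.2.2⟩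
      invFun := fun a => ⟨a.1, a.1.2, mem_centralizer_singleton_iff.mpr a.2⟩
      left_inv := fun a => rfl
      right_inv := fun a => rfl })]
  omega

set_option maxHeartbeats 1600000 in
theorem Es.second (E : P.Es) {x : Cz s} (hx : orderOf x = 3) {g : G}
    (hgx : Commute g (x : G)) (hts : Commute (g * s * g⁻¹) s) (htne : g * s * g⁻¹ ≠ s) :
    P.Second (tw g hts) := by
  classical
  haveI : Fact (Nat.Prime 2) := ⟨Nat.prime_two⟩
  have h' : Commute (g⁻¹ * s * g⁻¹⁻¹) s := by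
    show g⁻¹ * s * g⁻¹⁻¹ * s = s * (g⁻¹ * s * g⁻¹⁻¹)
    calc g⁻¹ * s * g⁻¹⁻¹ * s = g⁻¹ * (s * (g * s * g⁻¹)) * g := by group
      _ = g⁻¹ * ((g * s * g⁻¹) * s) * g := by rw [hts.eq]
      _ = s * (g⁻¹ * s * g⁻¹⁻¹) := by group
  set t := tw g hts with htd
  set u := tw g⁻¹ h' with hud
  have huQ : u ∈ P.F.ker := P.tw_mem_ker h' hx hgx.inv_left
  have hu1 : u ≠ 1 := P.tw_ne_one _ h'
  have huz : u ≠ zC s := fun e => htne (by
    have h0 : g⁻¹ * s * g⁻¹⁻¹ = s := congrArg Subtype.val e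
    rw [inv_inv] at h0
    conv_lhs => rw [← h0]
    group)
  have htQ : t ∈ P.F.ker := P.tw_mem_ker hts hx hgx
  have ht1 : t ≠ 1 := P.tw_ne_one _ hts
  have htz : t ≠ zC s := fun e => htne (congrArg Subtype.val e)
  have hxu : Commute x u := (P.tw_comm h' hgx.inv_left).symm
  set Hp := P.F.ker ⊓ centralizer ({u} : Set (Cz s)) with hHp
  have hHc : Nat.card Hp = 64 := E.card_cent huQ hu1 huz
  have hzH : zC s ∈ Hp := ⟨P.z_mem, mem_centralizer_singleton_iff.mpr (zC_comm u).eq⟩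
  have huH : u ∈ Hp := ⟨huQ, mem_centralizer_singleton_iff.mpr rfl⟩
  have hmem : ∀ q : Hp, g * ((q : Cz s) : G) * g⁻¹ ∈ centralizer ({s} : Set G) := by
    intro q
    have h1 : ((q : Cz s) : G) * (g⁻¹ * s * g⁻¹⁻¹) = (g⁻¹ * s * g⁻¹⁻¹) * ((q : Cz s) : G) :=
      congrArg Subtype.val (mem_centralizer_singleton_iff.mp q.2.2)
    rw [mem_centralizer_singleton_iff]
    calc g * ((q : Cz s) : G) * g⁻¹ * s = g * (((q : Cz s) : G) * (g⁻¹ * s * g⁻¹⁻¹)) * g⁻¹ := by group
      _ = g * ((g⁻¹ * s * g⁻¹⁻¹) * ((q : Cz s) : G)) * g⁻¹ := by rw [h1]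
      _ = s * (g * ((q : Cz s) : G) * g⁻¹) := by group
  let ψ : Hp →* Cz s := MonoidHom.mk' (fun q => ⟨g * ((q : Cz s) : G) * g⁻¹, hmem q⟩) fun a b =>
    Subtype.ext (by
      show g * (((a : Cz s) : G) * ((b : Cz s) : G)) * g⁻¹ =
        g * ((a : Cz s) : G) * g⁻¹ * (g * ((b : Cz s) : G) * g⁻¹)
      group)
  have hψ : Function.Injective ψ := fun a b e => by
    have e' : g * ((a : Cz s) : G) * g⁻¹ = g * ((b : Cz s) : G) * g⁻¹ := congrArg Subtype.val e
    exact Subtype.ext (Subtype.ext (mul_left_cancel (mul_right_cancel e')))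
  have hψz : ψ ⟨zC s, hzH⟩ = t := Subtype.ext rfl
  have hψu : ψ ⟨u, huH⟩ = zC s := Subtype.ext (show g * (g⁻¹ * s * g⁻¹⁻¹) * g⁻¹ = s by group)
  set R := ψ.range with hR
  have hRc : Nat.card R = 64 := by rw [hR, ← Nat.card_congr (MonoidHom.ofInjective hψ).toEquiv, hHc]
  have hRt : ∀ r ∈ R, r * t = t * r := by
    rintro _ ⟨q, rfl⟩
    rw [← hψz, ← map_mul, ← map_mul]
    exact congrArg ψ (Subtype.ext (zC_comm (q : Cz s)).symm.eq)
  have hRsq : ∀ r ∈ R, r * r = 1 ∨ r * r = t := by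
    rintro _ ⟨q, rfl⟩
    rcases E.sq q q.2.1 with e | e
    · exact Or.inl (by rw [← map_mul, show q * q = 1 from Subtype.ext e, map_one])
    · exact Or.inr (by rw [← map_mul, show q * q = ⟨zC s, hzH⟩ from Subtype.ext e, hψz])
  have hRcm : ∀ a ∈ R, ∀ b ∈ R, a * b = b * a ∨ a * b = t * (b * a) := by
    rintro _ ⟨p, rfl⟩ _ ⟨q, rfl⟩
    rcases E.comm p p.2.1 q q.2.1 with e | e
    · exact Or.inl (by rw [← map_mul, ← map_mul]; exact congrArg ψ (Subtype.ext e))
    · exact Or.inr (by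
        rw [← hψz, ← map_mul, ← map_mul, ← map_mul]
        exact congrArg ψ (Subtype.ext e))
  have hRx : ∀ r ∈ R, x * r * x⁻¹ ∈ R := by
    rintro _ ⟨q, rfl⟩
    have hmemq : x * (q : Cz s) * x⁻¹ ∈ Hp := by
      refine ⟨(inferInstance : P.F.ker.Normal).conj_mem _ q.2.1 x, mem_centralizer_singleton_iff.mpr ?_⟩
      have h1 : (q : Cz s) * u = u * (q : Cz s) := mem_centralizer_singleton_iff.mp q.2.2
      calc x * (q : Cz s) * x⁻¹ * u = x * ((q : Cz s) * (x⁻¹ * u * x)) * x⁻¹ := by group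
        _ = x * ((q : Cz s) * u) * x⁻¹ := by rw [mul_assoc x⁻¹, hxu.symm.eq, inv_mul_cancel_left]
        _ = (x * u) * (q : Cz s) * x⁻¹ := by rw [h1]; group
        _ = u * (x * (q : Cz s) * x⁻¹) := by rw [hxu.eq]; group
    refine ⟨⟨_, hmemq⟩, Subtype.ext ?_⟩
    show g * ((x : G) * ((q : Cz s) : G) * (x : G)⁻¹) * g⁻¹ = (x : G) * (g * ((q : Cz s) : G) * g⁻¹) * (x : G)⁻¹
    calc g * ((x : G) * ((q : Cz s) : G) * (x : G)⁻¹) * g⁻¹
        = (g * (x : G)) * ((q : Cz s) : G) * (g * (x : G))⁻¹ := by group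
      _ = (x : G) * (g * ((q : Cz s) : G) * g⁻¹) * (x : G)⁻¹ := by rw [hgx.eq]; group
  -- outside the kernel
  have hout : ¬ R ≤ P.F.ker := by
    intro hle
    obtain ⟨p, q, hpq⟩ : ∃ p q : Hp, (p : Cz s) * q ≠ q * p := by
      by_contra hcon
      push Not at hcon
      have := E.abelian_le (H := Hp) inf_le_left hzH fun a ha b hb => hcon ⟨a, ha⟩ ⟨b, hb⟩
      omega
    have e := (E.comm p p.2.1 q q.2.1).resolve_left hpq
    have e' : ψ p * ψ q = t * (ψ q * ψ p) := by
      rw [← hψz, ← map_mul, ← map_mul, ← map_mul]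
      exact congrArg ψ (Subtype.ext e)
    rcases E.comm _ (hle ⟨p, rfl⟩) _ (hle ⟨q, rfl⟩) with h | h
    · rw [h] at e'
      exact ht1 (mul_right_cancel (b := ψ q * ψ p) (by rw [one_mul]; exact e'.symm))
    · rw [h] at e'
      exact htz (mul_right_cancel e').symm
  set U := R.map P.F with hU
  have hUc : ∀ a ∈ U, ∀ b ∈ U, a * b = b * a := by
    rintro _ ⟨p, hp, rfl⟩ _ ⟨q, hq, rfl⟩
    rcases hRcm p hp q hq with e | e
    · rw [← map_mul, e, map_mul]
    · rw [← map_mul, e, map_mul, MonoidHom.mem_ker.mp htQ, one_mul, map_mul]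
  have hUsq : ∀ a ∈ U, a * a = 1 := by
    rintro _ ⟨p, hp, rfl⟩
    rcases hRsq p hp with e | e
    · rw [← map_mul, e, map_one]
    · rw [← map_mul, e]; exact MonoidHom.mem_ker.mp htQ
  obtain ⟨y, hyR, hyQ⟩ := SetLike.not_le_iff_exists.mp hout
  have hy1 : P.F y ≠ 1 := fun e => hyQ (MonoidHom.mem_ker.mpr e)
  have hyU : P.F y ∈ U := ⟨y, hyR, rfl⟩
  have hxU : ∀ a ∈ U, P.F x * a * (P.F x)⁻¹ ∈ U := by
    rintro _ ⟨p, hp, rfl⟩
    exact ⟨x * p * x⁻¹, hRx p hp, by rw [map_mul, map_mul, map_inv]⟩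
  set yb := P.F y with hyb
  obtain ⟨hCa, p0, q0, hpa, hqa, hpq⟩ := inv_cent_T yb (hUsq _ hyU) hy1
  obtain ⟨h3, hx1⟩ := P.F_three hx
  obtain ⟨n, hn3, hn⟩ : ∃ n ≤ 3, Nat.card U = 2 ^ n := by
    have hCc : Nat.card (centralizer ({yb} : Set T)) = 8 := by
      rw [← hCa, ← Nat.card_eq_fintype_card]
      exact Nat.card_congr (Equiv.subtypeEquivRight fun c => mem_centralizer_singleton_iff)
    have hle : U ≤ centralizer ({yb} : Set T) := fun a ha =>
      mem_centralizer_singleton_iff.mpr (hUc a ha yb hyU)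
    have hd := card_dvd_of_le hle
    rw [hCc] at hd
    exact (Nat.dvd_prime_pow Nat.prime_two).mp (show Nat.card U ∣ 2 ^ 3 from hd)
  have hU4 : Nat.card U = 4 := by
    have hne8 : Nat.card U ≠ 8 := fun e => by
      have hle : U ≤ centralizer ({yb} : Set T) := fun a ha =>
        mem_centralizer_singleton_iff.mpr (hUc a ha yb hyU)
      have hCc : Nat.card (centralizer ({yb} : Set T)) = 8 := by
        rw [← hCa, ← Nat.card_eq_fintype_card]
        exact Nat.card_congr (Equiv.subtypeEquivRight fun c => mem_centralizer_singleton_iff)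
      have heq := eq_of_le_of_card_ge hle (by rw [hCc, e])
      exact hpq (hUc p0 (heq ▸ mem_centralizer_singleton_iff.mpr hpa) q0
        (heq ▸ mem_centralizer_singleton_iff.mpr hqa))
    have hne1 : Nat.card U ≠ 1 := fun e => hy1 (Subgroup.mem_bot.mp (eq_bot_of_card_eq U e ▸ hyU))
    have hne2 : Nat.card U ≠ 2 := fun e => by
      have hzp : zpowers yb = U := eq_of_le_of_card_ge (zpowers_le.mpr hyU) (by
        rw [e, Nat.card_zpowers, orderOf_eq_prime (by rw [pow_two, hUsq _ hyU]) hy1])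
      have h1 := hxU yb hyU
      rw [← hzp, ← (isOfFinOrder_of_finite yb).mem_powers_iff_mem_zpowers, Submonoid.mem_powers_iff] at h1
      obtain ⟨k, hk⟩ := h1
      rw [← Nat.mod_add_div k 2, pow_add, pow_mul, show yb ^ 2 = 1 by rw [pow_two, hUsq _ hyU], one_pow,
        mul_one] at hk
      rcases Nat.mod_two_eq_zero_or_one k with e' | e' <;> rw [e'] at hk
      · rw [pow_zero] at hk
        exact hy1 (conj_eq_one_iff.mp hk.symm)
      · rw [pow_one] at hk
        have hc : P.F x * yb = yb * P.F x := mul_inv_eq_iff_eq_mul.mp hk.symm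
        have hsq := hUsq _ hyU
        rcases three_cent_T _ yb h3 hx1 hc with e'' | e'' | e''
        · exact hy1 e''
        · rw [e''] at hsq
          rw [hsq, one_mul] at h3
          exact hx1 h3
        · rw [e'', show P.F x * P.F x * (P.F x * P.F x) = P.F x * P.F x * P.F x * P.F x by group, h3, one_mul] at hsq
          exact hx1 hsq
    rw [hn] at hne8 hne1 hne2 ⊢
    interval_cases n <;> omega
  set D := P.F.ker ⊓ R with hD
  have hDc : Nat.card D = 16 := by
    have h1 := (P.F.comp R.subtype).ker.card_mul_index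
    have h2 : (P.F.comp R.subtype).range = U := by
      rw [MonoidHom.range_eq_map, ← Subgroup.map_map, ← MonoidHom.range_eq_map, range_subtype]
    rw [index_ker, h2, hRc, hU4] at h1
    have h3 : Nat.card (P.F.comp R.subtype).ker = Nat.card D := Nat.card_congr
      { toFun := fun c => ⟨(c : R), c.2, (c : R).2⟩
        invFun := fun d => ⟨⟨d, d.2.2⟩, d.2.1⟩
        left_inv := fun c => rfl
        right_inv := fun d => rfl }
    omega
  have hDsq : ∀ d ∈ D, d * d = 1 := by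
    intro d hd
    rcases hRsq d hd.2 with e | e
    · exact e
    · rcases E.sq d hd.1 with e' | e'
      · exact e'
      · exact (htz (e.symm.trans e')).elim
  have hDcm : ∀ a ∈ D, ∀ b ∈ D, a * b = b * a := by
    intro a ha b hb
    rcases hRcm a ha.2 b hb.2 with e | e
    · exact e
    · rcases E.comm a ha.1 b hb.1 with e' | e'
      · exact e'
      · exact (htz (mul_right_cancel (e.symm.trans e'))).elim
  have hzD : zC s ∈ D := ⟨P.z_mem, ⟨_, hψu⟩⟩
  have hDself : ∀ q ∈ P.F.ker, (∀ d ∈ D, q * d = d * q) → q ∈ D := by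
    have h1 := E.cent_mul (H := D) inf_le_left hzD
    rw [hDc] at h1
    have hle : D ≤ P.F.ker ⊓ centralizer (D : Set (Cz s)) := fun a ha =>
      ⟨ha.1, mem_centralizer_iff.mpr fun b hb => hDcm b hb a ha⟩
    have heq := eq_of_le_of_card_ge hle (by omega)
    exact fun q hq h => heq ▸ ⟨hq, mem_centralizer_iff.mpr fun d hd => (h d hd).symm⟩
  refine ⟨?_, D, y, hyQ, hRt y hyR, hRsq y hyR, inf_le_left, hDsq, hDself, fun d hd => ?_⟩
  · have hC := card_class_mul t
    rw [P.cardC] at hC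
    set C := centralizer ({t} : Set (Cz s)) with hCd
    have h1 := (P.F.comp C.subtype).ker.card_mul_index
    have h3' : Nat.card (P.F.comp C.subtype).ker = 64 := by
      rw [← E.card_cent htQ ht1 htz]
      exact Nat.card_congr
        { toFun := fun c => ⟨(c : C), c.2, (c : C).2⟩
          invFun := fun q => ⟨⟨q, q.2.2⟩, q.2.1⟩
          left_inv := fun c => rfl
          right_inv := fun q => rfl }
    rw [index_ker, h3'] at h1
    set M := (P.F.comp C.subtype).range with hM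
    have hUM : U ≤ M := by
      rintro _ ⟨p, hp, rfl⟩
      exact ⟨⟨p, mem_centralizer_singleton_iff.mpr (hRt p hp)⟩, rfl⟩
    have hxM : P.F x ∈ M := ⟨⟨x, mem_centralizer_singleton_iff.mpr (P.tw_comm hts hgx).symm.eq⟩, rfl⟩
    have h4 : 4 ∣ Nat.card M := hU4 ▸ card_dvd_of_le hUM
    have h5 : 3 ∣ Nat.card M := by
      have := orderOf_dvd_natCard _ hxM
      rwa [orderOf_eq_prime (hp := ⟨Nat.prime_three⟩) (by rw [pow_succ, pow_two, h3]) hx1] at this
    have h12 : 12 ≤ Nat.card M :=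
      Nat.le_of_dvd Nat.card_pos (Nat.Coprime.mul_dvd_of_dvd_of_dvd (by norm_num : Nat.Coprime 4 3) h4 h5)
    have h768 : 768 ≤ Nat.card C := by omega
    nlinarith
  · rcases hRcm y hyR d hd.2 with e | e
    · exact Or.inl (by rw [e, mul_inv_cancel_right, mul_inv_cancel])
    · exact Or.inr (by rw [e]; group)

end Pk

end CfsgM24Det
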