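/-
All non-central involutions fixed by the element of order three are fused to the involution.
-/
import Cfsg.Agent.Lib.M24Det.Second
import Cfsg.Agent.Lib.InvolutionDihedralEight
import Cfsg.Agent.Lib.TausskyTwo
import Cfsg.Agent.S0111

set_option autoImplicit false
set_option linter.style.haveILetI false
set_option linter.unusedSectionVars false
set_option maxRecDepth 20000

namespace CfsgM24Det

open Subgroup CfsgLib.SameOrderCounts
open CfsgLib.Order168Model (T)
open scoped Pointwise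

variable {G : Type*} [Group G] [Finite G]

/-- A real element of order three does not have a centraliser of order 360. -/
theorem no_cent_360 (hc : Ctx G) {x : G} (hx : orderOf x = 3) (hreal : ∃ c : G, c * x * c⁻¹ = x⁻¹)
    (h360 : Nat.card ↥(centralizer ({x} : Set G)) = 360) : False := by
  classical
  haveI : Fact (Nat.Prime 3) := ⟨Nat.prime_three⟩
  haveI : Fact (Nat.Prime 5) := ⟨by norm_num⟩
  obtain ⟨f, hf⟩ := exists_prime_orderOf_dvd_card' (G := ↥(centralizer ({x} : Set G))) 5 (by rw [h360]; norm_num)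
  have hfG : orderOf (f : G) = 5 := (Subgroup.orderOf_coe f).trans hf
  obtain ⟨hC60, -, hC3, -⟩ := cent_five hc hfG
  set C := centralizer ({(f : G)} : Set G) with hC
  have hxC : x ∈ C := mem_centralizer_singleton_iff.mpr (mem_centralizer_singleton_iff.mp f.2).symm
  have hsyl : ∀ v : C, orderOf v = 3 → ∃ R : Sylow 3 C, zpowers v = (R : Subgroup C) := fun v hv => by
    obtain ⟨R, hR⟩ := (IsPGroup.of_card (p := 3) (n := 1)
      (show Nat.card (zpowers v) = 3 ^ 1 by rw [Nat.card_zpowers, hv, pow_one])).exists_le_sylow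
    refine ⟨R, eq_of_le_of_card_ge hR ?_⟩
    rw [R.card_eq_multiplicity, hC60, show (60 : ℕ) = 3 ^ 1 * 20 by norm_num,
      Nat.factorization_mul (by norm_num) (by norm_num), Finsupp.add_apply,
      Nat.Prime.factorization_pow Nat.prime_three, Finsupp.single_eq_same,
      Nat.factorization_eq_zero_of_not_dvd (show ¬ 3 ∣ 20 by norm_num), Nat.card_zpowers, hv]
    norm_num
  have hxo : orderOf (⟨x, hxC⟩ : C) = 3 := (Subgroup.orderOf_coe _).symm.trans hx
  -- every element of order three in the centraliser is conjugate to the given one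
  have hconj : ∀ v : C, orderOf v = 3 → IsConj x (v : G) := by
    intro v hv
    obtain ⟨R1, hR1⟩ := hsyl _ hxo
    obtain ⟨R2, hR2⟩ := hsyl v hv
    obtain ⟨c, hcR⟩ := MulAction.exists_smul_eq C R2 R1
    have hmem : c * v * c⁻¹ ∈ zpowers (⟨x, hxC⟩ : C) := by
      rw [hR1, ← hcR, Sylow.coe_subgroup_smul, ← hR2]
      exact Subgroup.smul_mem_pointwise_smul _ (MulAut.conj c) _ (mem_zpowers v)
    rw [← (isOfFinOrder_of_finite (⟨x, hxC⟩ : C)).mem_powers_iff_mem_zpowers, Submonoid.mem_powers_iff] at hmem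
    obtain ⟨k, hk⟩ := hmem
    rw [← pow_mod_orderOf, hxo] at hk
    have hk' : x ^ (k % 3) = (c : G) * (v : G) * (c : G)⁻¹ := congrArg Subtype.val hk
    have hcv : IsConj (x ^ (k % 3)) (v : G) := by
      rw [hk']
      exact (isConj_iff.mpr ⟨(c : G), rfl⟩ : IsConj (v : G) _).symm
    rcases (show k % 3 = 0 ∨ k % 3 = 1 ∨ k % 3 = 2 by omega) with e | e | e <;> rw [e] at hcv
    · rw [pow_zero] at hcv
      have : v = 1 := Subtype.ext (isConj_one_right.mp hcv)
      rw [this, orderOf_one] at hv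
      omega
    · rwa [pow_one] at hcv
    · refine IsConj.trans ?_ hcv
      rw [show x ^ 2 = x⁻¹ from eq_inv_of_mul_eq_one_left (by rw [← pow_succ, show 2 + 1 = orderOf x from hx.symm, pow_orderOf_eq_one])]
      exact isConj_iff.mpr hreal
  -- the class
  have hmul := card_class_mul x
  rw [h360, hc.card] at hmul
  letI : MulAction (zpowers (f : G)) {v : G // IsConj x v} :=
    { smul := fun a v => ⟨MulAut.conj (a : G) v.1, v.2.trans (isConj_iff.mpr ⟨a, rfl⟩)⟩
      one_smul := fun v => Subtype.ext (by show MulAut.conj (1 : G) v.1 = v.1; simp)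
      mul_smul := fun a b v => Subtype.ext (by
        show MulAut.conj ((a : G) * b) v.1 = MulAut.conj (a : G) (MulAut.conj (b : G) v.1); simp [map_mul]) }
  have hmod := (IsPGroup.of_card (p := 5) (n := 1)
    (show Nat.card (zpowers (f : G)) = 5 ^ 1 by rw [Nat.card_zpowers, hfG, pow_one])).card_modEq_card_fixedPoints
      {v : G // IsConj x v}
  rw [Nat.card_congr (show MulAction.fixedPoints (zpowers (f : G)) {v : G // IsConj x v} ≃ {v : C // orderOf v = 3} from
    { toFun := fun v => ⟨⟨v.1.1, mem_centralizer_singleton_iff.mpr (by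
        have := congrArg Subtype.val (v.2 ⟨(f : G), mem_zpowers _⟩)
        exact (mul_inv_eq_iff_eq_mul.mp this).symm)⟩, by
          rw [← Subgroup.orderOf_coe]
          obtain ⟨g, hg⟩ := isConj_iff.mp v.1.2
          show orderOf (v.1.1) = 3
          rw [← hg, ← MulAut.conj_apply, MulEquiv.orderOf_eq, hx]⟩
      invFun := fun v => ⟨⟨(v.1 : G), hconj v.1 v.2⟩, fun a => Subtype.ext (by
        obtain ⟨i, hi⟩ := mem_zpowers_iff.mp a.2
        show (a : G) * (v.1 : G) * (a : G)⁻¹ = v.1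
        rw [← hi, ((show Commute (f : G) (v.1 : G) from (mem_centralizer_singleton_iff.mp v.1.2).symm).zpow_left i).eq,
          mul_inv_cancel_right])⟩
      left_inv := fun v => rfl
      right_inv := fun v => rfl }),
    show Nat.card {v : C // orderOf v = 3} = 8 from hC3, Nat.ModEq] at hmod
  omega

/-- The special linear group of degree three over two elements is simple, of order 168. -/
theorem sl3_facts : IsSimpleGroup (Matrix.SpecialLinearGroup (Fin 3) (ZMod 2)) ∧
    Nat.card (Matrix.SpecialLinearGroup (Fin 3) (ZMod 2)) = 168 := by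
  obtain ⟨h1, h2⟩ := CfsgLib.Order168.gl32
  haveI := h1
  let f : Matrix.SpecialLinearGroup (Fin 3) (ZMod 2) →* GL (Fin 3) (ZMod 2) := Matrix.SpecialLinearGroup.toGL
  have hb : Function.Bijective f := by
    refine ⟨fun a b e => Subtype.ext (congrArg Units.val e :), fun u => ?_⟩
    have hu : ((u : Matrix (Fin 3) (Fin 3) (ZMod 2))).det = 1 :=
      (show ∀ a b : ZMod 2, a * b = 1 → a = 1 by decide) _ ((u⁻¹ : GL (Fin 3) (ZMod 2)) :
        Matrix (Fin 3) (Fin 3) (ZMod 2)).det (by
          rw [← Matrix.det_mul, ← Units.val_mul, mul_inv_cancel, Units.val_one, Matrix.det_one])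
    exact ⟨⟨u, hu⟩, Units.ext rfl⟩
  let e := MulEquiv.ofBijective f hb
  exact ⟨e.isSimpleGroup, (Nat.card_congr e.toEquiv).trans h2⟩

variable {s : G}

/-- Two second conjugates which do not commute. -/
theorem Pk.Es.exists_fused {P : Pk s} (E : P.Es) (hc : Ctx G) {w x : Cz s} (hw : orderOf w = 7)
    (hx : orderOf x = 3) (hxw : x * w * x⁻¹ = w ^ 2) :
    ∃ g g' : G, Commute g (x : G) ∧ Commute g' (x : G) ∧ Commute (g * s * g⁻¹) s ∧ g * s * g⁻¹ ≠ s ∧
      Commute (g' * s * g'⁻¹) s ∧ g' * s * g'⁻¹ ≠ s ∧ ¬ Commute (g * s * g⁻¹) (g' * s * g'⁻¹) := by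
  classical
  haveI : Fact (Nat.Prime 2) := ⟨Nat.prime_two⟩
  obtain ⟨g, hgx, hts, htne⟩ := P.exists_conj hc hx hw hxw
  set t := tw g hts with htd
  have htQ : t ∈ P.F.ker := P.tw_mem_ker hts hx hgx
  have htx : Commute t x := P.tw_comm hts hgx
  have ht2 : t * t = 1 := by rw [← pow_two, ← P.tw_ord g hts, pow_orderOf_eq_one]
  have htz : t ≠ zC s := fun e => htne (congrArg Subtype.val e)
  obtain ⟨t', ht'Q, ht'x, ht'2, htt'⟩ : ∃ t' ∈ P.F.ker, Commute t' x ∧ t' * t' = 1 ∧ t * t' ≠ t' * t := by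
    obtain ⟨b, hb, hbx, hne⟩ := E.fix_nonabelian hw hx hxw t htQ htx (P.tw_ne_one g hts) htz
    rcases E.sq b hb with e | e
    · exact ⟨b, hb, hbx, e, hne⟩
    · refine ⟨t * b, mul_mem htQ hb, htx.mul_left hbx, ?_, fun h => hne ?_⟩
      · calc t * b * (t * b) = t * b * t * b := by group
          _ = zC s * (b * t) * t * b := by rw [(E.comm t htQ b hb).resolve_left hne]
          _ = zC s * (b * (t * t) * b) := by group
          _ = 1 := by rw [ht2, mul_one, e, P.z_sq]
      · rw [mul_assoc t b t] at h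
        exact mul_left_cancel h
  -- the centraliser of the element of order three
  set K := centralizer ({(x : G)} : Set G) with hK
  have hxG : orderOf (x : G) = 3 := (Subgroup.orderOf_coe x).trans hx
  let xK : K := ⟨(x : G), mem_centralizer_singleton_iff.mpr rfl⟩
  have hxK : orderOf xK = 3 := (Subgroup.orderOf_coe xK).symm.trans hxG
  have hxcen : ∀ c : K, Commute c xK := fun c => Subtype.ext (mem_centralizer_singleton_iff.mp c.2)
  haveI : (zpowers xK).Normal := ⟨fun a ha c => by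
    obtain ⟨i, rfl⟩ := mem_zpowers_iff.mp ha
    rw [((hxcen c).zpow_right i).eq, mul_inv_cancel_right]
    exact zpow_mem_zpowers _ _⟩
  let π := QuotientGroup.mk' (zpowers xK)
  have hkey : ∀ a b : K, a * a = 1 → b * b = 1 → π a = π b → a = b := by
    intro a b ha hb h
    have hm : a⁻¹ * b ∈ zpowers xK := (QuotientGroup.eq).mp h
    obtain ⟨i, hi⟩ := mem_zpowers_iff.mp hm
    have hcom : Commute (a⁻¹ * b) a := by rw [← hi]; exact ((hxcen a).zpow_right i).symm
    have h2 : (a⁻¹ * b) ^ 2 = 1 := by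
      rw [pow_two, ← mul_assoc, show a⁻¹ * b * a⁻¹ = a⁻¹ * (a⁻¹ * b) from (hcom.inv_right).eq,
        show a⁻¹ * (a⁻¹ * b) * b = (a * a)⁻¹ * (b * b) by group, ha, hb, inv_one, mul_one]
    have h3 := orderOf_dvd_natCard _ hm
    rw [Nat.card_zpowers, hxK] at h3
    exact inv_mul_eq_one.mp (orderOf_eq_one_iff.mp
      (Nat.eq_one_of_dvd_coprimes (by norm_num) h3 (orderOf_dvd_of_pow_eq_one h2)))
  set T8 := P.F.ker ⊓ centralizer ({x} : Set (Cz s)) with hT8
  have hT8c : Nat.card T8 = 8 := P.card_fix_three hx hw hxw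
  have hT8K : ∀ q : T8, ((q : Cz s) : G) ∈ K := fun q =>
    mem_centralizer_singleton_iff.mpr (congrArg Subtype.val (mem_centralizer_singleton_iff.mp q.2.2))
  let ι : T8 →* K := MonoidHom.mk' (fun q => ⟨((q : Cz s) : G), hT8K q⟩) fun a b => rfl
  let tT : T8 := ⟨t, htQ, mem_centralizer_singleton_iff.mpr htx.eq⟩
  let uT : T8 := ⟨t', ht'Q, mem_centralizer_singleton_iff.mpr ht'x.eq⟩
  let zT : T8 := ⟨zC s, P.z_mem, mem_centralizer_singleton_iff.mpr (zC_comm x).eq⟩
  have htT : tT * tT = 1 := Subtype.ext ht2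
  have huT : uT * uT = 1 := Subtype.ext ht'2
  have hzT : zT * zT = 1 := Subtype.ext P.z_sq
  have hzT1 : zT ≠ 1 := fun e => P.z_ne_one (congrArg Subtype.val e)
  have htu : tT * uT ≠ uT * tT := fun e => htt' (congrArg Subtype.val e)
  set a := tT * uT with ha
  have ha2 : a * a = zT := Subtype.ext (by
    show t * t' * (t * t') = zC s
    calc t * t' * (t * t') = t * t' * t * t' := by group
      _ = zC s * (t' * t) * t * t' := by rw [(E.comm t htQ t' ht'Q).resolve_left htt']
      _ = zC s * (t' * (t * t) * t') := by group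
      _ = zC s := by rw [ht2, mul_one, ht'2, mul_one])
  have ha4 : orderOf a = 4 := by
    refine orderOf_eq_prime_pow (p := 2) (n := 1) ?_ ?_
    · rw [pow_one, pow_two, ha2]; exact hzT1
    · rw [show (2 : ℕ) ^ (1 + 1) = 2 + 2 from rfl, pow_add, pow_two, ha2, hzT]
  have hta : tT * a * tT⁻¹ = a⁻¹ := by
    rw [ha, mul_inv_rev, inv_eq_of_mul_eq_one_right htT, inv_eq_of_mul_eq_one_right huT, ← mul_assoc tT tT, htT,
      one_mul]
  have htA : tT ∉ zpowers a := fun hm => htu (by
    obtain ⟨i, hi⟩ := mem_zpowers_iff.mp hm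
    have h : Commute tT a := by rw [← hi]; exact (Commute.refl a).zpow_left i
    have h' : tT * (tT * uT) = tT * uT * tT := h.eq
    rw [← mul_assoc, htT, one_mul] at h'
    calc tT * uT = tT * uT * (tT * tT) := by rw [htT, mul_one]
      _ = (tT * uT * tT) * tT := by group
      _ = uT * tT := by rw [← h'])
  obtain ⟨eD⟩ : Nonempty (T8 ≃* DihedralGroup 4) := by
    have hidx : (zpowers a).index = 2 := by
      have := (zpowers a).card_mul_index
      rw [Nat.card_zpowers, ha4, hT8c] at this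
      omega
    refine CfsgLib.TausskyTwo.dihedral_iso (by norm_num) a tT ha4 (by rw [pow_two, htT]) hta htA fun q => ?_
    refine or_iff_not_imp_left.mpr fun hq => ?_
    rw [mul_mem_iff_of_index_two hidx, inv_mem_iff]
    simp [hq, htA]
  -- in the factor group
  set sb := π (ι zT) with hsb
  set θ : T8 →* K ⧸ zpowers xK := π.comp ι with hθ
  have hθi : Function.Injective θ := by
    rw [injective_iff_map_eq_one]
    intro q hq
    have hm : ι q ∈ zpowers xK := (QuotientGroup.eq_one_iff _).mp hq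
    have h3 := orderOf_dvd_natCard _ hm
    rw [Nat.card_zpowers, hxK, ← Subgroup.orderOf_coe (ι q)] at h3
    have h8 : orderOf ((q : Cz s) : G) ∣ 2 ^ 3 := by
      rw [Subgroup.orderOf_coe, Subgroup.orderOf_coe, show 2 ^ 3 = Nat.card T8 from hT8c.symm]
      exact orderOf_dvd_natCard q
    have h1 : ((q : Cz s) : G) = 1 :=
      orderOf_eq_one_iff.mp (Nat.eq_one_of_dvd_coprimes (by norm_num) h3 h8)
    exact Subtype.ext (Subtype.ext h1)
  have hsb2 : orderOf sb = 2 := by
    refine orderOf_eq_prime ?_ fun e => hzT1 (hθi (e.trans (map_one θ).symm))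
    rw [hsb, ← map_pow, ← map_pow, pow_two, hzT, map_one, map_one]
  have hrange : θ.range = centralizer ({sb} : Set (K ⧸ zpowers xK)) := by
    refine le_antisymm ?_ fun c hc' => ?_
    · rintro _ ⟨q, rfl⟩
      rw [mem_centralizer_singleton_iff, show sb = θ zT from rfl, ← map_mul, ← map_mul]
      exact congrArg θ (Subtype.ext (zC_comm (q : Cz s)).symm.eq)
    · obtain ⟨c, rfl⟩ := QuotientGroup.mk'_surjective _ c
      have hcz : c * ι zT * c⁻¹ = ι zT := by
        refine hkey _ _ ?_ (by rw [← map_mul, hzT, map_one]) ?_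
        · rw [show c * ι zT * c⁻¹ * (c * ι zT * c⁻¹) = c * (ι zT * ι zT) * c⁻¹ by group, ← map_mul, hzT, map_one]
          group
        · rw [map_mul, map_mul, map_inv, mem_centralizer_singleton_iff.mp hc', mul_inv_cancel_right]
      have hcs : (c : G) ∈ centralizer ({s} : Set G) :=
        mem_centralizer_singleton_iff.mpr (congrArg Subtype.val (mul_inv_eq_iff_eq_mul.mp hcz))
      have hcx : Commute (⟨(c : G), hcs⟩ : Cz s) x := Subtype.ext (mem_centralizer_singleton_iff.mp c.2)
      obtain ⟨i, hi⟩ := mem_zpowers_iff.mp (P.image_cent hx hcx)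
      have hq : (⟨(c : G), hcs⟩ : Cz s) * (x ^ i)⁻¹ ∈ T8 := by
        refine ⟨MonoidHom.mem_ker.mpr ?_,
          mem_centralizer_singleton_iff.mpr (hcx.mul_left ((Commute.refl x).zpow_left i).inv_left).eq⟩
        rw [map_mul, map_inv, map_zpow, hi, mul_inv_cancel]
      refine ⟨⟨_, hq⟩, ?_⟩
      show π (ι ⟨_, hq⟩) = π c
      refine (QuotientGroup.eq).mpr (mem_zpowers_iff.mpr ⟨i, Subtype.ext ?_⟩)
      show ((xK ^ i : K) : G) = ((c : G) * (((x ^ i)⁻¹ : Cz s) : G))⁻¹ * (c : G)
      rw [SubgroupClass.coe_zpow, InvMemClass.coe_inv, SubgroupClass.coe_zpow, mul_inv_rev, inv_inv, mul_assoc,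
        inv_mul_cancel, mul_one]
  have hC4 : Nonempty (↥(centralizer ({sb} : Set (K ⧸ zpowers xK))) ≃* DihedralGroup 4) :=
    ⟨((MonoidHom.ofInjective hθi).trans (MulEquiv.subgroupCongr hrange)).symm.trans eD⟩
  have hcardK : Nat.card K = Nat.card (K ⧸ zpowers xK) * 3 := by
    rw [card_eq_card_quotient_mul_card_subgroup (zpowers xK), Nat.card_zpowers, hxK]
  -- simple factor
  have hsimple : IsSimpleGroup (K ⧸ zpowers xK) → 2 < Nat.card (K ⧸ zpowers xK) →
      ¬ 16 ∣ Nat.card (K ⧸ zpowers xK) →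
      ∃ g' : G, Commute g' (x : G) ∧ g' * s * g'⁻¹ = (t' : G) := by
    intro hs hbig h16
    have hCc : Nat.card θ.range = 2 ^ 3 := by
      rw [← Nat.card_congr (MonoidHom.ofInjective hθi).toEquiv, hT8c]; rfl
    obtain ⟨S8, hS8⟩ := (IsPGroup.of_card hCc).exists_le_sylow
    have hSeq : θ.range = (S8 : Subgroup (K ⧸ zpowers xK)) := by
      refine eq_of_le_of_card_ge hS8 ?_
      obtain ⟨k, hk⟩ := IsPGroup.iff_card.mp S8.2
      have hd := card_subgroup_dvd_card (S8 : Subgroup (K ⧸ zpowers xK))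
      rw [hCc, hk]
      rw [hk] at hd
      refine Nat.pow_le_pow_right (by norm_num) ?_
      by_contra hk3
      exact h16 ((pow_dvd_pow 2 (show 4 ≤ k by omega)).trans hd)
    have hQle : zpowers (θ a) ≤ (S8 : Subgroup (K ⧸ zpowers xK)) := zpowers_le.mpr (hSeq ▸ ⟨a, rfl⟩)
    have hQ4 : orderOf (θ a) = 4 := (orderOf_injective θ hθi a).trans ha4
    have hrel : (zpowers (θ a)).relIndex (S8 : Subgroup (K ⧸ zpowers xK)) = 2 := by
      have := ((zpowers (θ a)).subgroupOf (S8 : Subgroup (K ⧸ zpowers xK))).card_mul_index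
      rw [Nat.card_congr (subgroupOfEquivOfLe hQle).toEquiv, Nat.card_zpowers, hQ4, ← hSeq, hCc] at this
      rw [relIndex, ← hSeq]
      omega
    have huQ : θ uT ∉ zpowers (θ a) := fun hm => htu (by
      obtain ⟨i, hi⟩ := mem_zpowers_iff.mp hm
      have h2 : θ uT * θ a = θ a * θ uT := by
        rw [← hi]; exact ((Commute.refl (θ a)).zpow_left i).eq
      have h : Commute uT a := hθi ((map_mul θ uT a).trans (h2.trans (map_mul θ a uT).symm))
      have h' : uT * (tT * uT) = tT * uT * uT := h.eq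
      rw [mul_assoc tT, huT, mul_one] at h'
      calc tT * uT = uT * (tT * uT) * uT := by rw [h']
        _ = uT * tT := by rw [mul_assoc, mul_assoc, huT, mul_one])
    have huo : orderOf (θ uT) = 2 := (orderOf_injective θ hθi uT).trans
      (orderOf_eq_prime (by rw [pow_two, huT]) fun e => htu (show tT * uT = uT * tT by rw [e, mul_one, one_mul]))
    rcases Cfsg.Agent.S0111.result S8 (zpowers (θ a)) hQle hrel (θ uT) huo (hSeq ▸ ⟨uT, rfl⟩) huQ with
      ⟨M, hM, hMi, -⟩ | ⟨c, hcu⟩
    · exfalso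
      rcases hM.eq_bot_or_eq_top with e | e
      · rw [e, index_bot] at hMi; omega
      · rw [e, index_top] at hMi; omega
    · rw [← (isOfFinOrder_of_finite (θ a)).mem_powers_iff_mem_zpowers, Submonoid.mem_powers_iff] at hcu
      obtain ⟨k, hk⟩ := hcu
      have hoc : orderOf ((θ a) ^ k) = 2 := by
        rw [hk, ← MulAut.conj_apply, MulEquiv.orderOf_eq, huo]
      rw [← pow_mod_orderOf, hQ4] at hk hoc
      rcases (show k % 4 = 0 ∨ k % 4 = 1 ∨ k % 4 = 2 ∨ k % 4 = 3 by omega) with e | e | e | e <;>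
        rw [e] at hk hoc
      · rw [pow_zero, orderOf_one] at hoc; omega
      · rw [pow_one, hQ4] at hoc; omega
      · rw [pow_two, ← map_mul, ha2] at hk
        obtain ⟨c, rfl⟩ := QuotientGroup.mk'_surjective _ c
        have h1 : c * ι uT * c⁻¹ = ι zT := hkey _ _
          (by rw [show c * ι uT * c⁻¹ * (c * ι uT * c⁻¹) = c * (ι uT * ι uT) * c⁻¹ by group, ← map_mul, huT,
            map_one]; group)
          (by rw [← map_mul, hzT, map_one]) (by rw [map_mul, map_mul, map_inv]; exact hk.symm)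
        refine ⟨(c : G)⁻¹, (show Commute (c : G) (x : G) from mem_centralizer_singleton_iff.mp c.2).inv_left, ?_⟩
        have h2 : (c : G) * (t' : G) * (c : G)⁻¹ = s := congrArg Subtype.val h1
        calc (c : G)⁻¹ * s * (c : G)⁻¹⁻¹ = (c : G)⁻¹ * ((c : G) * (t' : G) * (c : G)⁻¹) * (c : G)⁻¹⁻¹ := by rw [h2]
          _ = (t' : G) := by group
      · rw [orderOf_pow, hQ4] at hoc; norm_num at hoc
  suffices hex : ∃ g' : G, Commute g' (x : G) ∧ g' * s * g'⁻¹ = (t' : G) by
    obtain ⟨g', hg'x, hg'⟩ := hex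
    refine ⟨g, g', hgx, hg'x, hts, htne, ?_, ?_, ?_⟩
    · rw [hg']; exact mem_centralizer_singleton_iff.mp t'.2
    · rw [hg']
      intro e
      refine htt' ?_
      rw [show t' = zC s from Subtype.ext e]
      exact (zC_comm t).symm.eq
    · rw [hg']
      exact fun h => htt' (Subtype.ext h.eq)
  rcases CfsgLib.InvolutionDihedralEight.classify sb hsb2 hC4 with h | ⟨⟨e⟩⟩ | ⟨⟨e⟩⟩ | ⟨⟨e⟩⟩ | ⟨⟨e⟩⟩
  · exfalso
    haveI : (Cfsg.oddCore (K ⧸ zpowers xK)).Normal := by unfold Cfsg.oddCore; infer_instance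
    let gK : K := ⟨g, mem_centralizer_singleton_iff.mpr hgx.eq⟩
    have hm : π gK ∈ centralizer ({sb} : Set (K ⧸ zpowers xK)) ⊔ Cfsg.oddCore (K ⧸ zpowers xK) := h ▸ mem_top _
    obtain ⟨c, hc', o, ho, hco⟩ := mem_sup_of_normal_right.mp hm
    have hts' : θ tT = π gK * sb * (π gK)⁻¹ := by
      rw [hsb, ← map_inv, ← map_mul, ← map_mul]
      exact congrArg π (Subtype.ext rfl)
    have hmem : θ tT * sb⁻¹ ∈ Cfsg.oddCore (K ⧸ zpowers xK) := by
      have hcs : c * sb = sb * c := mem_centralizer_singleton_iff.mp hc'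
      rw [hts', ← hco, show c * o * sb * (c * o)⁻¹ * sb⁻¹ = c * o * sb * o⁻¹ * (c⁻¹ * sb⁻¹) by group,
        show c⁻¹ * sb⁻¹ = (sb * c)⁻¹ from (mul_inv_rev _ _).symm, ← hcs,
        show c * o * sb * o⁻¹ * (c * sb)⁻¹ = c * (o * (sb * o⁻¹ * sb⁻¹)) * c⁻¹ by group]
      exact (inferInstance : (Cfsg.oddCore (K ⧸ zpowers xK)).Normal).conj_mem _
        (mul_mem ho ((inferInstance : (Cfsg.oddCore (K ⧸ zpowers xK)).Normal).conj_mem _ (inv_mem ho) sb)) c
    have hne : θ tT * sb⁻¹ ≠ 1 := fun e => htz (congrArg Subtype.val (hθi (mul_inv_eq_one.mp e)))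
    have h2 : (θ tT * sb⁻¹) ^ 2 = 1 := by
      rw [show sb = θ zT from rfl, ← map_inv, ← map_mul, ← map_pow, inv_eq_of_mul_eq_one_right hzT]
      refine (congrArg θ ?_).trans (map_one θ)
      refine Subtype.ext ?_
      show (t * zC s) ^ 2 = 1
      rw [(zC_comm t).symm.mul_pow, pow_two, pow_two, ht2, P.z_sq, mul_one]
    have hodd := CfsgLib.odd_card_oddCore (G := K ⧸ zpowers xK)
    refine hne (orderOf_eq_one_iff.mp (Nat.eq_one_of_dvd_coprimes (Nat.coprime_two_left.mpr hodd)
      (orderOf_dvd_of_pow_eq_one h2) (orderOf_dvd_natCard _ hmem)))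
  · exfalso
    rw [Nat.card_congr e.toEquiv, Nat.card_perm, Nat.card_fin] at hcardK
    have h1 : K.index ≤ 712448 := by rw [← cnt_three_eq hc]; exact CfsgM11Det.index_le_count hxG
    have h2 := K.card_mul_index
    rw [hcardK, hc.card, show Nat.factorial 4 = 24 from rfl] at h2
    omega
  · exfalso
    rw [Nat.card_congr e.toEquiv, Nat.card_perm, Nat.card_fin] at hcardK
    obtain ⟨c, hcr⟩ := P.three_real hx
    exact no_cent_360 hc hxG ⟨(c : G), congrArg Subtype.val hcr⟩ hcardK
  · haveI := sl3_facts.1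
    refine hsimple e.isSimpleGroup ?_ ?_ <;> rw [Nat.card_congr e.toEquiv, sl3_facts.2] <;> norm_num
  · haveI : IsSimpleGroup (alternatingGroup (Fin 6)) :=
      alternatingGroup.isSimpleGroup (by rw [Nat.card_fin]; norm_num)
    have h360 : Nat.card (K ⧸ zpowers xK) = 360 := by
      rw [Nat.card_congr e.toEquiv, nat_card_alternatingGroup, Nat.card_fin]; rfl
    exact hsimple e.isSimpleGroup (by omega) (by rw [h360]; norm_num)

end CfsgM24Det
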