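/-
Two normal elementary abelian subgroups of order sixteen in the centraliser.
-/
import Cfsg.Agent.Lib.M24Det.FusionX
import Cfsg.Agent.Lib.HeldShape.Affine

set_option autoImplicit false
set_option linter.style.haveILetI false
set_option linter.unusedSectionVars false
set_option maxRecDepth 20000

namespace CfsgM24Det

open Subgroup CfsgLib.SameOrderCounts
open CfsgLib.Order168Model (T)
open scoped Pointwise

variable {G : Type*} [Group G] [Finite G] {s : G}

/-- The conjugates by the powers of an element. -/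
def orb (w t : Cz s) (i : ℕ) : Cz s := w ^ i * t * (w ^ i)⁻¹

/-- An involution of the kernel fixed by the element of order three, with a small class. -/
structure Seed (P : Pk s) (x t : Cz s) : Prop where
  mem : t ∈ P.F.ker
  fix : Commute t x
  sq : t * t = 1
  ne_one : t ≠ 1
  ne_z : t ≠ zC s
  cls : Nat.card {v : Cz s // IsConj t v} ≤ 28

/-- The group generated by the conjugates and the central involution. -/
def fam (w t : Cz s) : Subgroup (Cz s) := closure (insert (zC s) (Set.range (orb w t)))

theorem orb_zero (w t : Cz s) : orb w t 0 = t := by simp [orb]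

theorem orb_add (w t : Cz s) (a b : ℕ) : orb w t (a + b) = w ^ a * orb w t b * (w ^ a)⁻¹ := by
  simp only [orb, pow_add]; group

theorem orb_mod {w : Cz s} (hw : orderOf w = 7) (t : Cz s) (i : ℕ) : orb w t (i % 7) = orb w t i := by
  simp only [orb]
  rw [← hw, pow_mod_orderOf]

theorem orb_x {w x : Cz s} (hxw : x * w * x⁻¹ = w ^ 2) (u : Cz s) (i : ℕ) :
    x * orb w u i * x⁻¹ = orb w (x * u * x⁻¹) (2 * i) := by
  simp only [orb]
  rw [pow_mul, ← hxw, conj_pow]
  group

namespace Pk

variable (P : Pk s)
include P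

theorem orb_mem {w u : Cz s} (hu : u ∈ P.F.ker) (i : ℕ) : orb w u i ∈ P.F.ker :=
  (inferInstance : P.F.ker.Normal).conj_mem u hu _

theorem orb_inj {w : Cz s} (hw : orderOf w = 7) {u : Cz s} (hu : u ∈ P.F.ker) (hu1 : u ≠ 1) (huz : u ≠ zC s)
    {i j : ℕ} (hi : i < 7) (hj : j < 7) :
    (orb w u i = orb w u j → i = j) ∧ orb w u i ≠ orb w u j * zC s := by
  have hd : ∀ d : ℕ, ¬ 7 ∣ d → orderOf (w ^ d) = 7 := fun d hd => by
    rw [orderOf_pow, hw]
    rw [((Nat.Prime.coprime_iff_not_dvd (by norm_num)).mpr hd).gcd_eq_one, Nat.div_one]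
  have hfix : ∀ d : ℕ, ¬ 7 ∣ d → orb w u d ≠ u ∧ orb w u d ≠ u * zC s := by
    intro d h7
    refine ⟨fun e => ?_, fun e => P.comm_of_mod (hd d h7) (by norm_num) e⟩
    rcases P.fixed_seven (hd d h7) hu
      ((show Commute (w ^ d) u from mul_inv_eq_iff_eq_mul.mp e).symm) with h | h
    · exact hu1 h
    · exact huz h
  have hinv : ∀ a d : ℕ, (orb w u (a + d) = orb w u a → orb w u d = u) ∧
      (orb w u (a + d) = orb w u a * zC s → orb w u d = u * zC s) := by
    intro a d
    rw [orb_add]
    refine ⟨fun e => ?_, fun e => ?_⟩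
    · exact mul_left_cancel (mul_right_cancel e)
    · refine mul_left_cancel (mul_right_cancel (b := (w ^ a)⁻¹) (e.trans ?_))
      simp only [orb]
      rw [mul_assoc _ (w ^ a)⁻¹, ← (zC_comm ((w ^ a)⁻¹)).eq]
      group
  refine ⟨fun e => ?_, fun e => ?_⟩
  · by_contra hne
    rcases Nat.lt_or_gt_of_ne hne with h | h
    · obtain ⟨d, rfl⟩ := Nat.le.dest h.le
      exact (hfix d (by omega)).1 ((hinv i d).1 e.symm)
    · obtain ⟨d, rfl⟩ := Nat.le.dest h.le
      exact (hfix d (by omega)).1 ((hinv j d).1 e)
  · rcases Nat.lt_trichotomy i j with h | h | h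
    · obtain ⟨d, rfl⟩ := Nat.le.dest h.le
      refine (hfix d (by omega)).2 ((hinv i d).2 ?_)
      rw [e, mul_assoc, P.z_sq, mul_one]
    · subst h
      refine P.z_ne_one (mul_left_cancel (a := orb w u i) ?_)
      rw [mul_one]; exact e.symm
    · obtain ⟨d, rfl⟩ := Nat.le.dest h.le
      exact (hfix d (by omega)).2 ((hinv j d).2 e)

/-- A set holding the conjugates and their products with the central involution has fourteen elements at least. -/
theorem orb_two {w : Cz s} (hw : orderOf w = 7) {u : Cz s} (hu : u ∈ P.F.ker) (hu1 : u ≠ 1) (huz : u ≠ zC s) :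
    Function.Injective (fun p : Fin 7 × Bool => if p.2 then orb w u p.1 * zC s else orb w u p.1) := by
  rintro ⟨i, b⟩ ⟨j, b'⟩ e
  obtain ⟨h1, h2⟩ := P.orb_inj hw hu hu1 huz i.2 j.2
  obtain ⟨-, h3⟩ := P.orb_inj hw hu hu1 huz j.2 i.2
  cases b <;> cases b' <;> simp at e
  · exact Prod.ext (Fin.ext (h1 e)) rfl
  · exact absurd e h2
  · exact absurd e.symm h3
  · exact Prod.ext (Fin.ext (h1 e)) rfl

end Pk

variable {P : Pk s}

theorem Seed.orb_comm (E : P.Es) {w x t : Cz s} (hw : orderOf w = 7) (hxw : x * w * x⁻¹ = w ^ 2)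
    (S : Seed P x t) : ∀ i j : ℕ, Commute (orb w t i) (orb w t j) := by
  have h7 : w ^ 7 = 1 := by rw [← hw, pow_orderOf_eq_one]
  set v := orb w t
  have hv0 : v 0 = t := orb_zero w t
  have hshift : ∀ a i j, Commute (v i) (v j) ↔ Commute (v (a + i)) (v (a + j)) := fun a i j => by
    simp only [v, orb_add]
    exact (Commute.conj_iff (w ^ a)).symm
  have hdouble : ∀ i j, Commute (v i) (v j) ↔ Commute (v (2 * i)) (v (2 * j)) := fun i j => by
    have e : ∀ k, v (2 * k) = x * v k * x⁻¹ := fun k => by
      simp only [v, orb_x hxw, show x * t * x⁻¹ = t by rw [← S.fix.eq, mul_inv_cancel_right]]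
    rw [e, e]
    exact (Commute.conj_iff x).symm
  have hmod : ∀ i, v (i % 7) = v i := orb_mod hw t
  have hneg : ∀ k, k < 7 → (Commute (v 0) (v k) ↔ Commute (v 0) (v (7 - k))) := fun k hk => by
    rw [hshift (7 - k) 0 k, Nat.add_zero, Nat.sub_add_cancel hk.le, ← hmod 7]
    exact ⟨Commute.symm, Commute.symm⟩
  by_cases h1 : Commute (v 0) (v 1)
  · have hk : ∀ k, k < 7 → Commute (v 0) (v k) := by
      intro k hk
      have h2 : Commute (v 0) (v 2) := (hdouble 0 1).mp h1
      have h4 : Commute (v 0) (v 4) := (hdouble 0 2).mp h2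
      interval_cases k
      · exact Commute.refl _
      · exact h1
      · exact h2
      · exact (hneg 3 (by norm_num)).mpr h4
      · exact h4
      · exact (hneg 5 (by norm_num)).mpr h2
      · exact (hneg 6 (by norm_num)).mpr h1
    intro i j
    rcases le_total i j with h | h
    · obtain ⟨d, rfl⟩ := Nat.le.dest h
      have := (hshift i 0 d).mp ((hmod d) ▸ hk (d % 7) (Nat.mod_lt _ (by norm_num)))
      simpa using this
    · obtain ⟨d, rfl⟩ := Nat.le.dest h
      have := (hshift j 0 d).mp ((hmod d) ▸ hk (d % 7) (Nat.mod_lt _ (by norm_num)))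
      exact (by simpa using this.symm)
  exfalso
  have hk : ∀ k, 0 < k → k < 7 → ¬ Commute (v 0) (v k) := by
    intro k h0 hk
    have e2 : Commute (v 0) (v 2) ↔ Commute (v 0) (v 4) := hdouble 0 2
    have e1 : Commute (v 0) (v 1) ↔ Commute (v 0) (v 2) := hdouble 0 1
    interval_cases k
    · exact h1
    · exact fun h => h1 (e1.mpr h)
    · exact fun h => h1 (e1.mpr (e2.mpr ((hneg 3 (by norm_num)).mp h)))
    · exact fun h => h1 (e1.mpr (e2.mpr h))
    · exact fun h => h1 (e1.mpr ((hneg 5 (by norm_num)).mp h))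
    · exact fun h => h1 ((hneg 6 (by norm_num)).mp h)
  have hanti : ∀ i j, i < j → j < 7 → v j * v i = zC s * (v i * v j) := by
    intro i j hij hj
    refine (E.comm _ (P.orb_mem S.mem j) _ (P.orb_mem S.mem i)).resolve_left fun h => ?_
    obtain ⟨d, rfl⟩ := Nat.le.dest hij.le
    exact hk d (by omega) (by omega) ((hshift i 0 d).mpr (by simpa using (show Commute (v (i + d)) (v i) from h).symm))
  let Pn : ℕ → Cz s := fun n => ((List.range n).map v).prod
  have hPs : ∀ n, Pn (n + 1) = Pn n * v n := fun n => by simp [Pn, List.range_succ]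
  have hzc := fun b => (zC_comm (s := s) b).eq
  have hswap : ∀ n k, n ≤ k → k < 7 → v k * Pn n = zC s ^ n * (Pn n * v k) := by
    intro n
    induction n with
    | zero => intro k _ _; simp [Pn]
    | succ n ih =>
      intro k hnk hk7
      rw [hPs, ← mul_assoc, ih k (by omega) hk7, pow_succ]
      calc zC s ^ n * (Pn n * v k) * v n = zC s ^ n * (Pn n * (v k * v n)) := by group
        _ = zC s ^ n * (Pn n * (zC s * (v n * v k))) := by rw [hanti n k (by omega) hk7]
        _ = zC s ^ n * (zC s * (Pn n * v n * v k)) := by rw [← mul_assoc (Pn n), ← hzc (Pn n)]; group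
        _ = zC s ^ n * zC s * (Pn n * v n * v k) := by group
  have hv2 : ∀ n, v n * v n = 1 := fun n => by
    simp only [v, orb]
    rw [show w ^ n * t * (w ^ n)⁻¹ * (w ^ n * t * (w ^ n)⁻¹) = w ^ n * (t * t) * (w ^ n)⁻¹ by group, S.sq]
    group
  have hsq : ∀ n, n ≤ 7 → Pn n * Pn n = zC s ^ ((Finset.range n).sum id) := by
    intro n
    induction n with
    | zero => intro _; simp [Pn]
    | succ n ih =>
      intro hn
      rw [hPs, show Pn n * v n * (Pn n * v n) = Pn n * (v n * Pn n) * v n by group,
        hswap n n le_rfl (by omega), ← mul_assoc (Pn n), ← ((zC_comm (Pn n)).pow_left n).eq,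
        show zC s ^ n * Pn n * (Pn n * v n) * v n = zC s ^ n * (Pn n * Pn n) * (v n * v n) by group, ih (by omega),
        hv2, mul_one, ← pow_add, Finset.sum_range_succ, add_comm, id]
  have h21 : Pn 7 * Pn 7 = zC s := by
    rw [hsq 7 le_rfl, show (Finset.range 7).sum id = 2 * 10 + 1 from rfl, pow_add, pow_mul, pow_two, P.z_sq,
      one_pow, one_mul, pow_one]
  have hker : ∀ n, Pn n ∈ P.F.ker := by
    intro n
    induction n with
    | zero => simp [Pn]
    | succ n ih => rw [hPs]; exact mul_mem ih (P.orb_mem S.mem n)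
  have hrot : ∀ n, v 0 * (w * Pn n * w⁻¹) = Pn n * v n := by
    intro n
    induction n with
    | zero => simp [Pn]
    | succ n ih =>
      rw [hPs, show v 0 * (w * (Pn n * v n) * w⁻¹) = v 0 * (w * Pn n * w⁻¹) * (w * v n * w⁻¹) by group, ih,
        show w * v n * w⁻¹ = v (n + 1) by rw [add_comm]; simp [v, orb_add]]
  have h70 : v 7 = v 0 := by rw [← hmod 7]
  have hcom : Commute w (Pn 7) := by
    have h := hrot 7
    rw [h70] at h
    rcases E.comm _ (P.orb_mem S.mem 0) _ (hker 7) with e | e
    · exact mul_inv_eq_iff_eq_mul.mp (mul_left_cancel (h.trans e.symm))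
    · refine (P.comm_of_mod hw (by norm_num) (q := Pn 7) (mul_left_cancel (a := v 0) (h.trans ?_))).elim
      change v 0 * Pn 7 = zC s * (Pn 7 * v 0) at e
      rw [← mul_assoc, e, mul_assoc, ← hzc (Pn 7 * v 0), ← mul_assoc, P.z_sq, one_mul]
  rcases P.fixed_seven hw (hker 7) hcom.symm with e | e <;> rw [e] at h21
  · rw [one_mul] at h21; exact P.z_ne_one h21.symm
  · rw [P.z_sq] at h21; exact P.z_ne_one h21.symm

/-- The elementary abelian subgroup of a seed. -/
structure Fam (P : Pk s) (w x t : Cz s) : Prop where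
  le : fam w t ≤ P.F.ker
  sq : ∀ a ∈ fam w t, a * a = 1
  card : Nat.card (fam w t) = 16
  elts : ∀ a ∈ fam w t, a = 1 ∨ a = zC s ∨ ∃ i < 7, a = orb w t i ∨ a = orb w t i * zC s

theorem fam_z (w t : Cz s) : zC s ∈ fam w t := subset_closure (Set.mem_insert _ _)

theorem fam_orb (w t : Cz s) (i : ℕ) : orb w t i ∈ fam w t :=
  subset_closure (Set.mem_insert_of_mem _ ⟨i, rfl⟩)

theorem fam_self (w t : Cz s) : t ∈ fam w t := by have := fam_orb w t 0; rwa [orb_zero] at this

theorem Seed.family (E : P.Es) {w x t : Cz s} (hw : orderOf w = 7) (hxw : x * w * x⁻¹ = w ^ 2)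
    (S : Seed P x t) : Fam P w x t := by
  classical
  have hcm := S.orb_comm E hw hxw
  have hv2 : ∀ n, orb w t n * orb w t n = 1 := fun n => by
    simp only [orb]
    rw [show w ^ n * t * (w ^ n)⁻¹ * (w ^ n * t * (w ^ n)⁻¹) = w ^ n * (t * t) * (w ^ n)⁻¹ by group, S.sq]
    group
  have hle : fam w t ≤ P.F.ker := (closure_le _).mpr (by
    rintro _ (rfl | ⟨i, rfl⟩)
    · exact P.z_mem
    · exact P.orb_mem S.mem i)
  have hab : ∀ a ∈ fam w t, ∀ b ∈ fam w t, a * b = b * a := by
    intro a ha b hb
    exact (closure_induction₂ (p := fun a b _ _ => Commute a b) (by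
      rintro _ _ (rfl | ⟨i, rfl⟩) (rfl | ⟨j, rfl⟩)
      · exact Commute.refl _
      · exact zC_comm _
      · exact (zC_comm _).symm
      · exact hcm i j)
      (fun _ _ => Commute.one_left _) (fun _ _ => Commute.one_right _)
      (fun _ _ _ _ _ _ h1 h2 => h1.mul_left h2) (fun _ _ _ _ _ _ h1 h2 => h1.mul_right h2)
      (fun _ _ _ _ h => h.inv_left) (fun _ _ _ _ h => h.inv_right) ha hb).eq
  have hsq : ∀ a ∈ fam w t, a * a = 1 := by
    intro a ha
    induction ha using closure_induction with
    | mem a ha =>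
      rcases ha with rfl | ⟨i, rfl⟩
      · exact P.z_sq
      · exact hv2 i
    | one => exact one_mul 1
    | mul a b ha' hb' iha ihb =>
      rw [show a * b * (a * b) = a * (b * a) * b by group, hab b hb' a ha',
        show a * (a * b) * b = a * a * (b * b) by group, iha, ihb, one_mul]
    | inv a ha' iha => rw [← mul_inv_rev, iha, inv_one]
  let Φ : (Fin 7 × Bool) ⊕ Bool → fam w t := fun p => match p with
    | .inl (i, b) => ⟨if b then orb w t i * zC s else orb w t i, by
        split
        · exact mul_mem (fam_orb w t i) (fam_z w t)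
        · exact fam_orb w t i⟩
    | .inr b => ⟨if b then zC s else 1, by
        split
        · exact fam_z w t
        · exact one_mem _⟩
  have hne : ∀ i : ℕ, ∀ b b' : Bool, (if b then orb w t i * zC s else orb w t i) ≠ (if b' then zC s else 1) := by
    intro i b b' e
    have h : orb w t i = 1 ∨ orb w t i = zC s := by
      cases b <;> cases b' <;> simp at e
      · exact Or.inl e
      · exact Or.inr e
      · exact Or.inr (by rw [← mul_one (orb w t i), ← P.z_sq, ← mul_assoc, e, one_mul])
      · exact Or.inl e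
    simp only [orb] at h
    rcases h with h | h
    · exact S.ne_one (conj_eq_one_iff.mp h)
    · refine S.ne_z ?_
      rw [mul_inv_eq_iff_eq_mul, (zC_comm (w ^ i)).eq] at h
      exact mul_left_cancel h
  have hinj : Function.Injective Φ := by
    rintro (p | b) (q | b') e <;> have e' := congrArg Subtype.val e
    · exact congrArg Sum.inl (P.orb_two hw S.mem S.ne_one S.ne_z (a₁ := p) (a₂ := q) e')
    · exact absurd e' (hne _ _ _)
    · exact absurd e'.symm (hne _ _ _)
    · cases b <;> cases b' <;> simp [Φ] at e'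
      · rfl
      · exact absurd e'.symm P.z_ne_one
      · exact absurd e' P.z_ne_one
      · rfl
  have h16 : Nat.card (fam w t) = 16 := by
    refine le_antisymm (E.abelian_le hle (fam_z w t) hab) ?_
    refine le_trans ?_ (Nat.card_le_card_of_injective Φ hinj)
    simp
  refine ⟨hle, hsq, h16, fun a ha => ?_⟩
  obtain ⟨p, hp⟩ := (hinj.bijective_of_nat_card_le (by rw [h16]; simp)).2 ⟨a, ha⟩
  have hp' : ((Φ p : fam w t) : Cz s) = a := congrArg Subtype.val hp
  rcases p with ⟨i, b⟩ | b
  · refine Or.inr (Or.inr ⟨i, i.2, ?_⟩)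
    cases b
    · exact Or.inl hp'.symm
    · exact Or.inr hp'.symm
  · cases b
    · exact Or.inl hp'.symm
    · exact Or.inr (Or.inl hp'.symm)

theorem fam_conj_w {w : Cz s} (t : Cz s) : ∀ a ∈ fam w t, w * a * w⁻¹ ∈ fam w t := by
  intro a ha
  induction ha using closure_induction with
  | mem a ha =>
    rcases ha with rfl | ⟨i, rfl⟩
    · rw [← (zC_comm w).eq, mul_inv_cancel_right]; exact fam_z w t
    · have h := orb_add w t 1 i
      rw [pow_one] at h
      rw [← h]
      exact fam_orb w t _
  | one => simp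
  | mul a b _ _ iha ihb => rw [← conj_mul]; exact mul_mem iha ihb
  | inv a _ iha => rw [← conj_inv]; exact inv_mem iha

/-- Everything needed about the two subgroups. -/
theorem Seed.fam_normal (E : P.Es) {w x t t' : Cz s} (hw : orderOf w = 7) (hx : orderOf x = 3)
    (hxw : x * w * x⁻¹ = w ^ 2) (S : Seed P x t) (S' : Seed P x t') (hne : t * t' ≠ t' * t) :
    (fam w t).Normal ∧ (∀ a ∈ fam w t, a ∈ fam w t' → a = 1 ∨ a = zC s) ∧
      ∀ c : Cz s, (∀ a ∈ fam w t, c * a = a * c) → c ∈ P.F.ker := by
  classical
  set A := fam w t with hA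
  set B := fam w t' with hB
  have fA : Fam P w x t := S.family E hw hxw
  have fB : Fam P w x t' := S'.family E hw hxw
  have hab : ∀ {H : Subgroup (Cz s)}, (∀ a ∈ H, a * a = 1) → ∀ a ∈ H, ∀ b ∈ H, a * b = b * a :=
    fun h a ha b hb => CfsgLib.HeldShape.comm_of_sq h ha hb
  have hwA : ∀ (n : ℕ), ∀ a ∈ A, w ^ n * a * (w ^ n)⁻¹ ∈ A := by
    intro n
    induction n with
    | zero => intro a ha; simpa using ha
    | succ n ih =>
      intro a ha
      rw [pow_succ', show w * w ^ n * a * (w * w ^ n)⁻¹ = w * (w ^ n * a * (w ^ n)⁻¹) * w⁻¹ by group]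
      exact fam_conj_w t _ (ih a ha)
  have ht'A : t' ∉ A := fun h => hne (hab fA.sq _ (fam_self w t) _ h)
  have horbA : ∀ i, orb w t' i ∈ A → False := fun i h => by
    refine ht'A ?_
    have h' := hwA (7 * i - i) _ h
    rw [← orb_add, show 7 * i - i + i = 0 + 7 * i by omega, orb_add, pow_zero, one_mul, inv_one, mul_one,
      ← orb_mod hw, Nat.mul_mod_right, orb_zero] at h'
    exact h'
  have hinf : ∀ a ∈ A, a ∈ B → a = 1 ∨ a = zC s := by
    intro a ha hb
    rcases fB.elts a hb with e | e | ⟨i, -, e | e⟩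
    · exact Or.inl e
    · exact Or.inr e
    · exact (horbA i (e ▸ ha)).elim
    · refine (horbA i ?_).elim
      have := mul_mem (e ▸ ha) (fam_z w t)
      rwa [mul_assoc, P.z_sq, mul_one] at this
  -- the class
  have hKz : ∀ u : Cz s, IsConj t u → IsConj t (u * zC s) := by
    intro u hu
    obtain ⟨g, rfl⟩ := isConj_iff.mp hu
    refine hu.trans (isConj_iff.mpr ⟨g * t' * g⁻¹, ?_⟩)
    have e : t' * t = zC s * (t * t') :=
      (E.comm t' S'.mem t S.mem).resolve_left fun h => hne h.symm
    calc g * t' * g⁻¹ * (g * t * g⁻¹) * (g * t' * g⁻¹)⁻¹ = g * (t' * t) * t'⁻¹ * g⁻¹ := by group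
      _ = g * zC s * t * g⁻¹ := by rw [e]; group
      _ = g * t * (zC s * g⁻¹) := by rw [mul_assoc g, (zC_comm t).eq]; group
      _ = g * t * g⁻¹ * zC s := by rw [(zC_comm g⁻¹).eq]; group
  have hAcls : ∀ a ∈ A, a ≠ 1 → a ≠ zC s → IsConj t a := by
    intro a ha h1 hz
    rcases fA.elts a ha with e | e | ⟨i, -, e | e⟩
    · exact absurd e h1
    · exact absurd e hz
    · rw [e]; exact isConj_iff.mpr ⟨_, rfl⟩
    · rw [e]; exact hKz _ (isConj_iff.mpr ⟨_, rfl⟩)
  have hkerK : ∀ u : Cz s, IsConj t u → u ∈ P.F.ker ∧ u * u = 1 ∧ u ≠ 1 ∧ u ≠ zC s := by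
    intro u hu
    obtain ⟨g, rfl⟩ := isConj_iff.mp hu
    refine ⟨(inferInstance : P.F.ker.Normal).conj_mem _ S.mem g, ?_, fun e => S.ne_one (conj_eq_one_iff.mp e),
      fun e => S.ne_z ?_⟩
    · rw [show g * t * g⁻¹ * (g * t * g⁻¹) = g * (t * t) * g⁻¹ by group, S.sq]; group
    · rw [mul_inv_eq_iff_eq_mul, (zC_comm g).eq] at e
      exact mul_left_cancel e
  let Kt := {u : Cz s // IsConj t u}
  have hout : Nat.card {u : Kt // u.1 ∉ A} ≤ 14 := by
    have h1 := Nat.card_congr (Equiv.sumCompl fun u : Kt => u.1 ∈ A)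
    rw [Nat.card_sum] at h1
    have h2 : 14 ≤ Nat.card {u : Kt // u.1 ∈ A} := by
      refine le_trans (by simp) (Nat.card_le_card_of_injective (fun p : Fin 7 × Bool =>
        (⟨⟨if p.2 then orb w t p.1 * zC s else orb w t p.1, ?_⟩, ?_⟩ : {u : Kt // u.1 ∈ A}))
        fun p q e => P.orb_two hw S.mem S.ne_one S.ne_z
          (congrArg (fun r : {u : Kt // u.1 ∈ A} => r.1.1) e))
      · split
        · exact hKz _ (isConj_iff.mpr ⟨_, rfl⟩)
        · exact isConj_iff.mpr ⟨_, rfl⟩
      · show (if p.2 then orb w t p.1 * zC s else orb w t p.1) ∈ A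
        split
        · exact mul_mem (fam_orb w t _) (fam_z w t)
        · exact fam_orb w t _
    have h28 := S.cls
    change Nat.card Kt ≤ 28 at h28
    omega
  have hT8 : ∀ u ∈ P.F.ker, Commute u x → u * u = 1 → u = 1 ∨ u = zC s ∨ u ∈ A ∨ u ∈ B := by
    intro u hu hux hu2
    set T8 := P.F.ker ⊓ centralizer ({x} : Set (Cz s))
    have hT8c : Nat.card T8 = 8 := P.card_fix_three hx hw hxw
    have mT : ∀ a, a ∈ P.F.ker → Commute a x → a ∈ T8 := fun a ha hax =>
      ⟨ha, mem_centralizer_singleton_iff.mpr hax.eq⟩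
    have htt : t * t' ∈ T8 := mT _ (mul_mem S.mem S'.mem) (S.fix.mul_left S'.fix)
    have hzT : zC s ∈ T8 := mT _ P.z_mem (zC_comm x)
    have e : t * t' = zC s * (t' * t) := (E.comm t S.mem t' S'.mem).resolve_left hne
    have hsqn : ∀ b : Bool, (t * t' * if b then zC s else 1) * (t * t' * if b then zC s else 1) = zC s := by
      have h0 : t * t' * (t * t') = zC s := by
        calc t * t' * (t * t') = zC s * (t' * t) * (t * t') := by rw [← e]
          _ = zC s * (t' * (t * t) * t') := by group
          _ = zC s := by rw [S.sq, mul_one, S'.sq, mul_one]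
      intro b
      cases b
      · simpa using h0
      · simp only [if_true]
        rw [← (zC_comm (t * t')).eq, show zC s * (t * t') * (zC s * (t * t')) =
          zC s * ((t * t') * zC s) * (t * t') by group, ← (zC_comm (t * t')).eq,
          show zC s * (zC s * (t * t')) * (t * t') = (zC s * zC s) * (t * t' * (t * t')) by group, h0, P.z_sq,
          one_mul]
    let base : Fin 4 → Cz s := ![1, t, t', t * t']
    have hb : ∀ i, base i ∈ T8 := by
      intro i; fin_cases i
      · exact one_mem _
      · exact mT _ S.mem S.fix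
      · exact mT _ S'.mem S'.fix
      · exact htt
    let Ψ : Fin 4 × Bool → T8 := fun p => ⟨base p.1 * if p.2 then zC s else 1, mul_mem (hb p.1) (by
      split
      · exact hzT
      · exact one_mem _)⟩
    have hinj : Function.Injective Ψ := by
      rintro ⟨i, b⟩ ⟨j, b'⟩ e'
      have e'' : base i * (if b then zC s else 1) = base j * (if b' then zC s else 1) := congrArg Subtype.val e'
      have hd : ∃ c : Bool, (base j)⁻¹ * base i = if c then zC s else 1 := by
        cases b <;> cases b' <;> simp at e''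
        · exact ⟨false, by simp [e'']⟩
        · exact ⟨true, by simp [e'']⟩
        · exact ⟨true, by
            have h := congrArg (· * zC s) e''
            simp only [mul_assoc, P.z_sq, mul_one] at h
            simp [h]⟩
        · exact ⟨false, by simp [e'']⟩
      have hij : i = j := by
        have hA' : ∀ c : Bool, (if c then zC s else 1) ∈ A ∧ (if c then zC s else 1) ∈ B := fun c => by
          cases c
          · exact ⟨one_mem _, one_mem _⟩
          · exact ⟨fam_z w t, fam_z w t'⟩
        obtain ⟨c, hc⟩ := hd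
        have hi : base i = base j * if c then zC s else 1 := by rw [← hc, mul_inv_cancel_left]
        have n0 : ∀ c' : Bool, (1 : Cz s) * (if c' then zC s else 1) ≠ t := fun c' h => by
          cases c' <;> simp at h
          · exact S.ne_one h.symm
          · exact S.ne_z h.symm
        have n1 : ∀ c' : Bool, (1 : Cz s) * (if c' then zC s else 1) ≠ t' := fun c' h => by
          cases c' <;> simp at h
          · exact S'.ne_one h.symm
          · exact S'.ne_z h.symm
        have n2 : ∀ a b : Cz s, a ∈ A → b ∉ A → b ≠ a * if c then zC s else 1 := fun a b ha hb' h =>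
          hb' (h ▸ mul_mem ha (hA' c).1)
        have htt'A : t * t' ∉ A := fun h => ht'A (by
          have := mul_mem (inv_mem (fam_self w t)) h
          rwa [inv_mul_cancel_left] at this)
        have hcc : (if c then zC s else 1) * (if c then zC s else 1) = 1 := by
          cases c
          · simp
          · exact P.z_sq
        have hi' : base j = base i * if c then zC s else 1 := by rw [hi, mul_assoc, hcc, mul_one]
        have n3 : t * t' ≠ t' * if c then zC s else 1 := fun h => by
          refine (show ∀ c' : Bool, (1 : Cz s) * (if c' then zC s else 1) ≠ t from n0) c ?_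
          rw [one_mul]
          have hc2 : t' * (if c then zC s else 1) = (if c then zC s else 1) * t' := by
            cases c
            · simp
            · exact (zC_comm t').symm.eq
          exact (mul_right_cancel (h.trans hc2)).symm
        fin_cases i <;> fin_cases j <;> simp only [base] at hi hi' ⊢ <;>
          first
          | rfl
          | exact absurd hi.symm (n0 c)
          | exact absurd hi'.symm (n0 c)
          | exact absurd hi.symm (n1 c)
          | exact absurd hi'.symm (n1 c)
          | exact absurd hi (n2 _ _ (fam_self w t) ht'A)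
          | exact absurd hi' (n2 _ _ (fam_self w t) ht'A)
          | exact absurd hi (n2 _ _ (one_mem _) htt'A)
          | exact absurd hi' (n2 _ _ (one_mem _) htt'A)
          | exact absurd hi (n2 _ _ (fam_self w t) htt'A)
          | exact absurd hi' (n2 _ _ (fam_self w t) htt'A)
          | exact absurd hi n3
          | exact absurd hi' n3
      subst hij
      refine Prod.ext rfl ?_
      cases b <;> cases b' <;> simp at e'' ⊢
      · exact P.z_ne_one e''
      · exact P.z_ne_one e''
    obtain ⟨⟨i, b⟩, hp⟩ := (hinj.bijective_of_nat_card_le (by rw [hT8c]; simp)).2 ⟨u, mT u hu hux⟩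
    have hp' : base i * (if b then zC s else 1) = u := congrArg Subtype.val hp
    rw [← hp']
    fin_cases i
    · cases b
      · left; simp [base]
      · right; left; simp [base]
    · refine Or.inr (Or.inr (Or.inl (mul_mem (fam_self w t) ?_)))
      split
      · exact fam_z w t
      · exact one_mem _
    · refine Or.inr (Or.inr (Or.inr (mul_mem (fam_self w t') ?_)))
      split
      · exact fam_z w t'
      · exact one_mem _
    · exfalso
      rw [← hp'] at hu2
      exact P.z_ne_one ((hsqn b).symm.trans hu2)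
  -- the class lies in the union
  have hKu : ∀ u : Cz s, IsConj t u → u ∈ A ∨ u ∈ B := by
    intro u hu
    by_cases huA : u ∈ A
    · exact Or.inl huA
    obtain ⟨huk, hu2, hu1, huz⟩ := hkerK u hu
    let Φ : Fin 7 × Bool → {u : Kt // u.1 ∉ A} := fun p =>
      ⟨⟨if p.2 then orb w u p.1 * zC s else orb w u p.1, by
        split
        · exact hKz _ (hu.trans (isConj_iff.mpr ⟨_, rfl⟩))
        · exact hu.trans (isConj_iff.mpr ⟨_, rfl⟩)⟩, fun h => huA (by
        change (if p.2 then orb w u p.1 * zC s else orb w u p.1) ∈ A at h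
        have h' : orb w u p.1 ∈ A := by
          split at h
          · have := mul_mem h (fam_z w t)
            rwa [mul_assoc, P.z_sq, mul_one] at this
          · exact h
        have h'' := hwA (7 * (p.1 : ℕ) - p.1) _ h'
        rw [← orb_add, show 7 * (p.1 : ℕ) - p.1 + p.1 = 0 + 7 * p.1 by omega, orb_add, pow_zero, one_mul, inv_one,
          mul_one, ← orb_mod hw, Nat.mul_mod_right, orb_zero] at h''
        exact h'')⟩
    have hΦ : Function.Bijective Φ := Function.Injective.bijective_of_nat_card_le
      (fun p q e => P.orb_two hw huk hu1 huz (congrArg (fun r : {u : Kt // u.1 ∉ A} => r.1.1) e))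
      (hout.trans (by simp))
    have hxA : ∀ a, x * a * x⁻¹ ∈ A → a ∈ A := by
      intro a ha
      have hstab : ∀ b ∈ A, x * b * x⁻¹ ∈ A := by
        intro b hb
        rcases fA.elts b hb with e | e | ⟨i, -, e | e⟩
        · rw [e]; simp
        · rw [e, ← (zC_comm x).eq, mul_inv_cancel_right]; exact fam_z w t
        · rw [e, orb_x hxw, show x * t * x⁻¹ = t by rw [← S.fix.eq, mul_inv_cancel_right]]; exact fam_orb w t _
        · rw [e, show x * (orb w t i * zC s) * x⁻¹ = (x * orb w t i * x⁻¹) * (x * zC s * x⁻¹) by group, orb_x hxw,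
            show x * t * x⁻¹ = t by rw [← S.fix.eq, mul_inv_cancel_right],
            show x * zC s * x⁻¹ = zC s by rw [← (zC_comm x).eq, mul_inv_cancel_right]]
          exact mul_mem (fam_orb w t _) (fam_z w t)
      have h3 : x * x * x = 1 := by rw [← pow_three', ← hx, pow_orderOf_eq_one]
      have := hstab _ (hstab _ ha)
      rwa [show x * (x * (x * a * x⁻¹) * x⁻¹) * x⁻¹ = (x * x * x) * a * (x * x * x)⁻¹ by group, h3, one_mul,
        inv_one, mul_one] at this
    obtain ⟨⟨j, b⟩, hj⟩ := hΦ.2 ⟨⟨x * u * x⁻¹, hu.trans (isConj_iff.mpr ⟨x, rfl⟩)⟩, fun h => huA (hxA u h)⟩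
    have hj' : (if b then orb w u j * zC s else orb w u j) = x * u * x⁻¹ :=
      congrArg (fun r : {u : Kt // u.1 ∉ A} => r.1.1) hj
    set k := 6 * (j : ℕ)
    have hmulz : ∀ a n, orb w (a * zC s) n = orb w a n * zC s := fun a n => by
      simp only [orb]
      rw [mul_assoc (w ^ n * a) (w ^ n)⁻¹, ← (zC_comm ((w ^ n)⁻¹)).eq]; group
    have hxu : x * orb w u k * x⁻¹ = if b then orb w u k * zC s else orb w u k := by
      rw [orb_x hxw, ← hj']
      have e : orb w (orb w u j) (2 * k) = orb w u k := by
        rw [show orb w (orb w u j) (2 * k) = orb w u (2 * k + j) by rw [orb_add]; rfl, ← orb_mod hw,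
          ← orb_mod hw u k]
        congr 1; omega
      cases b
      · simp [e]
      · simp [hmulz, e]
    cases b
    · simp at hxu
      have hfix : Commute (orb w u k) x := (show Commute x (orb w u k) from mul_inv_eq_iff_eq_mul.mp hxu).symm
      have h2 : orb w u k * orb w u k = 1 := by
        simp only [orb]
        rw [show w ^ k * u * (w ^ k)⁻¹ * (w ^ k * u * (w ^ k)⁻¹) = w ^ k * (u * u) * (w ^ k)⁻¹ by group, hu2]
        group
      have hback : ∀ (H : Subgroup (Cz s)), (∀ n, ∀ a ∈ H, w ^ n * a * (w ^ n)⁻¹ ∈ H) → orb w u k ∈ H → u ∈ H := by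
        intro H hH h
        have h'' := hH (7 * k - k) _ h
        rwa [← orb_add, show 7 * k - k + k = 0 + 7 * k by omega, orb_add, pow_zero, one_mul, inv_one,
          mul_one, ← orb_mod hw, Nat.mul_mod_right, orb_zero] at h''
      rcases hT8 _ (P.orb_mem huk k) hfix h2 with e | e | e | e
      · exact absurd (conj_eq_one_iff.mp e) hu1
      · refine absurd ?_ huz
        simp only [orb] at e
        rw [mul_inv_eq_iff_eq_mul, (zC_comm (w ^ k)).eq] at e
        exact mul_left_cancel e
      · exact absurd (hback A hwA e) huA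
      · refine Or.inr (hback B (fun n => ?_) e)
        induction n with
        | zero => intro a ha; simpa using ha
        | succ n ih =>
          intro a ha
          rw [pow_succ', show w * w ^ n * a * (w * w ^ n)⁻¹ = w * (w ^ n * a * (w ^ n)⁻¹) * w⁻¹ by group]
          exact fam_conj_w t' _ (ih a ha)
    · simp at hxu
      exact (P.comm_of_mod hx (by norm_num) hxu).elim
  have htrans : ∀ c : Cz s, A.map (MulAut.conj c).toMonoidHom = A ∨ A.map (MulAut.conj c).toMonoidHom = B := by
    intro c
    set H := A.map (MulAut.conj c).toMonoidHom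
    have hHc : Nat.card H = 16 := by rw [card_map_of_injective (MulAut.conj c).injective]; exact fA.card
    have hsub : ∀ a ∈ H, a ∈ A ∨ a ∈ B := by
      rintro _ ⟨a, ha, rfl⟩
      by_cases h1 : a = 1
      · left; rw [h1, map_one]; exact one_mem _
      by_cases hz : a = zC s
      · left; show c * a * c⁻¹ ∈ A
        rw [hz, ← (zC_comm c).eq, mul_inv_cancel_right]; exact fam_z w t
      exact hKu _ ((hAcls a ha h1 hz).trans (isConj_iff.mpr ⟨c, rfl⟩))
    by_cases h1 : H ≤ A
    · exact Or.inl (eq_of_le_of_card_ge h1 (by rw [hHc]; exact fA.card.le))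
    · obtain ⟨a, haH, haA⟩ := SetLike.not_le_iff_exists.mp h1
      refine Or.inr (eq_of_le_of_card_ge (fun b hb => ?_) (by rw [hHc]; exact fB.card.le))
      rcases hsub b hb with hbA | hbB
      · rcases hsub _ (mul_mem haH hb) with h | h
        · exact absurd (by have := mul_mem h (inv_mem hbA); rwa [mul_inv_cancel_right] at this) haA
        · have := mul_mem (inv_mem ((hsub a haH).resolve_left haA)) h
          rwa [inv_mul_cancel_left] at this
      · exact hbB
  set M := normalizer (A : Set (Cz s)) with hM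
  have hmemM : ∀ c, A.map (MulAut.conj c).toMonoidHom = A → c ∈ M := fun c h =>
    mem_normalizer_iff.mpr fun a => by
      conv_rhs => rw [← h]
      exact ⟨fun ha => ⟨a, ha, rfl⟩, fun ⟨b, hb, e⟩ => by
        have e' : c * b * c⁻¹ = c * a * c⁻¹ := e
        rwa [← mul_left_cancel (mul_right_cancel e')]⟩
  have hQM : P.F.ker ≤ M := by
    intro q hq
    refine hmemM q (eq_of_le_of_card_ge ?_ (by rw [card_map_of_injective (MulAut.conj q).injective]))
    rintro _ ⟨a, ha, rfl⟩
    show q * a * q⁻¹ ∈ A
    rcases E.comm q hq a (fA.le ha) with e | e <;> rw [e]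
    · rwa [mul_inv_cancel_right]
    · rw [← mul_assoc, mul_inv_cancel_right]; exact mul_mem (fam_z w t) ha
  have hwM : w ∈ M := hmemM w (eq_of_le_of_card_ge (by rintro _ ⟨a, ha, rfl⟩; exact fam_conj_w t a ha)
    (by rw [card_map_of_injective (MulAut.conj w).injective]))
  have hwk : w ∉ P.F.ker := fun h => by
    have := P.ker_order w h
    rw [hw] at this
    norm_num at this
  haveI := CfsgLib.Order168Model.isSimpleGroup
  have htop : M = ⊤ := by
    by_contra hMtop
    obtain ⟨c0, hc0⟩ : ∃ c, c ∉ M := by
      by_contra h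
      push Not at h
      exact hMtop (eq_top_iff.mpr fun c _ => h c)
    have hB0 : A.map (MulAut.conj c0).toMonoidHom = B := (htrans c0).resolve_left fun h => hc0 (hmemM c0 h)
    have hidx : M.index = 2 := by
      have h2 : M.index ≤ Nat.card Bool := by
        rw [index_eq_card]
        refine Nat.card_le_card_of_surjective (fun b : Bool => ((if b then 1 else c0 : Cz s) : Cz s ⧸ M)) ?_
        intro q
        obtain ⟨c, rfl⟩ := QuotientGroup.mk_surjective q
        rcases htrans c with h | h
        · exact ⟨true, QuotientGroup.eq.mpr (by simpa using hmemM c h)⟩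
        · refine ⟨false, QuotientGroup.eq.mpr (hmemM _ ?_)⟩
          simp only [Bool.false_eq_true, if_false]
          rw [show (MulAut.conj (c0⁻¹ * c)).toMonoidHom =
            (MulAut.conj c0⁻¹).toMonoidHom.comp (MulAut.conj c).toMonoidHom by
              ext a; simp [mul_assoc], ← Subgroup.map_map, h, ← hB0, Subgroup.map_map,
            show (MulAut.conj c0⁻¹).toMonoidHom.comp (MulAut.conj c0).toMonoidHom = MonoidHom.id _ by
              ext a; simp [mul_assoc], Subgroup.map_id]
      have h1 : M.index ≠ 1 := fun h => hMtop (index_eq_one.mp h)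
      have h0 : M.index ≠ 0 := index_ne_zero_of_finite
      rw [Nat.card_eq_fintype_card, Fintype.card_bool] at h2
      omega
    haveI : M.Normal := normal_of_index_eq_two hidx
    haveI : (M.map P.F).Normal := Normal.map inferInstance _ P.surj
    rcases (inferInstance : (M.map P.F).Normal).eq_bot_or_eq_top with e | e
    · exact hwk (MonoidHom.mem_ker.mpr (Subgroup.mem_bot.mp (e ▸ mem_map_of_mem P.F hwM)))
    · refine hMtop ?_
      rw [← sup_eq_left.mpr hQM, ← comap_map_eq, e, comap_top]
  have hnormal : A.Normal := ⟨fun a ha c => (mem_normalizer_iff.mp (htop ▸ mem_top c : c ∈ M) a).mp ha⟩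
  refine ⟨hnormal, hinf, fun c hc => ?_⟩
  haveI := hnormal
  set C := centralizer (A : Set (Cz s))
  haveI : (C.map P.F).Normal := Normal.map inferInstance _ P.surj
  rcases (inferInstance : (C.map P.F).Normal).eq_bot_or_eq_top with e | e
  · exact MonoidHom.mem_ker.mpr (Subgroup.mem_bot.mp (e ▸ mem_map_of_mem P.F
      (mem_centralizer_iff.mpr fun a ha => (hc a ha).symm)))
  · exfalso
    obtain ⟨m, hm, hFm⟩ : P.F w ∈ C.map P.F := e ▸ mem_top _
    have hq : w⁻¹ * m ∈ P.F.ker := by rw [MonoidHom.mem_ker, map_mul, map_inv, hFm, inv_mul_cancel]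
    have hmt : t * m = m * t := mem_centralizer_iff.mp hm t (fam_self w t)
    obtain ⟨h1, h2⟩ := P.orb_inj hw S.mem S.ne_one S.ne_z (i := 1) (j := 0) (by norm_num) (by norm_num)
    simp only [orb, pow_one, pow_zero, one_mul, inv_one, mul_one] at h1 h2
    set q := w⁻¹ * m
    have hmq : m = w * q := by simp [q]
    rw [hmq] at hmt
    rcases E.comm q hq t S.mem with e' | e'
    · refine absurd (h1 ?_) (by norm_num)
      rw [show w * t * w⁻¹ = w * (t * q) * (w * q)⁻¹ by group, ← e',
        show w * (q * t) = w * q * t by group, ← hmt, mul_inv_cancel_right]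
    · refine h2 ?_
      rw [show w * t * w⁻¹ = w * (t * q) * (w * q)⁻¹ by group,
        show t * q = zC s * (q * t) by rw [e', ← mul_assoc (zC s) (zC s), P.z_sq, one_mul],
        show w * (zC s * (q * t)) = (w * zC s) * q * t by group, ← (zC_comm w).eq,
        show zC s * w * q * t = zC s * (w * q * t) by group, ← hmt,
        show zC s * (t * (w * q)) * (w * q)⁻¹ = zC s * t by group, (zC_comm t).eq]

end CfsgM24Det
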