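/-
A group with the order and the element counts of the Mathieu group of degree twenty-four is that group.
-/
import Cfsg.Agent.Lib.M24Det.Shape
import Cfsg.Agent.Lib.HeldRecog.Main
import Cfsg.Agent.S1695

set_option autoImplicit false
set_option linter.style.haveILetI false
set_option linter.unusedSectionVars false
set_option maxRecDepth 20000

namespace CfsgM24Det

open Subgroup CfsgLib.SameOrderCounts
open CfsgLib.Order168Model (T)
open scoped Pointwise

variable {G : Type*} [Group G] [Finite G]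

theorem nonempty_shape (hc : Ctx G) {s : G} (P : Pk s) :
    ∃ Sh : CfsgLib.HeldShape.Shape (Cz s),
      ∃ g : G, ∃ hq : g * s * g⁻¹ ∈ centralizer ({s} : Set G),
        (⟨g * s * g⁻¹, hq⟩ : Cz s) ∈ Sh.R ∧ g * s * g⁻¹ ≠ s := by
  classical
  haveI : Fact (Nat.Prime 7) := ⟨by norm_num⟩
  obtain ⟨w, hw⟩ := exists_prime_orderOf_dvd_card' (G := Cz s) 7 (by rw [P.cardC]; norm_num)
  obtain ⟨x, hx, hxw⟩ := P.exists_trio hw
  have E := P.es hc hw hx hxw
  obtain ⟨g, g', hgx, hg'x, hts, htne, hts', htne', hncomm⟩ := E.exists_fused hc hw hx hxw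
  have S2 := E.second hx hgx hts htne
  have S2' := E.second hx hg'x hts' htne'
  set t := tw g hts with htd
  set t' := tw g' hts' with htd'
  have hS : Seed P x t := ⟨P.tw_mem_ker hts hx hgx, P.tw_comm hts hgx,
    by rw [← pow_two, ← P.tw_ord g hts, pow_orderOf_eq_one], P.tw_ne_one g hts,
    fun e => htne (congrArg Subtype.val e), S2.cls⟩
  have hS' : Seed P x t' := ⟨P.tw_mem_ker hts' hx hg'x, P.tw_comm hts' hg'x,
    by rw [← pow_two, ← P.tw_ord g' hts', pow_orderOf_eq_one], P.tw_ne_one g' hts',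
    fun e => htne' (congrArg Subtype.val e), S2'.cls⟩
  have hne : t * t' ≠ t' * t := fun e => hncomm (congrArg Subtype.val e)
  obtain ⟨hAn, hinf, hcA⟩ := hS.fam_normal E hw hx hxw hS' hne
  obtain ⟨hBn, -, -⟩ := hS'.fam_normal E hw hx hxw hS fun e => hne e.symm
  have fA := hS.family E hw hxw
  have fB := hS'.family E hw hxw
  obtain ⟨D, y, hy, hyt, hy2, hDle, hDsq, hDself, hyD⟩ := S2.wit
  exact ⟨{
    z := zC s
    R := P.F.ker
    A := fam w t
    B := fam w t'
    A_normal := hAn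
    B_normal := hBn
    zz := P.z_sq
    z_ne := P.z_ne_one
    z_comm := fun c => (zC_comm c).symm.eq
    A_le := fA.le
    B_le := fB.le
    z_A := fam_z w t
    z_B := fam_z w t'
    sq_A := fA.sq
    sq_B := fB.sq
    card_A := fA.card
    card_B := fB.card
    card_R := P.cardQ
    inf_AB := hinf
    center_R := E.center
    F := P.F
    F_surj := P.surj
    F_ker := rfl
    cent_A := hcA
    a := t
    a_mem := fam_self w t
    a_ne := hS.ne_one
    a_ne_z := hS.ne_z
    D := D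
    y := y
    y_out := hy
    y_a := hyt
    y_sq := hy2
    D_le := hDle
    D_sq := hDsq
    D_self := hDself
    y_D := hyD }, g, mem_centralizer_singleton_iff.mpr hts.eq, hS.mem, htne⟩

/-- Recognition. -/
theorem nonempty_iso (hc : Ctx G) : Nonempty (G ≃* ↥Cfsg.M24) := by
  classical
  haveI : Fact (Nat.Prime 7) := ⟨by norm_num⟩
  obtain ⟨y, hy⟩ := exists_prime_orderOf_dvd_card' (G := G) 7 (by rw [hc.card]; norm_num)
  obtain ⟨-, h2, -, -⟩ := cent_seven hc hy
  obtain ⟨c, hcs⟩ := cnt_ne_zero.mp (show cnt ↥(centralizer ({y} : Set G)) 2 ≠ 0 by omega)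
  set s : G := (c : G) with hsd
  have hs : orderOf s = 2 := (Subgroup.orderOf_coe c).trans hcs
  obtain ⟨P⟩ := nonempty_pk hc hy hs (mem_centralizer_singleton_iff.mp c.2)
  obtain ⟨Sh, g, hq, hmem, hne⟩ := nonempty_shape hc P
  let v : Matrix.SpecialLinearGroup (Fin 5) (ZMod 2) :=
    ⟨Matrix.transvection 0 1 1, Matrix.det_transvection_of_ne 0 1 (by decide) 1⟩
  obtain ⟨e⟩ := Sh.equiv v rfl
  have hcore : Sh.R ≤ Cfsg.pCore 2 (Cz s) :=
    le_sSup ⟨Sh.R_normal, IsPGroup.of_card (n := 7) (by rw [Sh.card_R]; norm_num)⟩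
  rcases CfsgLib.HeldRecog.outcome_of_iso v rfl s hs e ⟨g, ⟨hq, hcore hmem⟩, hne⟩ with
    ⟨u, -, ⟨f⟩⟩ | ⟨⟨f⟩⟩ | h | ⟨⟨f⟩⟩
  · exfalso
    have h1 := (Nat.card_congr f.toEquiv).symm.trans hc.card
    have h2 := Subgroup.card_subgroup_dvd_card
      (MulAction.stabilizer (Matrix.SpecialLinearGroup (Fin 5) (ZMod 2)) u)
    rw [h1, CfsgLib.HeldRecog.card_SL52] at h2
    norm_num at h2
  · exfalso
    have h1 := (Nat.card_congr f.toEquiv).symm.trans hc.card
    rw [CfsgLib.HeldRecog.card_SL52] at h1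
    norm_num at h1
  · exact h
  · exfalso
    have h1 := (Nat.card_congr f.toEquiv).symm.trans hc.card
    rw [(Cfsg.Agent.S1695.result).2] at h1
    norm_num at h1

end CfsgM24Det
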