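/-
Coded elements of the Mathieu group of degree twenty-four and bounds on centralisers.
-/
import Cfsg.Agent.Lib.Golay.ElemCent
import Cfsg.Agent.Lib.Golay.Out23
import Cfsg.Agent.Lib.M24Det.OrbitS

set_option autoImplicit false
set_option linter.style.haveILetI false
set_option maxRecDepth 20000

namespace CfsgM24Det

open Cfsg CfsgGolay
open scoped Pointwise

attribute [local irreducible] codeL octadL dodecadL slpCodes

/-- The group. -/
abbrev M : Type := ↥Cfsg.M24

/-- A well formed code of an element of the group. -/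
def okC (c : ℕ) : Bool := Nat.blt c (2 ^ 120) && permOK c && gensKept c

theorem okC_spec {c : ℕ} (h : okC c = true) : PValid c ∧ Repr c (permDec c) ∧ permDec c ∈ M24 := by
  simp only [okC, Bool.and_eq_true, Nat.blt_eq] at h
  obtain ⟨hr, hm⟩ := rep_spec (c := c) ⟨h.1.2, h.2⟩
  exact ⟨⟨h.1.1, _, hr⟩, hr, hm⟩

/-- The element with a given code. -/
noncomputable def el (c : ℕ) (h : okC c = true) : M := ⟨permDec c, (okC_spec h).2.2⟩

theorem el_val (c : ℕ) (h : okC c = true) : ((el c h : M) : Equiv.Perm GolayPt) = permDec c := rfl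

/-- The centraliser in the group and in the code's group agree. -/
def centEquivM (t : M) :
    ↥(Subgroup.centralizer ({t} : Set M)) ≃ ↥(centM (t : Equiv.Perm GolayPt)) where
  toFun g := ⟨((g : M) : Equiv.Perm GolayPt), mem_centM.mpr
    ⟨(g : M).2, congrArg Subtype.val (Subgroup.mem_centralizer_singleton_iff.mp g.2)⟩⟩
  invFun g := ⟨⟨g.1, (mem_centM.mp g.2).1⟩,
    Subgroup.mem_centralizer_singleton_iff.mpr (Subtype.ext (mem_centM.mp g.2).2)⟩
  left_inv _ := rfl
  right_inv _ := rfl

theorem card_cent_M (t : M) :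
    Nat.card (Subgroup.centralizer ({t} : Set M)) = Nat.card ↥(centM (t : Equiv.Perm GolayPt)) :=
  Nat.card_congr (centEquivM t)

/-- Iterated application of a code. -/
def papps (c : ℕ) : ℕ → ℕ → ℕ
  | 0, x => x
  | k + 1, x => papp c (papps c k x)

theorem papps_spec {c : ℕ} {g : Equiv.Perm GolayPt} (h : Repr c g) :
    ∀ (k : ℕ) (q : GolayPt), idx ((g ^ k) q) = papps c k (idx q)
  | 0, q => rfl
  | k + 1, q => by rw [pow_succ', Equiv.Perm.mul_apply, h, papps_spec h k]; rfl

/-- The candidate commuting with a code, from its images of orbit representatives. -/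
def cand (c : ℕ) (W : List (ℕ × ℕ)) (t : List ℕ) : ℕ :=
  pack (fun i => papps c (W.getD i (0, 0)).2 (t.getD (W.getD i (0, 0)).1 0) % 32) 24

/-- All lists with entries from the given lists. -/
def tuples : List (List ℕ) → List (List ℕ)
  | [] => [[]]
  | l :: ls => (tuples ls).flatMap fun t => l.map fun a => a :: t

theorem mem_tuples : ∀ (ls : List (List ℕ)) (t : List ℕ), t.length = ls.length →
    (∀ j < ls.length, t.getD j 0 ∈ ls.getD j []) → t ∈ tuples ls
  | [], [], _, _ => by simp [tuples]
  | l :: ls, a :: t, hl, h => by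
    simp only [tuples, List.mem_flatMap, List.mem_map]
    refine ⟨t, mem_tuples ls t (by simpa using hl) (fun j hj => ?_), a, ?_, rfl⟩
    · simpa using h (j + 1) (by simpa using hj)
    · simpa using h 0 (by simp)

/-- The table of orbit positions is correct, and fixed representatives go to fixed points. -/
def coverOK (c : ℕ) (reps : List ℕ) (W : List (ℕ × ℕ)) (opts : List (List ℕ)) : Bool :=
  ((List.range 24).all fun i => Nat.blt (W.getD i (0, 0)).1 reps.length &&
    Nat.beq (papps c (W.getD i (0, 0)).2 (reps.getD (W.getD i (0, 0)).1 0)) i) &&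
  Nat.beq opts.length reps.length && (reps.all fun r => Nat.blt r 24) &&
  (List.range reps.length).all fun j => (List.range 24).all fun x =>
    (opts.getD j []).contains x || (Nat.beq (papp c x) x != Nat.beq (papp c (reps.getD j 0)) (reps.getD j 0))

/-- An element commuting with a coded permutation is one of the candidates. -/
theorem cent_card_le {c : ℕ} {reps : List ℕ} {W : List (ℕ × ℕ)} {opts : List (List ℕ)} {n : ℕ}
    {z : Equiv.Perm GolayPt} (hz : Repr c z) (hW : coverOK c reps W opts = true)
    (hn : ((tuples opts).filter fun t => gensKept (cand c W t)).length = n) :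
    Nat.card ↥(centM z) ≤ n := by
  classical
  simp only [coverOK, Bool.and_eq_true, List.all_eq_true, List.mem_range, Nat.blt_eq] at hW
  obtain ⟨⟨⟨hcov, hlen⟩, hr⟩, hopt⟩ := hW
  let T : Equiv.Perm GolayPt → List ℕ := fun g => reps.map fun r => idx (g (pt r))
  have hget : ∀ g : Equiv.Perm GolayPt, ∀ j < reps.length, (T g).getD j 0 = idx (g (pt (reps.getD j 0))) :=
    fun g j hj => by simp [T, List.getD_eq_getElem?_getD, List.getElem?_map, List.getElem?_eq_getElem hj]
  have hrep : ∀ g ∈ centM z, Repr (cand c W (T g)) g := by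
    intro g hg q
    obtain ⟨hlt, he⟩ := hcov _ (idx_lt q)
    set k := (W.getD (idx q) (0, 0)).2
    set j := (W.getD (idx q) (0, 0)).1
    rw [cand, ((pack_spec _ (fun _ => Nat.mod_lt _ (by norm_num))) 24).2 _ (idx_lt q)]
    show idx (g q) = papps c k ((T g).getD j 0) % 32
    have hq : q = (z ^ k) (pt (reps.getD j 0)) := idx_injective (by
      rw [papps_spec hz, idx_pt (hr _ (by rw [List.getD_eq_getElem reps 0 hlt]; exact List.getElem_mem hlt))]
      exact (Nat.eq_of_beq_eq_true he).symm)
    rw [hget g j hlt]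
    have hc : Commute g (z ^ k) := Commute.pow_right (mem_centM.mp hg).2 k
    have h2 : g q = (z ^ k) (g (pt (reps.getD j 0))) := by
      conv_lhs => rw [hq]
      rw [← Equiv.Perm.mul_apply, hc.eq, Equiv.Perm.mul_apply]
    rw [h2, papps_spec hz, Nat.mod_eq_of_lt]
    rw [← papps_spec hz]
    exact lt_trans (idx_lt _) (by norm_num)
  let S := ((tuples opts).filter fun t => gensKept (cand c W t)).toFinset
  have hmem : ∀ g : ↥(centM z), T g.1 ∈ S := by
    rintro ⟨g, hg⟩
    simp only [S, List.mem_toFinset, List.mem_filter]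
    refine ⟨mem_tuples _ _ (by simp [T, Nat.eq_of_beq_eq_true hlen]) fun j hj => ?_,
      gensKept_of_mem (hrep g hg) (mem_centM.mp hg).1⟩
    rw [Nat.eq_of_beq_eq_true hlen] at hj
    rw [hget g j hj]
    have hj24 := hr (reps.getD j 0) (by rw [List.getD_eq_getElem reps 0 hj]; exact List.getElem_mem hj)
    rcases Bool.or_eq_true_iff.mp (hopt j hj _ (idx_lt (g (pt (reps.getD j 0))))) with h | h
    · simpa using h
    · exfalso
      have hcm := (mem_centM.mp hg).2
      have key : ∀ p, (Nat.beq (papp c (idx p)) (idx p) = true ↔ z p = p) := fun p => by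
        rw [← hz p]
        exact ⟨fun e => idx_injective (Nat.eq_of_beq_eq_true e), fun e => by rw [e]; exact Nat.beq_refl _⟩
      have e1 := key (g (pt (reps.getD j 0)))
      have e2 := key (pt (reps.getD j 0))
      rw [idx_pt hj24] at e2
      have e3 : z (g (pt (reps.getD j 0))) = g (pt (reps.getD j 0)) ↔ z (pt (reps.getD j 0)) = pt (reps.getD j 0) := by
        rw [← Equiv.Perm.mul_apply, ← hcm, Equiv.Perm.mul_apply]
        exact ⟨fun e => g.injective e, fun e => by rw [e]⟩
      rw [bne_iff_ne] at h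
      exact h (Bool.eq_iff_iff.mpr (e1.trans (e3.trans e2.symm)))
  calc Nat.card ↥(centM z) ≤ Nat.card S := by
        refine Nat.card_le_card_of_injective (fun g => ⟨T g.1, hmem g⟩) fun a b h => Subtype.ext ?_
        have h' : T a.1 = T b.1 := congrArg Subtype.val h
        exact (h' ▸ hrep a.1 a.2).unique (hrep b.1 b.2)
    _ ≤ n := by
        rw [Nat.card_eq_finsetCard, ← hn]
        exact List.toFinset_card_le _

/-- The code of an element of order eleven. -/
def c11 : ℕ := 736188695393936864989655424493060139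

/-- Whether the family of masks is mapped to itself by a code. -/
def famFixed (c n : ℕ) : Bool :=
  (unpackF 6 n).all fun m => (unpackF 6 n).any fun m' => Nat.beq (pmaskF c m) m'

theorem famFixed_iff {c : ℕ} {g : Equiv.Perm GolayPt} (hg : Repr c g) (n : ℕ) :
    famFixed c n = true ↔ g • famSet 6 n = famSet 6 n := by
  simp only [famFixed, List.all_eq_true, List.any_eq_true, pmaskF_eq]
  constructor
  · intro h
    refine Finset.eq_of_subset_of_card_le (fun s hs => ?_) (Finset.card_smul_finset g _).ge
    rw [smul_finset_eq_image, Finset.mem_image] at hs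
    obtain ⟨t, ht, rfl⟩ := hs
    simp only [famSet, Finset.mem_image, List.mem_toFinset] at ht ⊢
    obtain ⟨m, hm, rfl⟩ := ht
    obtain ⟨m', hm', he⟩ := h m hm
    exact ⟨m', hm', by rw [smul_set_pts, ← hg.toSet_pmask, Nat.eq_of_beq_eq_true he]⟩
  · intro h m hm
    have : g • toSet m ∈ famSet 6 n := by
      rw [← h]
      exact Finset.smul_mem_smul_finset (Finset.mem_image.mpr ⟨m, List.mem_toFinset.mpr hm, rfl⟩)
    simp only [famSet, Finset.mem_image, List.mem_toFinset] at this
    obtain ⟨m', hm', he⟩ := this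
    refine ⟨m', hm', ?_⟩
    rw [smul_set_pts, ← hg.toSet_pmask] at he
    rw [eq_of_toSet_eq (hg.pmask_lt m) (unpackF_lt _ _ m' hm') he.symm]
    exact Nat.beq_refl _

/-- Whether each mask of a family is mapped to itself by a code. -/
def memFixed (c n : ℕ) : Bool := (unpackF 6 n).all fun m => Nat.beq (pmaskF c m) m

theorem memFixed_iff {c : ℕ} {g : Equiv.Perm GolayPt} (hg : Repr c g) (n : ℕ) :
    memFixed c n = true ↔ ∀ s ∈ famSet 6 n, g • s = s := by
  simp only [memFixed, List.all_eq_true, pmaskF_eq, famSet, Finset.mem_image, List.mem_toFinset]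
  constructor
  · rintro h _ ⟨m, hm, rfl⟩
    rw [smul_set_pts, ← hg.toSet_pmask, Nat.eq_of_beq_eq_true (h m hm)]
  · intro h m hm
    have he := h _ ⟨m, hm, rfl⟩
    rw [smul_set_pts, ← hg.toSet_pmask] at he
    rw [eq_of_toSet_eq (hg.pmask_lt m) (unpackF_lt _ _ m hm) he]
    exact Nat.beq_refl _

/-- The code of the standard sextet. -/
def nS0 : ℕ := 11150382242010895008167239022564679587348520

theorem nS0_valid : (famK 6).Valid nS0 := famValidB_sound (by decide +kernel)

theorem S0_eq : (famK 6).dec nS0 = S0 := rfl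

theorem roots_checked :
    (okC rcS3A = true ∧ okC rcS3B = true ∧ okC rcS5 = true ∧ okC c11 = true ∧ okC cT = true) ∧
    ((cMS.count fun n => memFixed rcS3A n) = 1 ∧ memFixed rcS3A nS0 = true) ∧
    ((cMS.count fun n => (unpackF 6 n).any fun m => Nat.beq m (fixedMask rcS5)) = 1 ∧
      ((unpackF 6 nS0).any fun m => Nat.beq m (fixedMask rcS5)) = true) ∧
    (cMS.count fun n => famFixed rcS3B n) = 7 := by
  decide +kernel

/-- An element of the first class of order three. -/
noncomputable def x3A : M := el rcS3A roots_checked.1.1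
/-- An element of the second class of order three. -/
noncomputable def x3B : M := el rcS3B roots_checked.1.2.1
/-- An element of order five. -/
noncomputable def x5 : M := el rcS5 roots_checked.1.2.2.1
/-- An element of order eleven. -/
noncomputable def x11 : M := el c11 roots_checked.1.2.2.2.1
/-- An element of order twenty-three. -/
noncomputable def x23 : M := el cT roots_checked.1.2.2.2.2

theorem unique_sextet {P : Finset (Finset GolayPt) → Prop} {p : ℕ → Bool}
    (hp : ∀ n, (famK 6).Valid n → (p n = true ↔ P ((famK 6).dec n))) (h1 : cMS.count p = 1)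
    (h0 : p nS0 = true) {S : Finset (Finset GolayPt)} (hS : S ∈ sextets) (h : P S) : S = S0 := by
  have hc := ncard_sub_orbit nS0_valid cMS_ok P p hp
  rw [h1, S0_eq, ← sextets_eq_orbit] at hc
  have hP0 : P S0 := S0_eq ▸ (hp nS0 nS0_valid).mp h0
  exact (Set.ncard_le_one (Set.toFinite _)).mp hc.le S ⟨hS, h⟩ S0 ⟨S0_mem, hP0⟩

theorem cent_3A_le : centM (permDec rcS3A) ≤ stabM S0 := by
  intro g hg
  obtain ⟨hgM, hc⟩ := mem_centM.mp hg
  have hr := (okC_spec roots_checked.1.1).2.1
  refine mem_stabM.mpr ⟨hgM, unique_sextet (P := fun S => ∀ s ∈ S, permDec rcS3A • s = s) (fun n _ => memFixed_iff hr n) roots_checked.2.1.1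
    roots_checked.2.1.2 (smul_mem_sextets hgM S0_mem) ?_⟩
  intro s hs
  rw [smul_finset_eq_image, Finset.mem_image] at hs
  obtain ⟨t, ht, rfl⟩ := hs
  rw [← mul_smul, ← hc, mul_smul, (memFixed_iff hr nS0).mp roots_checked.2.1.2 t ht]

theorem cent_5_le : centM (permDec rcS5) ≤ stabM S0 := by
  intro g hg
  obtain ⟨hgM, hc⟩ := mem_centM.mp hg
  have hr := (okC_spec roots_checked.1.2.2.1).2.1
  have hiff : ∀ n, ((unpackF 6 n).any fun m => Nat.beq m (fixedMask rcS5)) = true ↔
      fixF (permDec rcS5) ∈ famSet 6 n := by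
    intro n
    simp only [List.any_eq_true, famSet, Finset.mem_image, List.mem_toFinset, fixF_repr hr]
    refine ⟨fun ⟨m, hm, he⟩ => ⟨m, hm, by rw [Nat.eq_of_beq_eq_true he]⟩, fun ⟨m, hm, he⟩ => ⟨m, hm, ?_⟩⟩
    rw [eq_of_toSet_eq (unpackF_lt _ _ m hm) (orBits_lt fun i hi => by
      simp only [List.mem_filter, List.mem_range] at hi; exact hi.1) he]
    exact Nat.beq_refl _
  refine mem_stabM.mpr ⟨hgM, unique_sextet (P := fun S => fixF (permDec rcS5) ∈ S) (fun n _ => hiff n)
    roots_checked.2.2.1.1 roots_checked.2.2.1.2 (smul_mem_sextets hgM S0_mem) ?_⟩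
  show fixF (permDec rcS5) ∈ g • S0
  have he : g • fixF (permDec rcS5) = fixF (permDec rcS5) := by
    rw [smul_set_pts, ← fixF_conj, hc, mul_inv_cancel_right]
  rw [← he]
  exact Finset.smul_mem_smul_finset ((hiff nS0).mp roots_checked.2.2.1.2)

theorem card_3A : Nat.card ↥(centM (permDec rcS3A)) = 1080 := by
  have h := cent_card stabS.1 inf_le_left gS_ok (okC_spec roots_checked.1.1).2.1
    (okC_spec roots_checked.1.1).1.1 cS3A_ok cent_3A_le
  rw [stabS.2, show cS3A.n = 128 from rfl] at h
  omega

theorem card_5 : Nat.card ↥(centM (permDec rcS5)) = 60 := by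
  have h := cent_card stabS.1 inf_le_left gS_ok (okC_spec roots_checked.1.2.2.1).2.1
    (okC_spec roots_checked.1.2.2.1).1.1 cS5_ok cent_5_le
  rw [stabS.2, show cS5.n = 2304 from rfl] at h
  omega

theorem card_3B_le : Nat.card ↥(centM (permDec rcS3B)) ≤ 504 := by
  classical
  set x := permDec rcS3B with hx
  have hr : Repr rcS3B x := (okC_spec roots_checked.1.2.1).2.1
  have h := card_inf_stab (H := centM x) S0
  have hsub : MulAction.orbit (centM x) S0 ⊆ {S | S ∈ MulAction.orbit M24 ((famK 6).dec nS0) ∧ x • S = S} := by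
    rintro _ ⟨⟨g, hg⟩, rfl⟩
    obtain ⟨hgM, hc⟩ := mem_centM.mp hg
    refine ⟨?_, ?_⟩
    · rw [S0_eq, ← sextets_eq_orbit]; exact smul_mem_sextets hgM S0_mem
    · have h0 : x • S0 = S0 := by
        have := (famFixed_iff hr nS0).mp (by decide +kernel)
        exact this
      show x • g • S0 = g • S0
      rw [← mul_smul, ← hc, mul_smul, h0]
  have h7 : (MulAction.orbit (centM x) S0).ncard ≤ 7 := by
    refine (Set.ncard_le_ncard hsub (Set.toFinite _)).trans ?_
    rw [ncard_sub_orbit nS0_valid cMS_ok (fun S => x • S = S) (famFixed rcS3B)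
      (fun n _ => famFixed_iff hr n), roots_checked.2.2.2]
  have h72 : Nat.card ↥(centM x ⊓ MulAction.stabilizer (Equiv.Perm GolayPt) S0) = 72 := by
    have e : centM x ⊓ MulAction.stabilizer (Equiv.Perm GolayPt) S0 =
        stabM S0 ⊓ MulAction.stabilizer (Equiv.Perm GolayPt) (⟨x⟩ : PConj) := by
      ext g
      rw [Subgroup.mem_inf, Subgroup.mem_inf, mem_centM, mem_stabM]
      have hp : g ∈ MulAction.stabilizer (Equiv.Perm GolayPt) (⟨x⟩ : PConj) ↔ g * x = x * g :=
        MulAction.mem_stabilizer_iff.trans pconj_fix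
      rw [hp]
      exact ⟨fun h => ⟨⟨h.1.1, h.2⟩, h.1.2⟩, fun h => ⟨⟨h.1.1, h.2⟩, h.1.2⟩⟩
    have h1 := card_inf_stab (H := stabM S0) (⟨x⟩ : PConj)
    have ho := orbit_std (K := conjK) stabS.1 gS_ok (⟨(okC_spec roots_checked.1.2.1).1.1, x, hr⟩) cS3B_ok
    rw [show conjK.dec rcS3B = (⟨x⟩ : PConj) from PConj.val_injective rfl] at ho
    rw [ho, stabS.2, show cS3B.n = 1920 from rfl] at h1
    rw [e]; omega
  rw [h72] at h
  omega

theorem card_11_le : Nat.card ↥(centM (permDec c11)) ≤ 11 :=
  cent_card_le (reps := [0, 1, 3, 9])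
    (W := (List.range 24).map fun i => ((([0, 1, 3, 9] : List ℕ).findIdx fun r =>
      (List.range 11).any fun k => Nat.beq (papps c11 k r) i), (List.range 11).findIdx fun k =>
      ([0, 1, 3, 9] : List ℕ).any fun r => Nat.beq (papps c11 k r) i))
    (opts := [(List.range 24).filter fun i => i != 1 && i != 9, [1, 9],
      (List.range 24).filter fun i => i != 1 && i != 9, [1, 9]])
    (okC_spec roots_checked.1.2.2.2.1).2.1 (by decide +kernel) (by decide +kernel)

theorem card_23_le : Nat.card ↥(centM (permDec cT)) ≤ 23 :=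
  cent_card_le (reps := [0, 23]) (W := (List.range 24).map fun i => if i = 23 then (1, 0) else (0, i))
    (opts := [List.range 23, [23]])
    (okC_spec roots_checked.1.2.2.2.2).2.1 (by decide +kernel) (by decide +kernel)

end CfsgM24Det
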