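/-
The exact table of element orders of the Mathieu group of degree twenty-four.
-/
import Cfsg.Agent.Lib.M24Det.Perms
import Cfsg.Agent.Lib.M24Det.Counts
import Cfsg.Agent.Lib.M24Det.OrbitA
import Cfsg.Agent.Lib.M24Det.OrbitB
import Cfsg.Agent.Lib.M24Det.OrbitC
import Cfsg.Agent.Lib.M24Det.OrbitD
import Cfsg.Agent.Lib.Golay.Seven
import Cfsg.Agent.Lib.M11Det.Basic

set_option autoImplicit false
set_option linter.style.haveILetI false
set_option maxRecDepth 20000

namespace CfsgM24Det

open Cfsg CfsgGolay CfsgLib.SameOrderCounts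
open scoped Pointwise

attribute [local irreducible] codeL octadL dodecadL slpCodes

/-- The code has exact order `n`. -/
def ordB (c n : ℕ) : Bool :=
  Nat.blt 0 n && Out23.eqCode (ppow c n) pid &&
    (List.range n).all fun m => Nat.beq m 0 || !Out23.eqCode (ppow c m) pid

theorem el_repr (c : ℕ) (h : okC c = true) : Repr c ((el c h : M) : Equiv.Perm GolayPt) := (okC_spec h).2.1

theorem el_order {c n : ℕ} (h : okC c = true) (hn : ordB c n = true) : orderOf (el c h) = n := by
  simp only [ordB, Bool.and_eq_true, Nat.blt_eq, List.all_eq_true, List.mem_range, Bool.or_eq_true,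
    Bool.not_eq_true'] at hn
  obtain ⟨⟨h0, h1⟩, h2⟩ := hn
  rw [← Subgroup.orderOf_coe, orderOf_eq_iff h0]
  refine ⟨(Out23.eqCode_iff ((el_repr c h).pow n) repr_pid).mp h1, fun m hm hm0 he => ?_⟩
  rcases h2 m hm with e | e
  · rw [Nat.eq_of_beq_eq_true e] at hm0; exact lt_irrefl 0 hm0
  · rw [(Out23.eqCode_iff ((el_repr c h).pow m) repr_pid).mpr he] at e
    exact Bool.noConfusion e

theorem el_pow {c d e : ℕ} (h : okC c = true) (hd : okC d = true)
    (he : Out23.eqCode (ppow c e) d = true) : el c h ^ e = el d hd :=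
  Subtype.ext (by
    rw [SubmonoidClass.coe_pow]
    exact (Out23.eqCode_iff ((el_repr c h).pow e) (el_repr d hd)).mp he)

/-- The conjugates of a root under a certified group, inside the group. -/
def fibre (L : List GenT) (rc : ℕ) : Set M :=
  {g | (⟨(g : Equiv.Perm GolayPt)⟩ : PConj) ∈ MulAction.orbit (Gr L) (⟨permDec rc⟩ : PConj)}

theorem fibre_ncard {L : List GenT} (hL : gensOK L = true) {rc : ℕ} {C : Cert} (hrc : okC rc = true)
    (hC : orbOK cactF L rc C = true) : (fibre L rc).ncard = C.n := by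
  have hinj : Function.Injective fun g : M => (⟨(g : Equiv.Perm GolayPt)⟩ : PConj) :=
    fun a b e => Subtype.ext (congrArg PConj.val e)
  have ho := orbit_std (K := conjK) (H := Gr L) rfl hL (okC_spec hrc).1 hC
  refine Eq.trans (Set.ncard_preimage_of_injective_subset_range hinj ?_) ho
  rintro _ ⟨⟨k, hk⟩, rfl⟩
  exact ⟨⟨k * permDec rc * k⁻¹, mul_mem (mul_mem (Gr_le_M24 hL hk) (okC_spec hrc).2.2)
    (inv_mem (Gr_le_M24 hL hk))⟩, rfl⟩

theorem fibre_spec {L : List GenT} {d : ℕ} (hd : okC d = true) (hL : gensOK L = true)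
    (hcomm : commB d L = true) {rc n e : ℕ} (hrc : okC rc = true) (hn : ordB rc n = true)
    (he : Out23.eqCode (ppow rc e) d = true) {g : M} (hg : g ∈ fibre L rc) :
    orderOf g = n ∧ g ^ e = el d hd := by
  obtain ⟨⟨k, hk⟩, hkg⟩ := hg
  obtain ⟨hkM, hkc⟩ := mem_centM.mp (Gr_le_centM hL (el_repr d hd) hcomm hk)
  let km : M := ⟨k, hkM⟩
  have hg' : g = MulAut.conj km (el rc hrc) := Subtype.ext (congrArg PConj.val hkg).symm
  subst hg'
  refine ⟨by rw [MulEquiv.orderOf_eq, el_order hrc hn], ?_⟩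
  rw [← map_pow, el_pow hrc hd he, MulAut.conj_apply,
    show km * el d hd = el d hd * km from Subtype.ext hkc, mul_inv_cancel_right]

theorem fibre_disjoint {L : List GenT} (hL : gensOK L = true) {rc rc' : ℕ} {C : Cert} (hrc : okC rc = true)
    (hrc' : okC rc' = true) (hC : orbOK cactF L rc C = true) (hne : C.mem' rc' = false) :
    Disjoint (fibre L rc) (fibre L rc') := by
  rw [Set.disjoint_left]
  intro g h1 h2
  have h1' := MulAction.orbit_eq_iff.mpr h1
  have h2' := MulAction.orbit_eq_iff.mpr h2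
  have hmem : (⟨permDec rc'⟩ : PConj) ∈ MulAction.orbit (Gr L) (⟨permDec rc⟩ : PConj) :=
    MulAction.orbit_eq_iff.mp (h2'.symm.trans h1')
  have hcert := orbit_cert (K := conjK) (okC_spec hrc).1 hL hC
  rw [show conjK.dec rc = (⟨permDec rc⟩ : PConj) from rfl] at hcert
  rw [hcert] at hmem
  obtain ⟨m, hm, hmd⟩ := hmem
  obtain ⟨j, hj, rfl⟩ := Finset.mem_image.mp (Finset.mem_coe.mp hm)
  rw [Finset.mem_range] at hj
  have heq : C.obj j = rc' :=
    permDec_injOn (orb_valid (K := conjK) (okC_spec hrc).1 hL hC j hj).1 (okC_spec hrc').1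
      (congrArg PConj.val hmd)
  have : C.mem' rc' = true := by
    simp only [Cert.mem', List.any_eq_true, List.mem_range]
    exact ⟨j, hj, by rw [heq]; exact Nat.beq_refl _⟩
  rw [hne] at this
  exact Bool.noConfusion this

theorem two_ok : okC e2A = true ∧ okC e2B = true ∧ okC e7 = true ∧
    commB e2A gC2A = true ∧ commB e2B gC2B = true := by decide +kernel

/-- An involution of the first class. -/
noncomputable def tA : M := el e2A two_ok.1
/-- An involution of the second class. -/
noncomputable def tB : M := el e2B two_ok.2.1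
/-- An element of order seven. -/
noncomputable def x7 : M := el e7 two_ok.2.2.1

theorem card_M : Nat.card M = 244823040 := card_M24

theorem tA_val : (tA : Equiv.Perm GolayPt) = r2A := by rw [tA, el_val, r2A]
theorem tB_val : (tB : Equiv.Perm GolayPt) = r2B := by rw [tB, el_val, r2B]
theorem x3A_val : (x3A : Equiv.Perm GolayPt) = permDec rcS3A := by rw [x3A, el_val]
theorem x3B_val : (x3B : Equiv.Perm GolayPt) = permDec rcS3B := by rw [x3B, el_val]
theorem x5_val : (x5 : Equiv.Perm GolayPt) = permDec rcS5 := by rw [x5, el_val]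
theorem x11_val : (x11 : Equiv.Perm GolayPt) = permDec c11 := by rw [x11, el_val]
theorem x23_val : (x23 : Equiv.Perm GolayPt) = permDec cT := by rw [x23, el_val]

theorem cls_2A : Nat.card {g : M // IsConj tA g} = 11385 := by
  rw [card_class tA card_M (c := 21504) (by rw [card_cent_M, tA_val, card_cent_2A])]

theorem cls_2B : Nat.card {g : M // IsConj tB g} = 31878 := by
  rw [card_class tB card_M (c := 7680) (by rw [card_cent_M, tB_val, card_cent_2B])]

theorem fix_conj {a b : M} (h : IsConj a b) :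
    (fixF (b : Equiv.Perm GolayPt)).card = (fixF (a : Equiv.Perm GolayPt)).card := by
  obtain ⟨k, rfl⟩ := isConj_iff.mp h
  exact card_fixF_conj _ _

theorem fix_tA : (fixF (tA : Equiv.Perm GolayPt)).card = 8 := by
  rw [tA_val, card_fix_2A]
theorem fix_tB : (fixF (tB : Equiv.Perm GolayPt)).card = 0 := by
  rw [tB_val, card_fix_2B]

theorem tA_ne_tB {g : M} (h : IsConj tA g) : ¬ IsConj tB g := fun h' => by
  have := (fix_conj h).symm.trans (fix_conj h')
  rw [fix_tA, fix_tB] at this
  omega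

/-- The bound given by one fibre. -/
theorem even_le {d : ℕ} (hd : okC d = true)
    (S : Set M) (n e m : ℕ) (hS : ∀ g ∈ S, orderOf g = n ∧ g ^ e = el d hd) (hm : m ≤ S.ncard) :
    Nat.card {g : M // IsConj (el d hd) g} * m ≤
      Nat.card {g : M // orderOf g = n ∧ IsConj (el d hd) (g ^ e)} := by
  classical
  haveI := Fintype.ofFinite S
  refine le_trans (Nat.mul_le_mul_left _ hm) ?_
  rw [Set.ncard_eq_toFinset_card']
  exact mul_card_le_pow_class (el d hd) n e S.toFinset fun g hg => hS g (Set.mem_toFinset.mp hg)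

theorem roots_even :
    ((okC rcM4A = true ∧ ordB rcM4A 4 = true ∧ Out23.eqCode (ppow rcM4A 2) e2A = true) ∧
    (okC rcM4B = true ∧ ordB rcM4B 4 = true ∧ Out23.eqCode (ppow rcM4B 2) e2A = true) ∧
    (okC rcM4C = true ∧ ordB rcM4C 4 = true ∧ Out23.eqCode (ppow rcM4C 2) e2B = true) ∧
    (okC rcM6A = true ∧ ordB rcM6A 6 = true ∧ Out23.eqCode (ppow rcM6A 3) e2A = true) ∧
    (okC rcM6B = true ∧ ordB rcM6B 6 = true ∧ Out23.eqCode (ppow rcM6B 3) e2B = true)) ∧
    ((okC rcM8 = true ∧ ordB rcM8 8 = true ∧ Out23.eqCode (ppow rcM8 4) e2A = true) ∧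
    (okC rcM10 = true ∧ ordB rcM10 10 = true ∧ Out23.eqCode (ppow rcM10 5) e2B = true) ∧
    (okC rcM12A = true ∧ ordB rcM12A 12 = true ∧ Out23.eqCode (ppow rcM12A 6) e2A = true) ∧
    (okC rcM12B = true ∧ ordB rcM12B 12 = true ∧ Out23.eqCode (ppow rcM12B 6) e2B = true)) ∧
    cM4A.mem' rcM4B = false := by decide +kernel

theorem le_4 : 5100480 ≤ cnt M 4 := by
  obtain ⟨⟨⟨a1, a2, a3⟩, ⟨b1, b2, b3⟩, ⟨c1, c2, c3⟩, -⟩, -, hne⟩ := roots_even
  refine le_trans ?_ (add_le_cnt 4 (fun g => IsConj tA (g ^ 2)) (fun g => IsConj tB (g ^ 2))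
    fun g _ h => tA_ne_tB h)
  have hA := even_le two_ok.1 (fibre gC2A rcM4A ∪ fibre gC2A rcM4B) 4 2 224
    (fun g hg => hg.elim (fibre_spec _ gC2A_ok two_ok.2.2.2.1 a1 a2 a3)
      (fibre_spec _ gC2A_ok two_ok.2.2.2.1 b1 b2 b3))
    (le_of_eq (by
      rw [Set.ncard_union_eq (fibre_disjoint gC2A_ok a1 b1 cM4A_ok hne), fibre_ncard gC2A_ok a1 cM4A_ok,
        fibre_ncard gC2A_ok b1 cM4B_ok, show cM4A.n = 56 from rfl, show cM4B.n = 168 from rfl]))
  have hB := even_le two_ok.2.1 (fibre gC2B rcM4C) 4 2 80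
    (fun g hg => fibre_spec _ gC2B_ok two_ok.2.2.2.2 c1 c2 c3 hg)
    (fibre_ncard gC2B_ok c1 cM4C_ok).ge
  rw [← tA, cls_2A] at hA
  rw [← tB, cls_2B] at hB
  omega

theorem le_6 : 20401920 ≤ cnt M 6 := by
  obtain ⟨⟨-, -, -, ⟨a1, a2, a3⟩, ⟨b1, b2, b3⟩⟩, -, -⟩ := roots_even
  refine le_trans ?_ (add_le_cnt 6 (fun g => IsConj tA (g ^ 3)) (fun g => IsConj tB (g ^ 3))
    fun g _ h => tA_ne_tB h)
  have hA := even_le two_ok.1 (fibre gC2A rcM6A) 6 3 896
    (fun g hg => fibre_spec _ gC2A_ok two_ok.2.2.2.1 a1 a2 a3 hg)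
    (fibre_ncard gC2A_ok a1 cM6A_ok).ge
  have hB := even_le two_ok.2.1 (fibre gC2B rcM6B) 6 3 320
    (fun g hg => fibre_spec _ gC2B_ok two_ok.2.2.2.2 b1 b2 b3 hg)
    (fibre_ncard gC2B_ok b1 cM6B_ok).ge
  rw [← tA, cls_2A] at hA
  rw [← tB, cls_2B] at hB
  omega

theorem le_12 : 40803840 ≤ cnt M 12 := by
  obtain ⟨-, ⟨-, -, ⟨a1, a2, a3⟩, ⟨b1, b2, b3⟩⟩, -⟩ := roots_even
  refine le_trans ?_ (add_le_cnt 12 (fun g => IsConj tA (g ^ 6)) (fun g => IsConj tB (g ^ 6))
    fun g _ h => tA_ne_tB h)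
  have hA := even_le two_ok.1 (fibre gC2A rcM12A) 12 6 1792
    (fun g hg => fibre_spec _ gC2A_ok two_ok.2.2.2.1 a1 a2 a3 hg)
    (fibre_ncard gC2A_ok a1 cM12A_ok).ge
  have hB := even_le two_ok.2.1 (fibre gC2B rcM12B) 12 6 640
    (fun g hg => fibre_spec _ gC2B_ok two_ok.2.2.2.2 b1 b2 b3 hg)
    (fibre_ncard gC2B_ok b1 cM12B_ok).ge
  rw [← tA, cls_2A] at hA
  rw [← tB, cls_2B] at hB
  omega

theorem le_8 : 15301440 ≤ cnt M 8 := by
  obtain ⟨-, ⟨⟨a1, a2, a3⟩, -⟩, -⟩ := roots_even
  have h := even_le two_ok.1 (fibre gC2A rcM8) 8 4 1344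
    (fun g hg => fibre_spec _ gC2A_ok two_ok.2.2.2.1 a1 a2 a3 hg)
    (fibre_ncard gC2A_ok a1 cM8_ok).ge
  rw [← tA, cls_2A] at h
  refine le_trans ?_ (Nat.card_le_card_of_injective
    (fun g : {g : M // orderOf g = 8 ∧ IsConj tA (g ^ 4)} => (⟨g.1, g.2.1⟩ : {g : M // orderOf g = 8}))
    fun a b hab => Subtype.ext (congrArg Subtype.val hab :))
  omega

theorem le_10 : 12241152 ≤ cnt M 10 := by
  obtain ⟨-, ⟨-, ⟨a1, a2, a3⟩, -⟩, -⟩ := roots_even
  have h := even_le two_ok.2.1 (fibre gC2B rcM10) 10 5 384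
    (fun g hg => fibre_spec _ gC2B_ok two_ok.2.2.2.2 a1 a2 a3 hg)
    (fibre_ncard gC2B_ok a1 cM10_ok).ge
  rw [← tB, cls_2B] at h
  refine le_trans ?_ (Nat.card_le_card_of_injective
    (fun g : {g : M // orderOf g = 10 ∧ IsConj tB (g ^ 5)} => (⟨g.1, g.2.1⟩ : {g : M // orderOf g = 10}))
    fun a b hab => Subtype.ext (congrArg Subtype.val hab :))
  omega

theorem le_2 : 43263 ≤ cnt M 2 := by
  refine le_trans ?_ (add_le_cnt 2 (fun g => IsConj tA g) (fun g => IsConj tB g) fun g _ h => tA_ne_tB h)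
  have h : ∀ t : M, orderOf t = 2 → Nat.card {g : M // IsConj t g} ≤
      Nat.card {g : M // orderOf g = 2 ∧ IsConj t g} := fun t ht =>
    Nat.card_le_card_of_injective (fun g => ⟨g.1, by
      obtain ⟨k, hk⟩ := isConj_iff.mp g.2
      refine ⟨?_, g.2⟩
      rw [← hk, ← MulAut.conj_apply, MulEquiv.orderOf_eq, ht]⟩)
      fun a b e => Subtype.ext (congrArg Subtype.val e :)
  have hA := h tA (by rw [← Subgroup.orderOf_coe, tA_val, order_2A])
  have hB := h tB (by rw [← Subgroup.orderOf_coe, tB_val, order_2B])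
  rw [cls_2A] at hA; rw [cls_2B] at hB
  omega

theorem three_checked : ordB rcS3A 3 = true ∧ ordB rcS3B 3 = true ∧ ordB rcS5 5 = true ∧ ordB c11 11 = true ∧
    ordB cT 23 = true ∧ ordB e7 7 = true ∧ pc (fixedMask rcS3A) = 6 ∧ pc (fixedMask rcS3B) = 0 := by decide +kernel

theorem le_3 : 712448 ≤ cnt M 3 := by
  obtain ⟨ha, hb, -, -, -, -, hfa, hfb⟩ := three_checked
  have fa : (fixF (x3A : Equiv.Perm GolayPt)).card = 6 := by
    rw [x3A_val, fixF_repr (okC_spec roots_checked.1.1).2.1, card_toSet]; exact hfa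
  have fb : (fixF (x3B : Equiv.Perm GolayPt)).card = 0 := by
    rw [x3B_val, fixF_repr (okC_spec roots_checked.1.2.1).2.1, card_toSet]; exact hfb
  refine le_trans ?_ (add_le_cnt 3 (fun g => IsConj x3A g) (fun g => IsConj x3B g) fun g _ h h' => by
    have := (fix_conj h).symm.trans (fix_conj h')
    rw [fa, fb] at this
    omega)
  have h : ∀ t : M, orderOf t = 3 → Nat.card {g : M // IsConj t g} ≤
      Nat.card {g : M // orderOf g = 3 ∧ IsConj t g} := fun t ht =>
    Nat.card_le_card_of_injective (fun g => ⟨g.1, by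
      obtain ⟨k, hk⟩ := isConj_iff.mp g.2
      refine ⟨?_, g.2⟩
      rw [← hk, ← MulAut.conj_apply, MulEquiv.orderOf_eq, ht]⟩)
      fun a b e => Subtype.ext (congrArg Subtype.val e :)
  have hA := h x3A (el_order _ ha)
  have hB := h x3B (el_order _ hb)
  have cA := card_class_mul x3A
  have cB := card_class_mul x3B
  rw [card_M, show Nat.card (Subgroup.centralizer ({x3A} : Set M)) = 1080 by rw [card_cent_M, x3A_val, card_3A]] at cA
  rw [card_M] at cB
  have cB' : Nat.card (Subgroup.centralizer ({x3B} : Set M)) ≤ 504 := by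
    rw [card_cent_M, x3B_val]; exact card_3B_le
  have := Nat.mul_le_mul_left (Nat.card {g : M // IsConj x3B g}) cB'
  omega

theorem sylow_M (p : ℕ) [hp : Fact p.Prime] (hp5 : p = 5 ∨ p = 7 ∨ p = 11 ∨ p = 23) (P : Sylow p M) :
    Nat.card (P : Subgroup M) = p := by
  rw [P.card_eq_multiplicity, card_M,
    factorization_eq (k := 1) (q := 244823040 / p) hp.out (by rcases hp5 with rfl | rfl | rfl | rfl <;> norm_num)
      (by rcases hp5 with rfl | rfl | rfl | rfl <;> norm_num), pow_one]

theorem norm_le {p : ℕ} [hp : Fact p.Prime] (x : M) (hx : orderOf x = p) :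
    Nat.card (Subgroup.normalizer (Subgroup.zpowers x : Set M)) ≤
      Nat.card (Subgroup.centralizer ({x} : Set M)) * (p - 1) := by
  classical
  set H := Subgroup.zpowers x with hH
  let f := Subgroup.normalizerMonoidHom H
  rw [← Subgroup.card_mul_index f.ker, Subgroup.index_ker]
  refine Nat.mul_le_mul ?_ ?_
  · refine Nat.card_le_card_of_injective
      (fun g : f.ker => (⟨g.1.1, ?_⟩ : Subgroup.centralizer ({x} : Set M))) fun a b e => ?_
    · have hg : g.1 ∈ (Subgroup.centralizer (H : Set M)).subgroupOf (Subgroup.normalizer (H : Set M)) :=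
        H.normalizerMonoidHom_ker ▸ g.2
      rw [Subgroup.mem_subgroupOf, Subgroup.mem_centralizer_iff] at hg
      rw [Subgroup.mem_centralizer_singleton_iff]
      exact (hg x (Subgroup.mem_zpowers x)).symm
    · exact Subtype.ext (Subtype.ext (congrArg Subtype.val e :))
  · refine (Subgroup.card_le_card_group _).trans ?_
    rw [IsCyclic.card_mulAut, Nat.card_zpowers, hx, Nat.totient_prime hp.out]

theorem cnt_prime_mul (p : ℕ) [hp : Fact p.Prime] (hp5 : p = 5 ∨ p = 7 ∨ p = 11 ∨ p = 23) (x : M)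
    (hx : orderOf x = p) :
    ∃ np, cnt M p = np * (p - 1) ∧ np % p = 1 ∧
      np * Nat.card (Subgroup.normalizer (Subgroup.zpowers x : Set M)) = 244823040 := by
  classical
  obtain ⟨P, hP⟩ := (IsPGroup.of_card (p := p) (n := 1)
    (show Nat.card (Subgroup.zpowers x) = p ^ 1 by rw [Nat.card_zpowers, hx, pow_one])).exists_le_sylow
  have hPx : Subgroup.zpowers x = (P : Subgroup M) :=
    Subgroup.eq_of_le_of_card_ge hP (by rw [sylow_M p hp5, Nat.card_zpowers, hx])
  refine ⟨Nat.card (Sylow p M), CfsgM11Det.count_prime (sylow_M p hp5), ?_, ?_⟩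
  · have := card_sylow_modEq_one p M
    rw [Nat.ModEq, Nat.mod_eq_of_lt hp.out.one_lt] at this
    exact this
  · rw [P.card_eq_index_normalizer, hPx, mul_comm]
    exact ((Subgroup.normalizer (P : Set M)).card_mul_index).trans card_M

theorem le_5 : 4080384 ≤ cnt M 5 := by
  haveI : Fact (Nat.Prime 5) := ⟨by norm_num⟩
  have hx : orderOf x5 = 5 := el_order _ three_checked.2.2.1
  obtain ⟨n, h1, -, h2⟩ := cnt_prime_mul 5 (Or.inl rfl) x5 hx
  have hN := norm_le x5 hx
  rw [card_cent_M, x5_val, card_5] at hN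
  have := Nat.mul_le_mul_left n hN
  omega

theorem le_11 : 22256640 ≤ cnt M 11 := by
  haveI : Fact (Nat.Prime 11) := ⟨by norm_num⟩
  have hx : orderOf x11 = 11 := el_order _ three_checked.2.2.2.1
  obtain ⟨n, h1, -, h2⟩ := cnt_prime_mul 11 (Or.inr (Or.inr (Or.inl rfl))) x11 hx
  have hN := norm_le x11 hx
  have hC : Nat.card (Subgroup.centralizer ({x11} : Set M)) ≤ 11 := by
    rw [card_cent_M, x11_val]; exact card_11_le
  have := Nat.mul_le_mul_left n (hN.trans (Nat.mul_le_mul_right _ hC))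
  omega

theorem le_23 : 21288960 ≤ cnt M 23 := by
  haveI : Fact (Nat.Prime 23) := ⟨by norm_num⟩
  have hx : orderOf x23 = 23 := el_order _ three_checked.2.2.2.2.1
  obtain ⟨n, h1, hmod, h2⟩ := cnt_prime_mul 23 (Or.inr (Or.inr (Or.inr rfl))) x23 hx
  have hN := norm_le x23 hx
  have hC : Nat.card (Subgroup.centralizer ({x23} : Set M)) ≤ 23 := by
    rw [card_cent_M, x23_val]; exact card_23_le
  have h506 : Nat.card (Subgroup.normalizer (Subgroup.zpowers x23 : Set M)) ≤ 506 :=
    hN.trans (Nat.mul_le_mul_right _ hC)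
  have hd : 23 ∣ Nat.card (Subgroup.normalizer (Subgroup.zpowers x23 : Set M)) := by
    refine dvd_trans (dvd_of_eq ?_) (Subgroup.card_dvd_of_le Subgroup.le_normalizer)
    rw [Nat.card_zpowers, hx]
  obtain ⟨k, hk⟩ := hd
  rw [hk] at h2 h506
  have hk' : k ≤ 22 := by omega
  interval_cases k <;> omega

theorem le_7 : 11658240 ≤ cnt M 7 := by
  haveI : Fact (Nat.Prime 7) := ⟨by norm_num⟩
  have hx : orderOf x7 = 7 := el_order _ three_checked.2.2.2.2.2.1
  obtain ⟨n, h1, -, h2⟩ := cnt_prime_mul 7 (Or.inr (Or.inl rfl)) x7 hx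
  rw [(seven_subgroups (Subgroup.zpowers x7) (by rw [Nat.card_zpowers, hx])).1] at h2
  omega

/-- Codes of elements of one order commuting with a given one. -/
def commList (b j : ℕ) (L : List ℕ) : Bool :=
  L.all fun c => okC c && ordB c j && Out23.eqCode (pcomp c b) (pcomp b c)

theorem commuting_ge {b j : ℕ} (hb : okC b = true) {L : List ℕ} (h : commList b j L = true) (hn : L.Nodup) :
    L.length ≤ Nat.card {g : M // orderOf g = j ∧ Commute g (el b hb)} := by
  classical
  simp only [commList, List.all_eq_true, Bool.and_eq_true] at h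
  let f : {c : ℕ // c ∈ L.toFinset} → {g : M // orderOf g = j ∧ Commute g (el b hb)} := fun c =>
    have hc := h c.1 (List.mem_toFinset.mp c.2)
    ⟨el c.1 hc.1.1, el_order _ hc.1.2, Subtype.ext
      ((Out23.eqCode_iff ((el_repr _ hc.1.1).comp (el_repr _ hb))
        ((el_repr _ hb).comp (el_repr _ hc.1.1))).mp hc.2)⟩
  have hf : Function.Injective f := fun a c e => by
    refine Subtype.ext (permDec_injOn (okC_spec (h a.1 (List.mem_toFinset.mp a.2)).1.1).1
      (okC_spec (h c.1 (List.mem_toFinset.mp c.2)).1.1).1 ?_)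
    exact congrArg (fun g : M => (g : Equiv.Perm GolayPt)) (congrArg Subtype.val e)
  have := Nat.card_le_card_of_injective f hf
  rwa [Nat.card_eq_finsetCard, List.toFinset_card_of_nodup hn] at this

/-- Elements of order three commuting with one of order five. -/
def five3 : List ℕ := [21559225347744567917342058690546401,
  28820811556157795885025418608237602,
  47595462196545319713515265581440064,
  58710812383211030853352759123970071,
  104709498266837503902648530119067360,
  111930520546013116136508655391572023,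
  961371256506978186241646457339281473,
  972527170622881513115307185526998018]

/-- Involutions commuting with an element of order seven. -/
def seven2 : List ℕ := [444819354843011001042152389339192744,
  796413832687407981393544408675794276,
  979121071158219704299181131031480352]

/-- Elements of order three commuting with one of order seven. -/
def seven3 : List ℕ := [422568463355601979860451430945201576,
  812967550797282178770877458642779492]

theorem comm_lists : commList rcS5 3 five3 = true ∧ commList e7 2 seven2 = true ∧ commList e7 3 seven3 = true ∧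
    five3.Nodup ∧ seven2.Nodup ∧ seven3.Nodup ∧ five3.length = 8 ∧ seven2.length = 3 ∧ seven3.length = 2 := by
  decide +kernel

theorem le_15 : 32643072 ≤ cnt M 15 := by
  haveI : Fact (Nat.Prime 5) := ⟨by norm_num⟩
  have h := commuting_ge roots_checked.1.2.2.1 comm_lists.1 comm_lists.2.2.2.1
  rw [comm_lists.2.2.2.2.2.2.1] at h
  rw [show (15 : ℕ) = 5 * 3 from rfl, cnt_mul_prime (sylow_M 5 (Or.inl rfl))
    (b := x5) (el_order _ three_checked.2.2.1) (by norm_num)]
  exact le_trans (by norm_num) (Nat.mul_le_mul le_5 h)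

theorem le_14 : 34974720 ≤ cnt M 14 := by
  haveI : Fact (Nat.Prime 7) := ⟨by norm_num⟩
  have h := commuting_ge two_ok.2.2.1 comm_lists.2.1 comm_lists.2.2.2.2.1
  rw [comm_lists.2.2.2.2.2.2.2.1] at h
  rw [show (14 : ℕ) = 7 * 2 from rfl, cnt_mul_prime (sylow_M 7 (Or.inr (Or.inl rfl)))
    (b := x7) (el_order _ three_checked.2.2.2.2.2.1) (by norm_num)]
  exact le_trans (by norm_num) (Nat.mul_le_mul le_7 h)

theorem le_21 : 23316480 ≤ cnt M 21 := by
  haveI : Fact (Nat.Prime 7) := ⟨by norm_num⟩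
  have h := commuting_ge two_ok.2.2.1 comm_lists.2.2.1 comm_lists.2.2.2.2.2.1
  rw [comm_lists.2.2.2.2.2.2.2.2] at h
  rw [show (21 : ℕ) = 7 * 3 from rfl, cnt_mul_prime (sylow_M 7 (Or.inr (Or.inl rfl)))
    (b := x7) (el_order _ three_checked.2.2.2.2.2.1) (by norm_num)]
  exact le_trans (by norm_num) (Nat.mul_le_mul le_7 h)

theorem sum_le {G : Type*} [Group G] [Finite G] (T : Finset ℕ) : ∑ n ∈ T, cnt G n ≤ Nat.card G := by
  classical
  haveI := Fintype.ofFinite G
  haveI : ∀ n : T, Fintype {g : G // orderOf g = (n : ℕ)} := fun n => Fintype.ofFinite _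
  rw [← Finset.sum_coe_sort T (fun n => cnt G n)]
  simp only [cnt]
  rw [← Nat.card_sigma]
  refine Nat.card_le_card_of_injective (fun s : Σ n : T, {g : G // orderOf g = (n : ℕ)} => s.2.1) ?_
  rintro ⟨⟨n, hn⟩, a, ha⟩ ⟨⟨m, hm⟩, b, hb⟩ e
  have e' : a = b := e
  subst e'
  have : n = m := ha.symm.trans hb
  subst this
  rfl

/-- The table of the group. -/
def target : List (ℕ × ℕ) :=
  [(1, 1), (2, 43263), (3, 712448), (4, 5100480), (5, 4080384), (6, 20401920), (7, 11658240), (8, 15301440),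
    (10, 12241152), (11, 22256640), (12, 40803840), (14, 34974720), (15, 32643072), (21, 23316480), (23, 21288960)]

theorem table : (∀ e ∈ target, cnt M e.1 = e.2) ∧ ∀ n, cnt M n ≠ 0 → n ∈ target.map Prod.fst := by
  have hs := sum_le (G := M) ({1, 2, 3, 4, 5, 6, 7, 8, 10, 11, 12, 14, 15, 21, 23} : Finset ℕ)
  simp (decide := true) only [Finset.sum_insert, Finset.mem_insert, Finset.mem_singleton,
    not_false_eq_true, Finset.sum_singleton, card_M, cnt_one] at hs
  have := le_2; have := le_3; have := le_4; have := le_5; have := le_6; have := le_7; have := le_8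
  have := le_10; have := le_11; have := le_12; have := le_14; have := le_15; have := le_21; have := le_23
  refine ⟨?_, fun n hn => ?_⟩
  · intro e he
    simp only [target, List.mem_cons, List.not_mem_nil, or_false] at he
    rcases he with rfl | rfl | rfl | rfl | rfl | rfl | rfl | rfl | rfl | rfl | rfl | rfl | rfl | rfl | rfl
    · exact cnt_one
    all_goals (dsimp only; omega)
  · by_contra hc
    have hT := sum_le (G := M) (insert n ({1, 2, 3, 4, 5, 6, 7, 8, 10, 11, 12, 14, 15, 21, 23} : Finset ℕ))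
    rw [Finset.sum_insert (by simpa [target] using hc)] at hT
    simp (decide := true) only [Finset.sum_insert, Finset.mem_insert, Finset.mem_singleton,
      not_false_eq_true, Finset.sum_singleton, card_M, cnt_one] at hT
    omega

/-- The set of values. -/
theorem values_M : {c : ℕ | 0 < c ∧ ∃ n : ℕ, c = Nat.card {g : M // orderOf g = n}} =
    {c : ℕ | c ∈ target.map Prod.snd} := by
  ext c
  constructor
  · rintro ⟨hc, n, rfl⟩
    have hn : cnt M n ≠ 0 := hc.ne'
    obtain ⟨e, he, rfl⟩ := List.mem_map.mp (table.2 n hn)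
    exact List.mem_map.mpr ⟨e, he, (table.1 e he).symm⟩
  · intro hc
    obtain ⟨e, he, rfl⟩ := List.mem_map.mp hc
    refine ⟨?_, e.1, (table.1 e he).symm⟩
    revert e
    decide

end CfsgM24Det
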